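import Cfsg.Agent.Cit.CorTwo
import Cfsg.Agent.Cit.TwoBasic
import Cfsg.Prelude.Def_TwoFusion

/-!
# A strongly closed commutative subgroup from an involution `z ∈ Z(S)`

`Z` an invariant set of involutions such that commuting is transitive on `Z`, `z ∈ Z` central in the Sylow 2-subgroup
`S`: the subgroup generated by the elements of `Z` commuting with `z` is strongly closed in `S`.
-/

set_option autoImplicit false
set_option linter.style.haveILetI false
set_option linter.unusedSectionVars false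

namespace Cfsg.Agent.Cit.Nil.RFour

open Subgroup Cfsg Cfsg.Agent.Cit

variable {G : Type*} [Group G]

/-- `Z` is an invariant set of involutions, commuting is transitive on `Z` -/
structure ComZ (Z : Set G) : Prop where
  sq : ∀ z ∈ Z, z * z = 1
  ne : ∀ z ∈ Z, z ≠ 1
  conj : ∀ z ∈ Z, ∀ g, g * z * g⁻¹ ∈ Z
  tr : ∀ z ∈ Z, ∀ s ∈ Z, ∀ s' ∈ Z, z * s = s * z → z * s' = s' * z → s * s' = s' * s

/-- the subgroup generated by the elements of `Z` commuting with `z` -/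
def AZ (Z : Set G) (z : G) : Subgroup G := closure {s | s ∈ Z ∧ z * s = s * z}

namespace ComZ

variable {Z : Set G} {z s u g x y : G} (c : ComZ Z)

include c

theorem AZ_comm (hz : z ∈ Z) : ∀ x ∈ AZ Z z, ∀ y ∈ AZ Z z, x * y = y * x := by
  have h1 : ∀ s ∈ Z, z * s = s * z → AZ Z z ≤ centralizer {s} := by
    intro s hs hzs
    rw [AZ, closure_le]
    rintro u ⟨hu, hzu⟩
    rw [SetLike.mem_coe, mem_centralizer_singleton_iff]
    exact c.tr z hz u hu s hs hzu hzs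
  intro x hx y hy
  have h2 : AZ Z z ≤ centralizer {y} := by
    rw [AZ, closure_le]
    rintro s ⟨hs, hzs⟩
    rw [SetLike.mem_coe, mem_centralizer_singleton_iff]
    exact (mem_centralizer_singleton_iff.1 (h1 s hs hzs hy)).symm
  exact mem_centralizer_singleton_iff.1 (h2 hx)

theorem AZ_sq (hz : z ∈ Z) : ∀ x ∈ AZ Z z, x * x = 1 := by
  intro x hx
  have hx' := hx
  rw [AZ] at hx'
  refine (closure_induction (p := fun x _ => x ∈ AZ Z z ∧ x * x = 1) ?_ ⟨one_mem _, by simp⟩ ?_ ?_ hx').2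
  · rintro a ⟨ha, hza⟩
    exact ⟨subset_closure ⟨ha, hza⟩, c.sq a ha⟩
  · rintro a b _ _ ⟨ha, ha2⟩ ⟨hb, hb2⟩
    refine ⟨mul_mem ha hb, ?_⟩
    calc a * b * (a * b) = a * (b * a) * b := by group
      _ = a * (a * b) * b := by rw [c.AZ_comm hz b hb a ha]
      _ = (a * a) * (b * b) := by group
      _ = 1 := by rw [ha2, hb2, one_mul]
  · rintro a _ ⟨ha, ha2⟩
    refine ⟨inv_mem ha, ?_⟩
    rw [← mul_inv_rev, ha2, inv_one]

theorem AZ_two (hz : z ∈ Z) : IsPGroup 2 (AZ Z z) := by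
  intro a
  refine ⟨1, Subtype.ext ?_⟩
  rw [pow_one, pow_two]
  exact c.AZ_sq hz a a.2

omit c in
theorem self_mem (hz : z ∈ Z) : z ∈ AZ Z z := subset_closure ⟨hz, rfl⟩

theorem AZ_eq (hz : z ∈ Z) (hs : s ∈ Z) (h : z * s = s * z) : AZ Z z = AZ Z s := by
  have key : ∀ {z s : G}, z ∈ Z → s ∈ Z → z * s = s * z → AZ Z z ≤ AZ Z s := by
    intro z s hz hs h
    refine closure_mono ?_
    rintro u ⟨hu, hzu⟩
    exact ⟨hu, c.tr z hz s hs u hu h hzu⟩
  exact le_antisymm (key hz hs h) (key hs hz h.symm)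

theorem AZ_conj (g : G) : AZ Z (g * z * g⁻¹) = cj g (AZ Z z) := by
  have key : ∀ (g z : G), cj g (AZ Z z) ≤ AZ Z (g * z * g⁻¹) := by
    intro g z
    refine Subgroup.map_le_iff_le_comap.2 ((closure_le _).2 ?_)
    rintro s ⟨hs, hzs⟩
    refine subset_closure ⟨c.conj s hs g, ?_⟩
    change g * z * g⁻¹ * (g * s * g⁻¹) = g * s * g⁻¹ * (g * z * g⁻¹)
    calc g * z * g⁻¹ * (g * s * g⁻¹) = g * (z * s) * g⁻¹ := by group
      _ = g * (s * z) * g⁻¹ := by rw [hzs]
      _ = _ := by group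
  refine le_antisymm ?_ (key g z)
  intro x hx
  have h1 : g⁻¹ * x * g⁻¹⁻¹ ∈ AZ Z (g⁻¹ * (g * z * g⁻¹) * g⁻¹⁻¹) := key g⁻¹ _ (conj_mem_cj (g := g⁻¹) hx)
  have e : g⁻¹ * (g * z * g⁻¹) * g⁻¹⁻¹ = z := by group
  rw [e] at h1
  have h2 := conj_mem_cj (g := g) h1
  have e2 : g * (g⁻¹ * x * g⁻¹⁻¹) * g⁻¹ = x := by group
  rwa [e2] at h2

theorem mem_norm_of (hz : z ∈ Z) (h : z * (g * z * g⁻¹) = (g * z * g⁻¹) * z) : g ∈ normalizer (AZ Z z : Set G) := by
  rw [mem_normalizer_iff_cj, ← c.AZ_conj g]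
  exact (c.AZ_eq hz (c.conj z hz g) h).symm

variable [Finite G] (S : Sylow 2 G) (hz : z ∈ Z) (hzS : z ∈ (S : Subgroup G)) (hcS : ∀ s ∈ (S : Subgroup G), s * z = z * s)

include hz hzS hcS

omit hzS in
theorem S_le : (S : Subgroup G) ≤ normalizer (AZ Z z : Set G) := by
  intro s hs
  refine c.mem_norm_of hz ?_
  rw [hcS s hs, mul_inv_cancel_right]

omit hzS in
/-- (P1) -/
theorem P1 {x : G} (hx : x * z * x⁻¹ ∈ normalizer (AZ Z z : Set G)) : x ∈ normalizer (AZ Z z : Set G) := by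
  haveI : Fact (Nat.Prime 2) := ⟨Nat.prime_two⟩
  set M := normalizer (AZ Z z : Set G) with hM
  have hSM : (S : Subgroup G) ≤ M := c.S_le S hz hcS
  set z' := x * z * x⁻¹ with hz'
  have hz'Z : z' ∈ Z := c.conj z hz x
  have h1 : IsPGroup 2 (zpowers (⟨z', hx⟩ : M)) := by
    refine IsPGroup.of_card (n := 1) ?_
    rw [Nat.card_zpowers, pow_one, ← orderOf_injective M.subtype (Subtype.coe_injective)]
    exact orderOf_eq_prime (by rw [pow_two]; exact c.sq z' hz'Z) (c.ne z' hz'Z)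
  obtain ⟨m, hm⟩ := exists_le_cj (S.subtype hSM) h1
  have h2 : (m : G)⁻¹ * z' * m ∈ (S : Subgroup G) := by
    have h3 := mem_cj.1 (hm (mem_zpowers _))
    exact h3
  -- `z'` commutes with `z^m`
  have h3 : (m * z * (m : G)⁻¹) * z' = z' * (m * z * (m : G)⁻¹) := by
    have h4 := hcS _ h2
    calc (m * z * (m : G)⁻¹) * z' = m * (z * ((m : G)⁻¹ * z' * m)) * (m : G)⁻¹ := by group
      _ = m * (((m : G)⁻¹ * z' * m) * z) * (m : G)⁻¹ := by rw [h4]
      _ = _ := by group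
  have h5 : m * z * (m : G)⁻¹ ∈ AZ Z z := (mem_normalizer_iff.1 m.2 z).1 (self_mem hz)
  have h6 : (m * z * (m : G)⁻¹) * z = z * (m * z * (m : G)⁻¹) := c.AZ_comm hz _ h5 _ (self_mem hz)
  have h7 := c.tr _ (c.conj z hz m) z hz z' hz'Z h6 h3
  exact c.mem_norm_of hz h7

/-- **a strongly closed commutative subgroup** -/
theorem exists_closed : IsStronglyClosed (AZ Z z) (S : Subgroup G) := by
  haveI : Fact (Nat.Prime 2) := ⟨Nat.prime_two⟩
  set A := AZ Z z with hA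
  set M := normalizer (A : Set G) with hM
  have hSM : (S : Subgroup G) ≤ M := c.S_le S hz hcS
  have hA2 : IsPGroup 2 A := c.AZ_two hz
  have hAS : A ≤ S := by
    have h1 : IsPGroup 2 (A ⊔ S : Subgroup G) := IsPGroup.to_sup_of_normal_left' hA2 S.isPGroup' hSM
    have h2 := S.is_maximal' h1 le_sup_right
    rw [← h2]
    exact le_sup_left
  have hAM : A ≤ M := le_normalizer
  have hzA : z ∈ A := self_mem hz
  -- (P3)
  have P3 : ∀ a ∈ A, ∀ R : Subgroup G, IsPGroup 2 R → (∀ r ∈ R, r * a = a * r) →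
      ∃ d, d * a = a * d ∧ cj d R ≤ M := by
    intro a ha R hR hRa
    set H : Subgroup G := centralizer {a} with hH
    have hAH : A ≤ H := fun x hx => mem_centralizer_singleton_iff.2 (c.AZ_comm hz x hx a ha)
    have hRH : R ≤ H := fun x hx => mem_centralizer_singleton_iff.2 (hRa x hx)
    obtain ⟨P, hP⟩ := (hA2.comap_subtype (K := H)).exists_le_sylow
    have hP2 : IsPGroup 2 ((P : Subgroup H).map H.subtype) := P.isPGroup'.map _
    have hAP : A ≤ (P : Subgroup H).map H.subtype := fun x hx => ⟨⟨x, hAH hx⟩, hP (mem_subgroupOf.2 hx), rfl⟩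
    have hPM : (P : Subgroup H).map H.subtype ≤ M := by
      by_contra hcon
      obtain ⟨b, hb, hb1, hb2⟩ := exists_normalizing hP2
        (A := (P : Subgroup H).map H.subtype ⊓ M) inf_le_left (fun h1 => hcon (inf_eq_left.1 h1))
      apply hb1
      refine Subgroup.mem_inf.2 ⟨hb, ?_⟩
      have h1 : z ∈ (P : Subgroup H).map H.subtype ⊓ M := Subgroup.mem_inf.2 ⟨hAP hzA, hAM hzA⟩
      have h2 := conj_mem_cj (g := b) h1
      rw [hb2] at h2
      exact c.P1 S hz hcS h2.2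
    obtain ⟨m, hm⟩ := exists_le_cj P (hR.comap_subtype (K := H))
    refine ⟨(m : G)⁻¹, ?_, ?_⟩
    · have h1 := mem_centralizer_singleton_iff.1 m.2
      rw [inv_mul_eq_iff_eq_mul, ← mul_assoc, h1, mul_inv_cancel_right]
    · intro x hx
      rw [mem_cj, inv_inv] at hx
      have h1 : (⟨(m : G) * x * (m : G)⁻¹, hRH hx⟩ : H) ∈ cj m (P : Subgroup H) := hm (mem_subgroupOf.2 hx)
      rw [mem_cj] at h1
      have h2 := hPM (mem_map_of_mem H.subtype h1)
      have h3 : H.subtype (m⁻¹ * (⟨(m : G) * x * (m : G)⁻¹, hRH hx⟩ : H) * m) = x := by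
        change (m : G)⁻¹ * ((m : G) * x * (m : G)⁻¹) * (m : G) = x
        group
      rwa [h3] at h2
  refine ⟨hAS, fun a ha g hg => ?_⟩
  set b := g * a * g⁻¹ with hbdef
  have hgb : g⁻¹ * b * g = a := by rw [hbdef]; group
  let R : Subgroup G := cj g⁻¹ ((S : Subgroup G) ⊓ centralizer {b})
  have hR : ∀ r ∈ R, g * r * g⁻¹ ∈ (S : Subgroup G) ⊓ centralizer {b} := by
    intro r hr
    rw [mem_cj, inv_inv] at hr
    exact hr
  have hR2 : IsPGroup 2 R := (S.isPGroup'.to_le inf_le_left).map _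
  obtain ⟨d, hd, hdR⟩ := P3 a ha R hR2 (fun r hr => by
    have h1 := mem_centralizer_singleton_iff.1 (hR r hr).2
    rw [← hgb]
    calc r * (g⁻¹ * b * g) = g⁻¹ * ((g * r * g⁻¹) * b) * g := by group
      _ = g⁻¹ * (b * (g * r * g⁻¹)) * g := by rw [h1]
      _ = _ := by group)
  -- `z^(d g⁻¹)` is in `M`
  have hbS : b ∈ (S : Subgroup G) := hg
  have hzR : z ∈ (S : Subgroup G) ⊓ centralizer {b} :=
    ⟨hzS, mem_centralizer_singleton_iff.2 (hcS b hbS).symm⟩
  have h1 : g⁻¹ * z * g⁻¹⁻¹ ∈ R := conj_mem_cj hzR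
  have h2 := hdR (conj_mem_cj (g := d) h1)
  have h3 : d * (g⁻¹ * z * g⁻¹⁻¹) * d⁻¹ = (d * g⁻¹) * z * (d * g⁻¹)⁻¹ := by group
  rw [h3] at h2
  have h4 := c.P1 S hz hcS h2
  have h5 : d⁻¹ * a * d = a := by
    rw [mul_assoc, ← hd, inv_mul_cancel_left]
  have h6 : b = (d * g⁻¹)⁻¹ * a * (d * g⁻¹)⁻¹⁻¹ := by
    calc b = g * a * g⁻¹ := hbdef
      _ = g * (d⁻¹ * a * d) * g⁻¹ := by rw [h5]
      _ = _ := by group
  rw [h6]
  exact (mem_normalizer_iff.1 (inv_mem h4) a).1 ha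

end ComZ

end Cfsg.Agent.Cit.Nil.RFour
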