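import Mathlib

/-!
# Affine ternary codes of length four with even distances

`Code C` : a set of points of `(Fin 3)^4`, closed under third points, such that distances are even.

* `Code.overlap` : supports of differences overlap evenly;
* `Code.exists_rr`, `no_supp`.
-/

set_option autoImplicit false
set_option linter.style.header false

namespace Cfsg.Agent.Cit.Nil.RFour

/-- a set of points closed under third points, distances are even -/
structure Code (C : (Fin 4 → Fin 3) → Prop) : Prop where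
  m : ∀ a b, C a → C b → C (fun i => -(a i + b i))
  even : ∀ a b, C a → C b → Even (∑ i, if a i = b i then 0 else 1 : ℕ)

theorem bool_compl : ∀ e f : Fin 4 → Bool, ∀ i1 : Fin 4, Even (∑ i, (e i).toNat) → Even (∑ i, (f i).toNat) →
    Even (∑ i, (e i && f i).toNat) → e i1 = false → f i1 = true → (∃ i, e i = true) → (∃ i, f i = false) →
    ∀ i, f i = !(e i) := by
  decide

/-- there are no three supports -/
theorem no_supp : ∀ e f : Fin 4 → Bool, Even (∑ i, (e i).toNat) → Even (∑ i, (f i).toNat) →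
    Even (∑ i, (e i && f i).toNat) → (∃ i, e i = true) → (∃ i, e i = false) → (∃ i, f i = true) →
    (∃ i, f i = false) → (∃ i, e i = f i) → (∃ i, e i ≠ f i) → False := by
  decide

namespace Code

variable {C : (Fin 4 → Fin 3) → Prop} {a b c c' : Fin 4 → Fin 3}

theorem overlap (h : Code C) (hb : C b) (hc : C c) (hc' : C c') :
    Even (∑ i, (decide (c i ≠ b i) && decide (c' i ≠ b i)).toNat) := by
  have h1 := h.even _ _ hb (h.m _ _ (h.m _ _ hc hc') hb)
  have h2 := h.even _ _ hb (h.m _ _ (h.m _ _ hc hb) hc')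
  have h3 : Even (∑ i, ((if b i = -(-(c i + c' i) + b i) then 0 else 1) + (if b i = -(-(c i + b i) + c' i) then 0 else 1) +
      (decide (c i ≠ b i) && decide (c' i ≠ b i)).toNat : ℕ)) := by
    have key : ∀ b c c' : Fin 3, Even ((if b = -(-(c + c') + b) then 0 else 1) + (if b = -(-(c + b) + c') then 0 else 1) +
      (decide (c ≠ b) && decide (c' ≠ b)).toNat : ℕ) := by decide
    exact Finset.even_sum _ fun i _ => key _ _ _
  rw [Finset.sum_add_distrib, Finset.sum_add_distrib] at h3
  exact (Nat.even_add.1 h3).1 (h1.add h2)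

theorem even' (h : Code C) (hb : C b) (hc : C c) : Even (∑ i, (decide (c i ≠ b i)).toNat) := by
  have h1 := h.even _ _ hc hb
  have h2 : ∀ i, (if c i = b i then 0 else 1 : ℕ) = (decide (c i ≠ b i)).toNat := by
    intro i
    by_cases hi : c i = b i <;> simp [hi]
  simpa only [h2] using h1

/-- a half difference and the transitivity: -/
theorem exists_rr (h : Code C) (ha : C a) (hb : C b) (h1 : ∃ i, a i ≠ b i) (h0 : ∃ i, a i = b i)
    (tr : ∀ k, ∃ a' b', C a' ∧ C b' ∧ a' k ≠ b' k ∧ ∃ j, a' j = b' j) :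
    ∃ r r', C r ∧ C r' ∧ (∀ i, a i ≠ r i) ∧ (∀ i, a i ≠ r' i) ∧ ∀ i, b i = -(r i + r' i) := by
  obtain ⟨i1, hi1⟩ := h0
  obtain ⟨i0, hi0⟩ := h1
  obtain ⟨a', b', ha', hb', hk, j, hj⟩ := tr i1
  have hpt : C (fun i => -(-(a i + b' i) + a' i)) := h.m _ _ (h.m _ _ ha hb') ha'
  have hd : ∀ a a' b' : Fin 3, -(-(a + b') + a') = a ↔ a' = b' := by decide
  have key := bool_compl (fun i => decide (b i ≠ a i)) (fun i => decide (-(-(a i + b' i) + a' i) ≠ a i)) i1
    (h.even' ha hb) (h.even' ha hpt) (h.overlap ha hb hpt) (by simp [hi1])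
    (by simp only [decide_eq_true_eq, ne_eq, hd]; exact hk)
    ⟨i0, by simp only [decide_eq_true_eq]; exact Ne.symm hi0⟩
    ⟨j, by simp only [decide_eq_false_iff_not, ne_eq, hd, not_not]; exact hj⟩
  have key2 : ∀ i, (b i = a i ∧ a' i ≠ b' i) ∨ (b i ≠ a i ∧ a' i = b' i) := by
    intro i
    have h2 : decide (-(-(a i + b' i) + a' i) ≠ a i) = !(decide (b i ≠ a i)) := key i
    by_cases h3 : b i = a i
    · left
      refine ⟨h3, fun h4 => ?_⟩
      have h5 := (hd (a i) (a' i) (b' i)).2 h4
      rw [decide_eq_false (not_not.2 h5), decide_eq_false (not_not.2 h3)] at h2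
      exact absurd h2 (by decide)
    · right
      refine ⟨h3, ?_⟩
      by_contra h4
      have h5 : -(-(a i + b' i) + a' i) ≠ a i := fun h6 => h4 ((hd _ _ _).1 h6)
      rw [decide_eq_true h5, decide_eq_true h3] at h2
      exact absurd h2 (by decide)
  refine ⟨fun i => -(-(b i + b' i) + a' i), fun i => -(-(b i + a' i) + b' i), h.m _ _ (h.m _ _ hb hb') ha',
    h.m _ _ (h.m _ _ hb ha') hb', ?_, ?_, ?_⟩
  · intro i
    have h2 : ∀ a b a' b' : Fin 3, (b = a ∧ a' ≠ b') ∨ (b ≠ a ∧ a' = b') → a ≠ -(-(b + b') + a') := by decide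
    exact h2 _ _ _ _ (key2 i)
  · intro i
    have h2 : ∀ a b a' b' : Fin 3, (b = a ∧ a' ≠ b') ∨ (b ≠ a ∧ a' = b') → a ≠ -(-(b + a') + b') := by decide
    exact h2 _ _ _ _ (key2 i)
  · intro i
    have h2 : ∀ b a' b' : Fin 3, b = -(-(-(b + b') + a') + -(-(b + a') + b')) := by decide
    exact h2 _ _ _

end Code

end Cfsg.Agent.Cit.Nil.RFour
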