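import Cfsg.Agent.Cit.Nil.RFour.TypeI
import Cfsg.Agent.Cit.Nil.RFour.Code
import Cfsg.Agent.Cit.Nil.RFour.SClosed

/-!
# `r = 4`, `m = 1`, section 6 (CASE 2): any two type I neighbours of `z` commute

* `As.zl` : actions up to sign;
* `Fc Om z F x` : a frame with coordinates, `Fc.P a` the product, `Fc.exists_P`, `Fc.code`;
* `opp` (6.1), `six3` (6.3), `T1`, `comZ` (6.4), `exists_closed`.
-/

set_option autoImplicit false
set_option linter.style.haveILetI false
set_option linter.unusedSectionVars false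

namespace Cfsg.Agent.Cit.Nil.RFour

open Subgroup Cfsg Cfsg.Agent.Cit

open RTwo (Q3 Act i11 i12 i21 i22 i_ne1 i_ne2 i_ne12 i_cases i_cases3)

variable {G : Type*} [Group G]

section

variable [Finite G] {Om : Set (Subgroup G)} {K K' L L' M : Subgroup G} {z t t' g n x x' y y' u s p q : G}
  {F : Fin 4 → Subgroup G} {c : Fin 4 → Fin 3 → G} {a b : Fin 4 → Fin 3}

omit [Finite G] in
theorem n_add0 : ∀ k : Fin 3, k = -(k + k) := by decide
omit [Finite G] in
theorem n_add1 : ∀ j : Fin 3, -(j + (j + 1)) = j + 2 := by decide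
omit [Finite G] in
theorem n_add2 : ∀ j : Fin 3, -(j + (j + 2)) = j + 1 := by decide

/-- the action determines `y` up to `z` -/
theorem As.zl (hy : As K t y) (hK : Mem Om z K) (h : W4 Om) : As K t (z * y) := by
  refine ⟨mul_mem (hK.zmem h) hy.1, fun k hk => ?_⟩
  have h1 := hy.2 k hk
  have h2 : z * y * k * (z * y)⁻¹ = z * (y * k * y⁻¹) * z⁻¹ := by group
  rw [h2, h1, ← hK.comm_z h (mul_mem (mul_mem hy.1 hk) (inv_mem hy.1)), mul_inv_cancel_right]

theorem As.z_iff (hK : Mem Om z K) (h : W4 Om) : As K t z ↔ As K t 1 := by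
  constructor
  · intro h1
    have := h1.zl hK h
    rwa [hK.inZ.z2 h] at this
  · intro h1
    have := h1.zl hK h
    rwa [mul_one] at this

theorem As.of_eq (hy : As K t y) (hK : Mem Om z K) (h : W4 Om) (he : x = y ∨ x = z * y) : As K t x := by
  rcases he with rfl | rfl
  · exact hy
  · exact hy.zl hK h

/-- `t` and `t'` have the same axis on `K` -/
def Same (K : Subgroup G) (t t' : G) : Prop := ∃ y, As K t y ∧ As K t' y

theorem Same.symm (h : Same K t t') : Same K t' t := by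
  obtain ⟨y, h1, h2⟩ := h; exact ⟨y, h2, h1⟩

theorem Same.conj (h : Same K t t') (g : G) : Same (cj g K) (g * t * g⁻¹) (g * t' * g⁻¹) := by
  obtain ⟨y, h1, h2⟩ := h; exact ⟨_, h1.conj g, h2.conj g⟩

/-- a frame with coordinates -/
structure Fc (Om : Set (Subgroup G)) (z : G) (F : Fin 4 → Subgroup G) (c : Fin 4 → Fin 3 → G) : Prop where
  f : Fr Om z F
  q : ∀ i, Q3 (F i) z (c i)

/-- the product with the coordinates `a` -/
def PP (c : Fin 4 → Fin 3 → G) (a : Fin 4 → Fin 3) : G := c 0 (a 0) * c 1 (a 1) * c 2 (a 2) * c 3 (a 3)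

theorem exists_fc (hz : InZ Om z) (h : W4 Om) : ∃ F c, Fc Om z F c := by
  obtain ⟨F, f⟩ := hz.exists_fr h
  have h1 := fun i => h.exists_q3 (f.mem i)
  choose c hc using h1
  exact ⟨F, c, f, hc⟩

namespace Fc

variable (f : Fc Om z F c) (h : W4 Om)

include f h

theorem as_P (a : Fin 4 → Fin 3) (i : Fin 4) : As (F i) (PP c a) (c i (a i)) :=
  f.f.as_prod h (k := fun i => c i (a i)) (fun i => (f.q i).mem _) i

theorem mem_P (a : Fin 4 → Fin 3) : PP c a ∈ RZ Om z :=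
  (mem_RZ f.f h).2 ⟨fun i => c i (a i), fun i => (f.q i).mem _, rfl⟩

theorem P_comm_z (a : Fin 4 → Fin 3) : z * PP c a = PP c a * z := (RZ_le_centralizer h (f.mem_P h a)).symm

theorem P_ne (a : Fin 4 → Fin 3) : z ≠ PP c a := by
  intro h1
  have h2 := f.as_P h a 0
  rw [← h1] at h2
  exact (f.f.mem 0).not_as_one h h2 ((f.q 0).sq _) ((f.f.mem 0).as_z h)

theorem ti_P : TI Om z (PP c a) ↔ InZ Om (PP c a) :=
  ⟨fun h1 => h1.inT, fun h1 => TI.of_mem_RZ h f.f.inZ h1 (f.P_ne h a) (f.mem_P h a)⟩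

/-- an element of `R_z` with nontrivial axes -/
theorem exists_P (hg : g ∈ RZ Om z) (hy : ∀ i, ∃ y, As (F i) g y ∧ y * y = z) : ∃ a, g = PP c a ∨ g = z * PP c a := by
  have h1 : ∀ i, ∃ j, As (F i) g (c i j) := by
    intro i
    obtain ⟨y, h2, h3⟩ := hy i
    obtain ⟨j, h4⟩ := (f.q i).of_sq h2.1 h3
    refine ⟨j, h2.of_eq (f.f.mem i) h ?_⟩
    rcases h4 with h4 | h4
    · exact Or.inl h4.symm
    · right; rw [h4, (f.q i).zzx]
  choose a ha using h1
  refine ⟨a, ?_⟩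
  exact eq_or_of_as h f.f.inZ (f.mem_P h a) hg fun K hK => by
    obtain ⟨i, rfl⟩ := f.f.cov K hK
    exact ⟨_, f.as_P h a i, ha i⟩

theorem exists_of_ti (ht : TI Om z t) : ∃ a, InZ Om (PP c a) ∧ (t = PP c a ∨ t = z * PP c a) := by
  obtain ⟨a, ha⟩ := f.exists_P h (ht.mem_RZ h) fun i => ht.exists_as h (f.f.mem i)
  refine ⟨a, ?_, ha⟩
  rcases ha with rfl | rfl
  · exact ht.inT
  · have h1 := (ht.mul_right h).inT
    rwa [← mul_assoc, f.f.inZ.z2 h, one_mul] at h1

theorem as_iff (ha : t = PP c a ∨ t = z * PP c a) (i : Fin 4) : As (F i) t (c i (a i)) := by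
  rcases ha with rfl | rfl
  · exact f.as_P h a i
  · have := ((f.f.mem i).as_z h).mul (f.as_P h a i)
    rwa [one_mul] at this

theorem same_iff (ha : t = PP c a ∨ t = z * PP c a) (hb : t' = PP c b ∨ t' = z * PP c b) (i : Fin 4) :
    Same (F i) t t' ↔ a i = b i := by
  have h1 := f.as_iff h ha i
  have h2 := f.as_iff h hb i
  constructor
  · rintro ⟨y, h3, h4⟩
    rcases (f.f.mem i).as_unique h h1 h3 with h5 | h5 <;> rcases (f.f.mem i).as_unique h h2 h4 with h6 | h6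
    · exact (f.q i).inj (Or.inl (h5.symm.trans h6))
    · exact (f.q i).inj (Or.inr (h5.symm.trans h6))
    · exact ((f.q i).inj (Or.inr (h6.symm.trans h5))).symm
    · exact (f.q i).inj (Or.inl (mul_left_cancel (h5.symm.trans h6)))
  · intro h3
    rw [h3] at h1
    exact ⟨_, h1, h2⟩

/-- commuting: an even number of different axes -/
theorem even_of_comm (hc : PP c a * PP c b = PP c b * PP c a) : Even (∑ i, if a i = b i then 0 else 1 : ℕ) := by
  have hzz := f.f.inZ.z2 h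
  set e : Fin 4 → ℕ := fun i => if a i = b i then 0 else 1 with he
  have h1 : ∀ i, PP c a * c i (b i) * (PP c a)⁻¹ = z ^ (e i) * c i (b i) := by
    intro i
    rw [(f.as_P h a i).2 _ ((f.q i).mem _), he]
    by_cases hi : a i = b i
    · simp only [hi, if_true, pow_zero, one_mul, Q3.conj_self]
    · simp only [hi, if_false, pow_one]
      exact (f.q i).conj_ne hi
  have hzc : ∀ i j, c i j * z = z * c i j := fun i j => ((f.q i).zc j).symm
  have hzp : ∀ n i j, c i j * z ^ n = z ^ n * c i j := fun n i j =>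
    (Commute.pow_right (show Commute (c i j) z from hzc i j) n).eq
  have h2 : PP c a * PP c b * (PP c a)⁻¹ = z ^ (e 0 + e 1 + e 2 + e 3) * PP c b := by
    calc PP c a * PP c b * (PP c a)⁻¹
        = (PP c a * c 0 (b 0) * (PP c a)⁻¹) * (PP c a * c 1 (b 1) * (PP c a)⁻¹) *
          (PP c a * c 2 (b 2) * (PP c a)⁻¹) * (PP c a * c 3 (b 3) * (PP c a)⁻¹) := by
          rw [show PP c b = c 0 (b 0) * c 1 (b 1) * c 2 (b 2) * c 3 (b 3) from rfl]
          group
      _ = (z ^ (e 0) * c 0 (b 0)) * (z ^ (e 1) * c 1 (b 1)) * (z ^ (e 2) * c 2 (b 2)) * (z ^ (e 3) * c 3 (b 3)) := by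
          rw [h1, h1, h1, h1]
      _ = z ^ (e 0) * (c 0 (b 0) * z ^ (e 1)) * c 1 (b 1) * (z ^ (e 2) * c 2 (b 2)) * (z ^ (e 3) * c 3 (b 3)) := by
          group
      _ = z ^ (e 0) * z ^ (e 1) * c 0 (b 0) * (c 1 (b 1) * z ^ (e 2)) * c 2 (b 2) * (z ^ (e 3) * c 3 (b 3)) := by
          rw [hzp]; group
      _ = z ^ (e 0) * z ^ (e 1) * (c 0 (b 0) * z ^ (e 2)) * c 1 (b 1) * (c 2 (b 2) * z ^ (e 3)) * c 3 (b 3) := by
          rw [hzp (e 2) 1]; group
      _ = z ^ (e 0) * z ^ (e 1) * z ^ (e 2) * c 0 (b 0) * (c 1 (b 1) * z ^ (e 3)) * c 2 (b 2) * c 3 (b 3) := by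
          rw [hzp (e 2) 0, hzp (e 3) 2]; group
      _ = z ^ (e 0) * z ^ (e 1) * z ^ (e 2) * (c 0 (b 0) * z ^ (e 3)) * c 1 (b 1) * c 2 (b 2) * c 3 (b 3) := by
          rw [hzp (e 3) 1]; group
      _ = z ^ (e 0) * z ^ (e 1) * z ^ (e 2) * z ^ (e 3) * (c 0 (b 0) * c 1 (b 1) * c 2 (b 2) * c 3 (b 3)) := by
          rw [hzp (e 3) 0]; group
      _ = _ := by rw [← pow_add, ← pow_add, ← pow_add]; rfl
  rw [hc, mul_inv_cancel_right] at h2
  have h3 : z ^ (e 0 + e 1 + e 2 + e 3) = 1 := (mul_eq_right.1 h2.symm)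
  have h4 : 2 ∣ e 0 + e 1 + e 2 + e 3 := by
    rw [← f.f.inZ.orderOf h]
    exact orderOf_dvd_of_pow_eq_one h3
  have h5 : (∑ i, e i) = e 0 + e 1 + e 2 + e 3 := by
    rw [Fin.sum_univ_four]
  show Even (∑ i, e i)
  rw [h5]
  exact even_iff_two_dvd.2 h4

/-- the reflection at the axis of `s` -/
theorem refl (hti : TI Om z s) (hL : Mem Om s L) (hx : As L z x) (i : Fin 4) {j : Fin 3} (hs : As (F i) s (c i j))
    (k : Fin 3) : cj x (F i) = F i ∧ (x * c i k * x⁻¹ = c i (-(j + k)) ∨ x * c i k * x⁻¹ = z * c i (-(j + k))) := by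
  obtain ⟨h1, h2, h3⟩ := (hti.symm h).rot h hL (f.f.mem i) hx hs
  refine ⟨h1, ?_⟩
  have q := f.q i
  rcases i_cases3 j k with rfl | rfl | rfl
  · left
    rw [h2, mul_inv_cancel_right]
    congr 1
    exact n_add0 k
  · have h4 : -(j + (j + 1)) = j + 2 := n_add1 j
    have h5 := h3 _ (q.mem (j + 1)) (q.sq _) fun h6 => by
      have h7 := q.anti (i_ne1 j)
      rw [h6, mul_assoc] at h7
      exact q.zne _ h7.symm
    rw [q.mul] at h5
    rw [h4]; exact h5
  · have h4 : -(j + (j + 2)) = j + 1 := n_add2 j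
    have h5 := h3 _ (q.mem (j + 2)) (q.sq _) fun h6 => by
      have h7 := q.anti (i_ne2 j)
      rw [h6, mul_assoc] at h7
      exact q.zne _ h7.symm
    rw [q.mul2', q.zzx] at h5
    rw [h4]; exact h5.symm

theorem refl_P (hti : TI Om z s) (hL : Mem Om s L) (hx : As L z x) (hb : s = PP c b ∨ s = z * PP c b) :
    x * PP c a * x⁻¹ = PP c (fun i => -(b i + a i)) ∨ x * PP c a * x⁻¹ = z * PP c (fun i => -(b i + a i)) := by
  have hxz : x * z = z * x := hx.comm.symm
  have h1 : x * PP c a * x⁻¹ ∈ RZ Om z := RZ_conj_comm h hxz (f.mem_P h a)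
  refine eq_or_of_as h f.f.inZ (f.mem_P h _) h1 fun K hK => ?_
  obtain ⟨i, rfl⟩ := f.f.cov K hK
  refine ⟨_, f.as_P h _ i, ?_⟩
  obtain ⟨h2, h3⟩ := f.refl h hti hL hx i (f.as_iff h hb i) (a i)
  have h4 := (f.as_P h a i).conj x
  rw [h2] at h4
  refine h4.of_eq (f.f.mem i) h ?_
  rcases h3 with h3 | h3
  · exact Or.inl h3.symm
  · right; rw [h3, (f.q i).zzx]

theorem inZ_of (hs : InZ Om s) (ha : s = PP c a ∨ s = z * PP c a) : InZ Om (PP c a) := by
  rcases ha with rfl | rfl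
  · exact hs
  have h4 : z ≠ z * PP c a := by
    intro h5
    have h6 : PP c a = 1 := (mul_eq_left.1 h5.symm)
    have h7 := f.as_P h a 0
    rw [h6] at h7
    exact (f.f.mem 0).not_as_one h h7 ((f.q 0).sq _) (As.self (one_mem _))
  have h5 := TI.of_mem_RZ h f.f.inZ hs h4 (mul_mem (z_mem_RZ f.f.inZ h) (f.mem_P h _))
  have h6 := (h5.mul_right h).inT
  rwa [← mul_assoc, f.f.inZ.z2 h, one_mul] at h6

/-- the set of neighbours is a code -/
theorem code (hcm : ∀ t t', TI Om z t → TI Om z t' → t * t' = t' * t) : Code (fun a => InZ Om (PP c a)) where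
  m a b ha hb := by
    have h1 := (f.ti_P h).2 ha
    obtain ⟨L, hL⟩ := ha
    obtain ⟨x, hx, -⟩ := (h1.symm h).exists_as h hL
    have h2 := ((f.ti_P h).2 hb).inT.conj h x
    exact f.inZ_of h h2 (f.refl_P h h1 hL hx (Or.inl rfl) (a := b))
  even a b ha hb := f.even_of_comm h (hcm _ _ ((f.ti_P h).2 ha) ((f.ti_P h).2 hb))

end Fc

/-! ### (6.0) -/

theorem as_one_of {d : Fin 3 → G} (qd : Q3 L t d) (h0 : s * d 0 = d 0 * s) (h1 : s * d 1 = d 1 * s) : As L s 1 := by
  refine As.one_iff.2 fun k hk => ?_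
  have h2 : L ≤ centralizer {s} :=
    qd.le_of_mem (i_ne1 0) (mem_centralizer_singleton_iff.2 h0.symm)
      (mem_centralizer_singleton_iff.2 (by rw [zero_add]; exact h1.symm))
  exact (mem_centralizer_singleton_iff.1 (h2 hk)).symm

/-- `y y'` or `z y y'` centralises `L` -/
theorem TI.s_or (hti : TI Om z t) (h : W4 Om) (hK : Mem Om z K) (hK' : Mem Om z K') (hL : Mem Om t L)
    (hy : As K t y) (hy' : As K' t y') : ∃ s, (s = y * y' ∨ s = z * (y * y')) ∧ As L s 1 := by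
  obtain ⟨x, hx, hxx⟩ := (hti.symm h).exists_as h hL
  obtain ⟨u, hu, huu, hxu⟩ := hL.exists_nc h hx.1 hxx
  obtain ⟨d, qd, rfl, rfl⟩ := hL.exists_q2 h hx.1 hxx hu huu hxu
  obtain ⟨-, h1, h2⟩ := hti.rot h hK hL hy hx
  obtain ⟨-, h1', h2'⟩ := hti.rot h hK' hL hy' hx
  have h3 := h2 _ hu huu hxu
  have h3' := h2' _ hu huu hxu
  have hyt : y * t = t * y := hy.comm.symm
  have htx : t * d 0 = d 0 * t := qd.zc 0
  have h4 : y * (d 0 * d 1) * y⁻¹ = d 1 ∨ y * (d 0 * d 1) * y⁻¹ = t * d 1 := by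
    have h5 : y * (d 0 * d 1) * y⁻¹ = d 0 * (y * d 1 * y⁻¹) := by
      calc y * (d 0 * d 1) * y⁻¹ = (y * d 0) * d 1 * y⁻¹ := by group
        _ = (d 0 * y) * d 1 * y⁻¹ := by rw [h1]
        _ = _ := by group
    rw [h5]
    rcases h3 with h3 | h3 <;> rw [h3]
    · right; rw [← mul_assoc, qd.sq]
    · left
      calc d 0 * (t * (d 0 * d 1)) = (d 0 * t) * (d 0 * d 1) := by group
        _ = (t * d 0) * (d 0 * d 1) := by rw [htx]
        _ = t * (d 0 * d 0) * d 1 := by group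
        _ = d 1 := by rw [qd.sq, qd.z2, one_mul]
  have h6 : y * y' * d 1 * (y * y')⁻¹ = d 1 ∨ y * y' * d 1 * (y * y')⁻¹ = t * d 1 := by
    have h7 : y * y' * d 1 * (y * y')⁻¹ = y * (y' * d 1 * y'⁻¹) * y⁻¹ := by group
    have h8 : y * (t * (d 0 * d 1)) * y⁻¹ = t * (y * (d 0 * d 1) * y⁻¹) := by
      calc y * (t * (d 0 * d 1)) * y⁻¹ = (y * t) * (d 0 * d 1) * y⁻¹ := by group
        _ = (t * y) * (d 0 * d 1) * y⁻¹ := by rw [hyt]
        _ = _ := by group
    rw [h7]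
    rcases h3' with h3' | h3' <;> rw [h3']
    · exact h4
    · rw [h8]
      rcases h4 with h4 | h4 <;> rw [h4]
      · exact Or.inr rfl
      · left; exact qd.zzx _
  have h7 : y * y' * d 0 = d 0 * (y * y') := by
    rw [mul_assoc, h1', ← mul_assoc, h1, mul_assoc]
  rcases h6 with h6 | h6
  · refine ⟨_, Or.inl rfl, as_one_of qd h7 ?_⟩
    rwa [mul_inv_eq_iff_eq_mul] at h6
  · refine ⟨_, Or.inr rfl, as_one_of qd ?_ ?_⟩
    · have h8 : z * d 0 = d 0 * z := by
        have := hx.2 _ (qd.mem 0)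
        rwa [Q3.conj_self, mul_inv_eq_iff_eq_mul] at this
      rw [mul_assoc, h7, ← mul_assoc, h8, mul_assoc]
    · have h8 : z * d 1 = t * d 1 * z := by
        have := hx.2 _ (qd.mem 1)
        rwa [qd.conj_ne (by decide), mul_inv_eq_iff_eq_mul] at this
      rw [mul_inv_eq_iff_eq_mul] at h6
      calc z * (y * y') * d 1 = z * (y * y' * d 1) := by group
        _ = z * (t * d 1 * (y * y')) := by rw [h6]
        _ = (z * t) * d 1 * (y * y') := by group
        _ = (t * z) * d 1 * (y * y') := by rw [hti.comm]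
        _ = t * (z * d 1) * (y * y') := by group
        _ = t * (t * d 1 * z) * (y * y') := by rw [h8]
        _ = (t * t) * d 1 * (z * (y * y')) := by group
        _ = _ := by rw [qd.z2, one_mul]

/-- **(6.0)** `v v'` moves every member over `t` -/
theorem TI.moves (hti : TI Om z t) (h : W4 Om) (hK : Mem Om z K) (hK' : Mem Om z K') (hne : K ≠ K') (hL : Mem Om t L)
    (hy : As K t y) {v v' : G} (hv : v ∈ K) (hvv : v * v = z) (hyv : y * v ≠ v * y)
    (hv' : v' ∈ K') : cj (v * v') L ≠ L := by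
  intro hcj
  have hyy := hti.sq_of_as h hK hy
  obtain ⟨K'', hK'', hn1, hn2⟩ := hK.third hK' h
  obtain ⟨y'', hy'', -⟩ := hti.exists_as h hK''
  obtain ⟨s, hs, hs1⟩ := hti.s_or h hK hK'' hL hy hy''
  have hzv : v * z = z * v := hK.comm_z h hv
  have hzv' : v' * z = z * v' := hK'.comm_z h hv'
  have e1 : v * y * v⁻¹ = z * y := hK.anti h hy.1 hyy hv hvv hyv
  have e2 : v' * y = y * v' := (hK.comm hK' h hne hy.1 hv').symm
  have e3 : v * y'' = y'' * v := (hK''.comm hK h hn1 hy''.1 hv).symm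
  have e4 : v' * y'' = y'' * v' := (hK''.comm hK' h hn2 hy''.1 hv').symm
  have e5 : v * v' * (y * y'') * (v * v')⁻¹ = z * (y * y'') := by
    calc v * v' * (y * y'') * (v * v')⁻¹ = v * (v' * y) * y'' * v'⁻¹ * v⁻¹ := by group
      _ = v * y * (v' * y'') * v'⁻¹ * v⁻¹ := by rw [e2]; group
      _ = v * y * y'' * v⁻¹ := by rw [e4]; group
      _ = (v * y * v⁻¹) * (v * y'') * v⁻¹ := by group
      _ = z * (y * y'') := by rw [e1, e3]; group
  have e6 : v * v' * z * (v * v')⁻¹ = z := by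
    rw [mul_assoc v, hzv', ← mul_assoc, hzv]; group
  have e7 : v * v' * s * (v * v')⁻¹ = z * s := by
    rcases hs with rfl | rfl
    · exact e5
    · calc v * v' * (z * (y * y'')) * (v * v')⁻¹ = (v * v' * z * (v * v')⁻¹) * (v * v' * (y * y'') * (v * v')⁻¹) := by
            group
        _ = _ := by rw [e6, e5]
  have h1 := hs1.conj (v * v')
  rw [hcj, e7, mul_one, mul_inv_cancel] at h1
  have h2 := h1.mul hs1.inv
  rw [mul_inv_cancel_right, inv_one, mul_one] at h2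
  obtain ⟨x, hx, hxx⟩ := (hti.symm h).exists_as h hL
  exact hL.not_as_one h hx hxx h2

theorem cj_eq_of {a b : G} (hab : cj a L = cj b L) : cj (a⁻¹ * b) L = L := by
  rw [cj_mul, ← hab, cj_inv_cj]

/-- **(6.0)** the product of all four fixes every member over `t` -/
theorem TI.fixes (hti : TI Om z t) (h : W4 Om) (f : Fr Om z F) {y v : Fin 4 → G} (hy : ∀ i, As (F i) t (y i))
    (hv : ∀ i, v i ∈ F i) (hvv : ∀ i, v i * v i = z) (hyv : ∀ i, y i * v i ≠ v i * y i) (hL : Mem Om t L) :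
    cj (v 0 * v 1 * v 2 * v 3) L = L := by
  have hyy : ∀ i, y i * y i = z := fun i => hti.sq_of_as h (f.mem i) (hy i)
  have hzz := f.inZ.z2 h
  -- `v i v j` commutes with `t`
  have hvt : ∀ i, v i * t = t * z * v i := by
    intro i
    have := (hti.symm h).conj_z h (f.mem i) (hy i) (hv i) (hvv i) (hyv i)
    rwa [mul_inv_eq_iff_eq_mul] at this
  have hvz : ∀ i, v i * z = z * v i := fun i => (f.mem i).comm_z h (hv i)
  have hvvt : ∀ i j, v i * v j * t = t * (v i * v j) := by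
    intro i j
    calc v i * v j * t = v i * (v j * t) := by group
      _ = v i * (t * z * v j) := by rw [hvt]
      _ = (v i * t) * z * v j := by group
      _ = t * z * (v i * z) * v j := by rw [hvt]; group
      _ = t * (z * z) * (v i * v j) := by rw [hvz]; group
      _ = _ := by rw [hzz, mul_one]
  have hvc : ∀ {i j}, i ≠ j → v i * v j = v j * v i := fun hij => (f.mem _).comm (f.mem _) h (f.ne hij) (hv _) (hv _)
  have hmv : ∀ i j, i ≠ j → ∀ {L}, Mem Om t L → cj (v i * v j) L ≠ L := fun i j hij L hL =>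
    hti.moves h (f.mem i) (f.mem j) (f.ne hij) hL (hy i) (hv i) (hvv i) (hyv i) (hv j)
  have hmv' : ∀ i j, i ≠ j → ∀ {L}, Mem Om t L → cj ((v i)⁻¹ * v j) L ≠ L := fun i j hij L hL =>
    hti.moves h (f.mem i) (f.mem j) (f.ne hij) hL (hy i) (inv_mem (hv i))
      (by rw [← mul_inv_rev, hvv, f.inZ.inv h])
      (fun h1 => hyv i (by
        calc y i * v i = v i * (v i)⁻¹ * y i * v i := by group
          _ = v i * ((v i)⁻¹ * y i) * v i := by group
          _ = v i * (y i * (v i)⁻¹) * v i := by rw [h1]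
          _ = v i * y i := by group)) (hv j)
  have hM : ∀ i j, Mem Om t (cj (v i * v j) L) := fun i j => hL.cj_comm h (hvvt i j)
  have hMw : Mem Om t (cj (v 0 * v 1 * v 2 * v 3) L) := by
    refine hL.cj_comm h ?_
    calc v 0 * v 1 * v 2 * v 3 * t = v 0 * v 1 * (v 2 * v 3 * t) := by group
      _ = v 0 * v 1 * t * (v 2 * v 3) := by rw [hvvt]; group
      _ = _ := by rw [hvvt]; group
  obtain ⟨E, e⟩ := hL.inZ.exists_fr h
  obtain ⟨i0, hi0⟩ := e.cov _ hL
  obtain ⟨i1, hi1⟩ := e.cov _ (hM 0 1)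
  obtain ⟨i2, hi2⟩ := e.cov _ (hM 0 2)
  obtain ⟨i3, hi3⟩ := e.cov _ (hM 1 2)
  obtain ⟨j, hj⟩ := e.cov _ hMw
  have n1 : i1 ≠ i0 := fun h1 => hmv 0 1 (by decide) hL (by rw [← hi1, h1, hi0])
  have n2 : i2 ≠ i0 := fun h1 => hmv 0 2 (by decide) hL (by rw [← hi2, h1, hi0])
  have n3 : i3 ≠ i0 := fun h1 => hmv 1 2 (by decide) hL (by rw [← hi3, h1, hi0])
  have n4 : i1 ≠ i2 := fun h1 => by
    have h2 : cj (v 0 * v 1) L = cj (v 0 * v 2) L := by rw [← hi1, h1, hi2]
    have h3 := cj_eq_of h2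
    rw [show (v 0 * v 1)⁻¹ * (v 0 * v 2) = (v 1)⁻¹ * v 2 by group] at h3
    exact hmv' 1 2 (by decide) hL h3
  have n5 : i1 ≠ i3 := fun h1 => by
    have h2 : cj (v 0 * v 1) L = cj (v 1 * v 2) L := by rw [← hi1, h1, hi3]
    have h3 := cj_eq_of h2
    rw [show (v 0 * v 1)⁻¹ * (v 1 * v 2) = (v 0)⁻¹ * v 2 by
      rw [hvc (show (0 : Fin 4) ≠ 1 by decide)]; group] at h3
    exact hmv' 0 2 (by decide) hL h3
  have n6 : i2 ≠ i3 := fun h1 => by
    have h2 : cj (v 0 * v 2) L = cj (v 1 * v 2) L := by rw [← hi2, h1, hi3]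
    have h3 := cj_eq_of h2
    rw [show (v 0 * v 2)⁻¹ * (v 1 * v 2) = (v 0)⁻¹ * v 1 by
      rw [hvc (show (0 : Fin 4) ≠ 2 by decide), hvc (show (1 : Fin 4) ≠ 2 by decide)]; group] at h3
    exact hmv' 0 1 (by decide) hL h3
  have key : ∀ a b c d j : Fin 4, b ≠ a → c ≠ a → d ≠ a → b ≠ c → b ≠ d → c ≠ d → j = a ∨ j = b ∨ j = c ∨ j = d := by
    decide
  rcases key i0 i1 i2 i3 j n1 n2 n3 n4 n5 n6 with h1 | h1 | h1 | h1
  · rw [← hj, h1, hi0]
  · exfalso
    have h2 : cj (v 0 * v 1) L = cj (v 0 * v 1 * v 2 * v 3) L := by rw [← hj, h1, hi1]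
    have h3 := cj_eq_of h2
    rw [show (v 0 * v 1)⁻¹ * (v 0 * v 1 * v 2 * v 3) = v 2 * v 3 by group] at h3
    exact hmv 2 3 (by decide) hL h3
  · exfalso
    have h2 : cj (v 0 * v 2) L = cj (v 0 * v 1 * v 2 * v 3) L := by rw [← hj, h1, hi2]
    have h3 := cj_eq_of h2
    rw [show (v 0 * v 2)⁻¹ * (v 0 * v 1 * v 2 * v 3) = v 1 * v 3 by
      rw [mul_assoc (v 0) (v 1) (v 2), hvc (show (1 : Fin 4) ≠ 2 by decide)]; group] at h3
    exact hmv 1 3 (by decide) hL h3
  · exfalso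
    have h2 : cj (v 1 * v 2) L = cj (v 0 * v 1 * v 2 * v 3) L := by rw [← hj, h1, hi3]
    have h3 := cj_eq_of h2
    rw [show (v 1 * v 2)⁻¹ * (v 0 * v 1 * v 2 * v 3) = v 0 * v 3 by
      rw [mul_assoc (v 0) (v 1) (v 2), (show v 0 * (v 1 * v 2) = v 1 * v 2 * v 0 by
        rw [← mul_assoc, hvc (show (0 : Fin 4) ≠ 1 by decide), mul_assoc, hvc (show (0 : Fin 4) ≠ 2 by decide),
          mul_assoc])]; group] at h3
    exact hmv 0 3 (by decide) hL h3

/-! ### (6.1) -/

theorem TI.xx_supp (hti : TI Om z t) (h : W4 Om) (f : Fr Om z F) {y : Fin 4 → G} (hy : ∀ i, As (F i) t (y i))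
    (hL : Mem Om t L) (hL' : Mem Om t L') (hne : L ≠ L') (hx : As L z x) (hx' : As L' z x') {e : G}
    (he : e = 1 ∨ e = t) : ∃ S : Fin 4 → Bool, (∀ i, As (F i) (e * (x * x')) (if S i = true then y i else 1)) ∧
      (∃ i, S i = true) ∧ ∃ i, S i = false := by
  have hyy : ∀ i, y i * y i = z := fun i => hti.sq_of_as h (f.mem i) (hy i)
  have hzz := f.inZ.z2 h
  obtain ⟨K', y', v, hK', hKK', hy', hv, e1⟩ := hti.hh h (f.mem 0) hL hL' hne (hy 0) hx hx'
  obtain ⟨j, rfl⟩ := f.cov K' hK'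
  have hj : j ≠ 0 := fun h1 => hKK' (by rw [h1])
  have as1 : ∀ {i j : Fin 4} {x : G}, i ≠ j → x ∈ F j → As (F i) x 1 := fun hij hx =>
    (f.mem _).as_one (f.mem _) h (f.ne hij) hx
  have h1 : ∀ i, As (F i) (y 0 * y') (if i = 0 ∨ i = j then y i else 1) := by
    intro i
    by_cases hi : i = 0
    · subst hi
      rw [if_pos (Or.inl rfl)]
      have := (As.self (hy 0).1).mul (as1 (Ne.symm hj) hy'.1)
      rwa [mul_one] at this
    · by_cases hij : i = j
      · subst hij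
        rw [if_pos (Or.inr rfl)]
        have := (as1 hi (hy 0).1).mul (As.self hy'.1)
        rw [one_mul] at this
        exact this.of_eq (f.mem i) h ((f.mem i).as_unique h hy' (hy i))
      · rw [if_neg (by tauto)]
        have := (as1 hi (hy 0).1).mul (as1 hij hy'.1)
        rwa [one_mul] at this
  have hev : VV z t (e * v) := by
    refine VV.mul hzz (hL.inZ.z2 h) hti.comm ?_ hv
    rcases he with he | he
    · exact Or.inl he
    · exact Or.inr (Or.inr (Or.inl he))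
  have e2 : e * (x * x') = e * v * (y 0 * y') := by rw [e1]; group
  rw [e2]
  obtain ⟨k, hk1, hk2⟩ : ∃ k : Fin 4, k ≠ 0 ∧ k ≠ j := by
    have : ∀ i j : Fin 4, ∃ k, k ≠ i ∧ k ≠ j := by decide
    exact this 0 j
  rcases hev.act hti h with h2 | h2
  · refine ⟨fun i => decide (i = 0 ∨ i = j), fun i => ?_, ⟨0, by simp⟩, ⟨k, by simp [hk1, hk2]⟩⟩
    have := (h2 _ (f.mem i)).mul (h1 i)
    rw [one_mul] at this
    simpa only [decide_eq_true_eq] using this
  · refine ⟨fun i => !(decide (i = 0 ∨ i = j)), fun i => ?_, ⟨k, by simp [hk1, hk2]⟩, ⟨0, by simp⟩⟩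
    have h3 := (h2 _ (f.mem i) _ (hy i)).mul (h1 i)
    by_cases hi : i = 0 ∨ i = j
    · rw [if_pos hi, hyy] at h3
      have h4 := (As.z_iff (f.mem i) h).1 h3
      have h5 : (if (!(decide (i = 0 ∨ i = j))) = true then y i else 1) = 1 := by
        simp [hi]
      rw [h5]; exact h4
    · rw [if_neg hi, mul_one] at h3
      have h5 : (if (!(decide (i = 0 ∨ i = j))) = true then y i else 1) = y i := by
        simp [hi]
      rw [h5]; exact h3

theorem perm3_one : ∀ σ : Equiv.Perm (Fin 3), σ 0 = 0 → σ 1 = 1 → σ = 1 := by decide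
theorem perm3_two : ∀ σ : Equiv.Perm (Fin 3), σ 0 = 0 → σ 1 ≠ 1 → σ 1 = 2 := by decide

/-- **(6.1)** different axes on all `K`: type I -/
theorem opp (h : W4 Om) (hcm : ∀ z t t', TI Om z t → TI Om z t' → t * t' = t' * t) (hti : TI Om z t)
    (hti' : TI Om z t') (hax : ∀ K, Mem Om z K → ¬ Same K t t') : TI Om t t' := by
  by_contra hcon
  obtain ⟨F, f⟩ := hti.inZ.exists_fr h
  choose y hy hyy using fun i => hti.exists_as h (f.mem i)
  choose v hv hvv using fun i => hti'.exists_as h (f.mem i)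
  have hzz := f.inZ.z2 h
  have hz1 := f.inZ.z1 h
  have htt := hti.inT.z2 h
  have htt' : t * t' = t' * t := hcm z t t' hti hti'
  have hyv : ∀ i, y i * v i ≠ v i * y i := by
    intro i hc
    rcases (f.mem i).of_comm h (hy i).1 (hyy i) (hv i).1 hc with h1 | h1 | h1 | h1
    · have h2 := hvv i
      rw [h1, one_mul] at h2
      exact hz1 h2.symm
    · have h2 := hvv i
      rw [h1, hzz] at h2
      exact hz1 h2.symm
    · exact hax _ (f.mem i) ⟨v i, (hy i).of_eq (f.mem i) h (Or.inl h1), hv i⟩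
    · exact hax _ (f.mem i) ⟨v i, (hy i).of_eq (f.mem i) h (Or.inr h1), hv i⟩
  choose c hc hc0 hc1 using fun i => (f.mem i).exists_q2 h (hy i).1 (hyy i) (hv i).1 (hvv i) (hyv i)
  have fc : Fc Om z F c := ⟨f, hc⟩
  have hne : t ≠ t' := fun h1 => hax _ (f.mem 0) ⟨y 0, hy 0, by rw [← h1]; exact hy 0⟩
  have hb : t' = PP c (fun _ => 1) ∨ t' = z * PP c (fun _ => 1) := by
    refine eq_or_of_as h f.inZ (fc.mem_P h _) (hti'.mem_RZ h) fun K hK => ?_
    obtain ⟨i, rfl⟩ := f.cov K hK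
    exact ⟨_, fc.as_P h _ i, by rw [hc1]; exact hv i⟩
  have hfix : ∀ L, Mem Om t L → cj t' L = L := by
    intro L hL
    have h1 : cj (PP c (fun _ => 1)) L = L := by
      have := hti.fixes h f hy (fun i => (hv i).1) hvv hyv hL
      show cj (c 0 1 * c 1 1 * c 2 1 * c 3 1) L = L
      rw [hc1, hc1, hc1, hc1]; exact this
    have h2 : cj z L = L := (hti.symm h).inn.cj_eq hL h
    rcases hb with hb | hb
    · rw [hb]; exact h1
    · rw [hb, cj_mul, h1, h2]
  have step : ∀ L x, Mem Om t L → As L z x → ∃ u ∈ L, ∃ e, (e = 1 ∨ e = t) ∧ u⁻¹ * t' * u = e * (x * t') := by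
    intro L x hL hx
    have hxx := (hti.symm h).sq_of_as h hL hx
    obtain ⟨d, qd, rfl⟩ := hL.exists_q h hx.1 hxx
    obtain ⟨σ, hσ⟩ := qd.exists_act qd (hfix L hL) htt'.symm
    have h1 : As L z (t' * d 0 * t'⁻¹) := by
      have := hx.conj_comm hti'.comm.symm
      rwa [hfix L hL] at this
    have h2 : σ 0 = 0 := by
      rcases hL.as_unique h hx h1 with h3 | h3 <;> rcases hσ 0 with h4 | h4
      · exact (qd.inj (Or.inl (h3.symm.trans h4))).symm
      · exact (qd.inj (Or.inr (h3.symm.trans h4))).symm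
      · exact qd.inj (Or.inr (h4.symm.trans h3))
      · exact (qd.inj (Or.inl (mul_left_cancel (h3.symm.trans h4)))).symm
    have h3 : σ 1 ≠ 1 := by
      intro h3
      have h4 := perm3_one σ h2 h3
      subst h4
      exact hcon (TI.of_one h hL hti'.inT hne (hσ.inner qd htt'.symm))
    have h4 := perm3_two σ h2 h3
    have h5 : d 0 * d 1 = d 2 := qd.mul 0
    have h6 : (d 1)⁻¹ * (d 0 * d 1) = t * d 0 := by
      have h7 := qd.anti (show (0 : Fin 3) ≠ 1 by decide)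
      have h8 : (d 1)⁻¹ * t = t * (d 1)⁻¹ := by
        rw [inv_mul_eq_iff_eq_mul, ← mul_assoc, ← qd.zc, mul_inv_cancel_right]
      calc (d 1)⁻¹ * (d 0 * d 1) = (d 1)⁻¹ * (t * d 1 * d 0) := by rw [h7]
        _ = (d 1)⁻¹ * t * d 1 * d 0 := by group
        _ = t * (d 1)⁻¹ * d 1 * d 0 := by rw [h8]
        _ = _ := by group
    have h7 : t' * d 1 = d 2 * t' ∨ t' * d 1 = t * d 2 * t' := by
      rcases hσ 1 with h8 | h8
      · left; rw [h4, mul_inv_eq_iff_eq_mul] at h8; exact h8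
      · right; rw [h4, mul_inv_eq_iff_eq_mul] at h8; exact h8
    have htd : (d 1)⁻¹ * t = t * (d 1)⁻¹ := by
      rw [inv_mul_eq_iff_eq_mul, ← mul_assoc, ← qd.zc, mul_inv_cancel_right]
    refine ⟨d 1, qd.mem 1, ?_⟩
    rcases h7 with h7 | h7
    · refine ⟨t, Or.inr rfl, ?_⟩
      calc (d 1)⁻¹ * t' * d 1 = (d 1)⁻¹ * (t' * d 1) := by group
        _ = (d 1)⁻¹ * (d 0 * d 1) * t' := by rw [h7, h5]; group
        _ = t * (d 0 * t') := by rw [h6]; group
    · refine ⟨1, Or.inl rfl, ?_⟩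
      calc (d 1)⁻¹ * t' * d 1 = (d 1)⁻¹ * (t' * d 1) := by group
        _ = ((d 1)⁻¹ * t) * (d 0 * d 1) * t' := by rw [h7, h5]; group
        _ = t * ((d 1)⁻¹ * (d 0 * d 1)) * t' := by rw [htd]; group
        _ = (t * t) * (d 0 * t') := by rw [h6]; group
        _ = _ := by rw [htt]
  have step2 : ∀ L L' x x', Mem Om t L → Mem Om t L' → L ≠ L' → As L z x → As L' z x' →
      ∃ e, (e = 1 ∨ e = t) ∧ InZ Om (e * (x * x') * t') := by
    intro L L' x x' hL hL' hLL hx hx'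
    obtain ⟨u, hu, e1, he1, h1⟩ := step L x hL hx
    obtain ⟨u', hu', e2, he2, h2⟩ := step L' x' hL' hx'
    have hu't : u'⁻¹ * t = t * u'⁻¹ := hL'.comm_z h (inv_mem hu')
    have hu'x : u'⁻¹ * x = x * u'⁻¹ := hL'.comm hL h hLL.symm (inv_mem hu') hx.1
    have hxt : x * t = t * x := hL.comm_z h hx.1
    have h3 : u'⁻¹ * e1 = e1 * u'⁻¹ := by
      rcases he1 with rfl | rfl
      · group
      · exact hu't
    have h4 : x * e2 = e2 * x := by
      rcases he2 with rfl | rfl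
      · group
      · exact hxt
    refine ⟨e1 * e2, ?_, ?_⟩
    · rcases he1 with rfl | rfl <;> rcases he2 with rfl | rfl <;> simp [htt]
    · have h5 := hti'.inT.conj h (u * u')⁻¹
      have h6 : (u * u')⁻¹ * t' * (u * u')⁻¹⁻¹ = e1 * e2 * (x * x') * t' := by
        calc (u * u')⁻¹ * t' * (u * u')⁻¹⁻¹ = u'⁻¹ * (u⁻¹ * t' * u) * u' := by group
          _ = (u'⁻¹ * e1) * x * t' * u' := by rw [h1]; group
          _ = e1 * (u'⁻¹ * x) * t' * u' := by rw [h3]; group
          _ = e1 * x * (u'⁻¹ * t' * u') := by rw [hu'x]; group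
          _ = e1 * (x * e2) * x' * t' := by rw [h2]; group
          _ = _ := by rw [h4]; group
      rwa [h6] at h5
  have step3 : ∀ L L' x x', Mem Om t L → Mem Om t L' → L ≠ L' → As L z x → As L' z x' →
      ∃ e, (e = 1 ∨ e = t) ∧ ∃ S : Fin 4 → Bool, (∀ i, As (F i) (e * (x * x')) (if S i = true then y i else 1)) ∧
      (∃ i, S i = true) ∧ (∃ i, S i = false) ∧ InZ Om (PP c (fun i => if S i = true then 2 else 1)) := by
    intro L L' x x' hL hL' hLL hx hx'
    obtain ⟨e, he, h1⟩ := step2 L L' x x' hL hL' hLL hx hx'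
    obtain ⟨S, h2, h3, h4⟩ := hti.xx_supp h f hy hL hL' hLL hx hx' he
    refine ⟨e, he, S, h2, h3, h4, ?_⟩
    have heR : e ∈ RZ Om z := by
      rcases he with rfl | rfl
      · exact one_mem _
      · exact hti.mem_RZ h
    have hsR : e * (x * x') * t' ∈ RZ Om z :=
      mul_mem (mul_mem heR (hti.xx_mem h hL hL' hLL hx hx')) (hti'.mem_RZ h)
    refine fc.inZ_of h h1 ?_
    refine eq_or_of_as h f.inZ (fc.mem_P h _) hsR fun K hK => ?_
    obtain ⟨i, rfl⟩ := f.cov K hK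
    refine ⟨_, fc.as_P h _ i, ?_⟩
    have h5 := (h2 i).mul (hv i)
    by_cases hS : S i = true
    · have h6 : c i 2 = y i * v i := by
        rw [← hc0, ← hc1]; exact ((hc i).mul 0).symm
      simp only [hS, if_true] at h5 ⊢
      rw [h6]; exact h5
    · rw [if_neg hS, one_mul] at h5
      show As (F i) (e * (x * x') * t') (c i (if S i = true then 2 else 1))
      rw [if_neg hS, hc1]; exact h5
  obtain ⟨L, hL⟩ := hti.inT
  obtain ⟨L', hL', hLL⟩ := hL.other h
  obtain ⟨L'', hL'', hn1, hn2⟩ := hL.third hL' h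
  obtain ⟨x, hx, hxx⟩ := (hti.symm h).exists_as h hL
  obtain ⟨x', hx', hxx'⟩ := (hti.symm h).exists_as h hL'
  obtain ⟨x'', hx'', hxx''⟩ := (hti.symm h).exists_as h hL''
  obtain ⟨e1, he1, S, hS1, hS2, hS3, hS4⟩ := step3 L L' x x' hL hL' hLL hx hx'
  obtain ⟨e2, he2, T, hT1, hT2, hT3, hT4⟩ := step3 L L'' x x'' hL hL'' hn1.symm hx hx''
  have hti1 : InZ Om (PP c (fun _ => 1)) := fc.inZ_of h hti'.inT hb
  have cd := fc.code h (hcm z)
  have hd : ∀ S : Fin 4 → Bool, ∀ i, decide ((if S i = true then (2 : Fin 3) else 1) ≠ 1) = S i := by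
    intro S i
    cases S i <;> simp
  have ev1 : Even (∑ i, (S i).toNat) := by
    have := cd.even' hti1 hS4
    simpa only [hd] using this
  have ev2 : Even (∑ i, (T i).toNat) := by
    have := cd.even' hti1 hT4
    simpa only [hd] using this
  have ev3 : Even (∑ i, (S i && T i).toNat) := by
    have := cd.overlap hti1 hS4 hT4
    simpa only [hd] using this
  -- `S`, `T` differ and agree somewhere
  obtain ⟨U, hU1, ⟨i, hi⟩, ⟨j, hj⟩⟩ := hti.xx_supp h f hy hL' hL'' hn2.symm hx' hx'' (e := e1⁻¹ * e2 * t) (by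
    rcases he1 with rfl | rfl <;> rcases he2 with rfl | rfl <;> simp [htt])
  have e3 : (e1 * (x * x'))⁻¹ * (e2 * (x * x'')) = e1⁻¹ * e2 * t * (x' * x'') := by
    have g1 : x'⁻¹ = t * x' := hL'.inv_eq h hx'.1 hxx'
    have g2 : ∀ e, e = 1 ∨ e = t → x * e = e * x := by
      rintro e (rfl | rfl)
      · group
      · exact hL.comm_z h hx.1
    have g3 : ∀ e, e = 1 ∨ e = t → x' * e = e * x' := by
      rintro e (rfl | rfl)
      · group
      · exact hL'.comm_z h hx'.1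
    have g4 : ∀ e, e = 1 ∨ e = t → e⁻¹ = e := by
      rintro e (rfl | rfl)
      · group
      · exact inv_eq_of_mul_eq_one_right htt
    have g5 : ∀ e e', (e = 1 ∨ e = t) → (e' = 1 ∨ e' = t) → e * e' = e' * e := by
      rintro e e' (rfl | rfl) (rfl | rfl) <;> simp
    have g6 : x⁻¹ * (e1⁻¹ * e2) = e1⁻¹ * e2 * x⁻¹ := by
      rw [inv_mul_eq_iff_eq_mul, ← mul_assoc, ← mul_assoc, g4 e1 he1, g2 e1 he1, mul_assoc e1, g2 e2 he2]
      group
    calc (e1 * (x * x'))⁻¹ * (e2 * (x * x'')) = x'⁻¹ * (x⁻¹ * (e1⁻¹ * e2)) * x * x'' := by group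
      _ = x'⁻¹ * e1⁻¹ * e2 * x'' := by rw [g6]; group
      _ = t * (x' * e1) * e2 * x'' := by rw [g1, g4 e1 he1]; group
      _ = t * e1 * (x' * e2) * x'' := by rw [g3 e1 he1]; group
      _ = (t * e1) * e2 * x' * x'' := by rw [g3 e2 he2]; group
      _ = e1 * (t * e2) * x' * x'' := by rw [g5 t e1 (Or.inr rfl) he1]; group
      _ = e1 * (e2 * t) * x' * x'' := by rw [g5 t e2 (Or.inr rfl) he2]
      _ = _ := by rw [g4 e1 he1]; group
  have hW : ∀ i, As (F i) (e1⁻¹ * e2 * t * (x' * x'')) ((if S i = true then y i else 1)⁻¹ * (if T i = true then y i else 1)) := by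
    intro i
    rw [← e3]
    exact (hS1 i).inv.mul (hT1 i)
  have hdiff : ∃ i, S i ≠ T i := by
    refine ⟨i, fun h1 => ?_⟩
    have h2 := hW i
    rw [h1, inv_mul_cancel] at h2
    have h3 := hU1 i
    rw [if_pos hi] at h3
    exact (f.mem i).not_as_one h h3 (hyy i) h2
  have hsame : ∃ i, S i = T i := by
    refine ⟨j, ?_⟩
    by_contra h1
    have h2 := hW j
    have h3 := hU1 j
    rw [if_neg (by rw [hj]; decide)] at h3
    have h4 : (S j = true ∧ T j = false) ∨ (S j = false ∧ T j = true) := by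
      revert h1; cases S j <;> cases T j <;> simp
    rcases h4 with ⟨h5, h6⟩ | ⟨h5, h6⟩
    · rw [if_pos h5, if_neg (by rw [h6]; decide), mul_one] at h2
      exact (f.mem j).not_as_one h h2 (by rw [← mul_inv_rev, hyy, f.inZ.inv h]) h3
    · rw [if_neg (by rw [h5]; decide), if_pos h6, inv_one, one_mul] at h2
      exact (f.mem j).not_as_one h h2 (hyy j) h3
  exact no_supp S T ev1 ev2 ev3 hS2 hS3 hT2 hT3 hsame hdiff

/-! ### Third points -/

/-- the axis of `q` on `K` is the third point of the axes of `p`, `p'` -/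
def Third (K : Subgroup G) (p p' q : G) : Prop :=
  (∃ y, As K p y ∧ As K p' y ∧ As K q y) ∨ ∃ y y', As K p y ∧ As K p' y' ∧ y * y' ≠ y' * y ∧ As K q (y * y')

omit [Finite G] in
theorem Third.conj {p' : G} (h : Third K p p' q) (g : G) : Third (cj g K) (g * p * g⁻¹) (g * p' * g⁻¹) (g * q * g⁻¹) := by
  rcases h with ⟨y, h1, h2, h3⟩ | ⟨y, y', h1, h2, h3, h4⟩
  · exact Or.inl ⟨_, h1.conj g, h2.conj g, h3.conj g⟩
  · refine Or.inr ⟨_, _, h1.conj g, h2.conj g, fun h5 => h3 ?_, ?_⟩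
    · have h6 : g * (y * y') * g⁻¹ = g * (y' * y) * g⁻¹ := by
        calc g * (y * y') * g⁻¹ = g * y * g⁻¹ * (g * y' * g⁻¹) := by group
          _ = g * y' * g⁻¹ * (g * y * g⁻¹) := h5
          _ = _ := by group
      exact mul_left_cancel (mul_right_cancel h6)
    · have h6 : g * y * g⁻¹ * (g * y' * g⁻¹) = g * (y * y') * g⁻¹ := by group
      rw [h6]; exact h4.conj g

theorem Third.unique {p' q' : G} (h : W4 Om) (hK : Mem Om z K) (h1 : Third K p p' q) (h2 : Third K p p' q') :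
    Same K q q' := by
  have hcz : ∀ {y}, y ∈ K → y * z = z * y := fun hy => hK.comm_z h hy
  have hcc : ∀ {y w w'}, y ∈ K → (w = y ∨ w = z * y) → (w' = y ∨ w' = z * y) → w * w' = w' * w := by
    intro y w w' hy hw hw'
    rcases hw with rfl | rfl <;> rcases hw' with rfl | rfl
    · rfl
    · rw [← mul_assoc, hcz hy, mul_assoc]
    · rw [← mul_assoc, hcz hy, mul_assoc]
    · rfl
  rcases h1 with ⟨y, a1, a2, a3⟩ | ⟨y, y', a1, a2, a3, a4⟩ <;>
    rcases h2 with ⟨w, b1, b2, b3⟩ | ⟨w, w', b1, b2, b3, b4⟩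
  · exact ⟨w, a3.of_eq hK h (hK.as_unique h a1 b1), b3⟩
  · exact absurd (hcc a1.1 (hK.as_unique h a1 b1) (hK.as_unique h a2 b2)) b3
  · exact absurd (hcc b1.1 (hK.as_unique h b1 a1) (hK.as_unique h b2 a2)) a3
  · refine ⟨w * w', a4.of_eq hK h ?_, b4⟩
    have hzz := hK.inZ.z2 h
    rcases hK.as_unique h a1 b1 with rfl | rfl <;> rcases hK.as_unique h a2 b2 with rfl | rfl
    · exact Or.inl rfl
    · right; rw [← mul_assoc, hcz a1.1, mul_assoc]
    · right; rw [mul_assoc]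
    · left
      calc z * y * (z * y') = z * (y * z) * y' := by group
        _ = z * (z * y) * y' := by rw [hcz a1.1]
        _ = (z * z) * (y * y') := by group
        _ = _ := by rw [hzz, one_mul]

theorem Fc.third (f : Fc Om z F c) (h : W4 Om) {r r' : Fin 4 → Fin 3} (hb : q = PP c b ∨ q = z * PP c b)
    (hr : ∀ i, b i = -(r i + r' i)) (i : Fin 4) : Third (F i) (PP c r) (PP c r') q := by
  have h1 := f.as_P h r i
  have h2 := f.as_P h r' i
  have h3 := f.as_iff h hb i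
  have qi := f.q i
  rcases i_cases3 (r i) (r' i) with h4 | h4 | h4
  · left
    rw [hr, h4, ← n_add0] at h3
    rw [h4] at h2
    exact ⟨_, h1, h2, h3⟩
  · right
    rw [hr, h4, n_add1] at h3
    rw [h4] at h2
    refine ⟨_, _, h1, h2, fun h6 => ?_, ?_⟩
    · have h7 := qi.anti (i_ne1 (r i))
      rw [h6, mul_assoc] at h7
      exact qi.zne _ h7.symm
    · rw [qi.mul]; exact h3
  · right
    rw [hr, h4, n_add2] at h3
    rw [h4] at h2
    refine ⟨_, _, h1, h2, fun h6 => ?_, ?_⟩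
    · have h7 := qi.anti (i_ne2 (r i))
      rw [h6, mul_assoc] at h7
      exact qi.zne _ h7.symm
    · rw [qi.mul2']; exact h3.zl (f.f.mem i) h

/-! ### (6.3) -/

/-- CASE 2 -/
structure Two (Om : Set (Subgroup G)) : Prop where
  w : W4 Om
  comm : ∀ z t t', TI Om z t → TI Om z t' → t * t' = t' * t
  adj : ∀ z t, InZ Om z → InZ Om t → z ≠ t → z * t = t * z → TI Om z t ∨ ∃ e, TI Om z e ∧ TI Om t e
  cls : ∀ K ∈ Om, ∀ L ∈ Om, ∃ g, cj g K = L

namespace Two

variable (w : Two Om)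

include w

theorem exists_g (hK : Mem Om z K) (hL : Mem Om z L) : ∃ g, cj g K = L ∧ g * z = z * g := by
  obtain ⟨g, hg⟩ := w.cls K hK.1 L hL.1
  refine ⟨g, hg, ?_⟩
  have h1 := hK.cj w.w g
  rw [hg] at h1
  have h2 : g * z * g⁻¹ = z := h1.2.symm.trans hL.2
  rwa [mul_inv_eq_iff_eq_mul] at h2

theorem tr (f : Fc Om z F c) (hti : TI Om z t) (hti' : TI Om z t') (ha : t = PP c a ∨ t = z * PP c a)
    (hb : t' = PP c b ∨ t' = z * PP c b) (h1 : ∃ i, a i ≠ b i) (h0 : ∃ i, a i = b i) (k : Fin 4) :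
    ∃ a' b', InZ Om (PP c a') ∧ InZ Om (PP c b') ∧ a' k ≠ b' k ∧ ∃ j, a' j = b' j := by
  have h := w.w
  obtain ⟨i0, hi0⟩ := h1
  obtain ⟨i1, hi1⟩ := h0
  obtain ⟨g, hg, hgz⟩ := w.exists_g (f.f.mem i0) (f.f.mem k)
  have e1 : g * z * g⁻¹ = z := by rw [hgz, mul_inv_cancel_right]
  have t1 := hti.conj h g
  have t2 := hti'.conj h g
  rw [e1] at t1 t2
  obtain ⟨a', ha', ha2⟩ := f.exists_of_ti h t1
  obtain ⟨b', hb', hb2⟩ := f.exists_of_ti h t2
  refine ⟨a', b', ha', hb', fun h2 => hi0 ?_, ?_⟩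
  · have h3 := (f.same_iff h ha2 hb2 k).2 h2
    rw [← f.same_iff h ha hb]
    have h4 := h3.conj g⁻¹
    rw [← hg, cj_inv_cj] at h4
    have h5 : ∀ t, g⁻¹ * (g * t * g⁻¹) * g⁻¹⁻¹ = t := fun t => by group
    rwa [h5, h5] at h4
  · obtain ⟨j, hj⟩ := f.f.cov _ ((f.f.mem i1).cj_comm h hgz)
    refine ⟨j, ?_⟩
    rw [← f.same_iff h ha2 hb2, hj]
    exact ((f.same_iff h ha hb i1).2 hi1).conj g

theorem six3_aux (hti : TI Om z t) (hst : TI Om s t) (hti' : TI Om z t') (hzs : z * s = s * z) :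
    s * t' * s⁻¹ = t' ∨ s * t' * s⁻¹ = z * t' := by
  have h := w.w
  obtain ⟨F, c, f⟩ := exists_fc hti.inZ h
  obtain ⟨a, ha, ha'⟩ := f.exists_of_ti h hti
  obtain ⟨b, hb, hb'⟩ := f.exists_of_ti h hti'
  have fin : s * t' = t' * s → s * t' * s⁻¹ = t' := fun h1 => by rw [h1, mul_inv_cancel_right]
  by_cases h0 : ∃ i, a i = b i
  · by_cases h1 : ∃ i, a i ≠ b i
    · obtain ⟨r, r', hr, hr', d, d', hrr⟩ := (f.code h (w.comm z)).exists_rr ha hb h1 h0
        (w.tr f hti hti' ha' hb' h1 h0)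
      have key : ∀ r : Fin 4 → Fin 3, InZ Om (PP c r) → (∀ i, a i ≠ r i) → s * PP c r * s⁻¹ = PP c r := by
        intro r hr d
        have h2 : TI Om t (PP c r) := opp h w.comm hti ((f.ti_P h).2 hr) fun K hK h3 => by
          obtain ⟨i, rfl⟩ := f.f.cov K hK
          exact d i ((f.same_iff h ha' (Or.inl rfl) i).1 h3)
        rw [w.comm t s _ (hst.symm h) h2, mul_inv_cancel_right]
      have h3 := f.third h hb' hrr
      refine eq_or_of_as h f.f.inZ (hti'.mem_RZ h) (RZ_conj_comm h hzs.symm (hti'.mem_RZ h)) fun K hK => ?_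
      have h4 := hK.cj_comm h (g := s⁻¹) (by rw [inv_mul_eq_iff_eq_mul, ← mul_assoc, ← hzs, mul_inv_cancel_right])
      obtain ⟨i, hi⟩ := f.f.cov _ h4
      obtain ⟨j, rfl⟩ := f.f.cov K hK
      have h5 := (h3 i).conj s
      rw [hi, cj_cj_inv, key r hr d, key r' hr' d'] at h5
      exact Third.unique h hK (h3 j) h5
    · push Not at h1
      left
      apply fin
      have h2 : b = a := funext fun i => (h1 i).symm
      have hs : s * t = t * s := hst.comm
      have hzt := f.f.inZ.z2 h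
      have h3 : t' = t ∨ t' = z * t := by
        rw [h2] at hb'
        rcases ha' with rfl | rfl <;> rcases hb' with rfl | rfl
        · exact Or.inl rfl
        · exact Or.inr rfl
        · right; rw [← mul_assoc, hzt, one_mul]
        · exact Or.inl rfl
      rcases h3 with rfl | rfl
      · exact hs
      · rw [← mul_assoc, ← hzs, mul_assoc, hs, mul_assoc]
  · push Not at h0
    left
    apply fin
    have h2 : TI Om t t' := opp h w.comm hti hti' fun K hK h3 => by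
      obtain ⟨i, rfl⟩ := f.f.cov K hK
      exact h0 i ((f.same_iff h ha' hb' i).1 h3)
    exact w.comm t s t' (hst.symm h) h2

/-- **(6.3)** -/
theorem six3 (hti : TI Om z t) (hst : TI Om s t) (hti' : TI Om z t') (hzs : z * s = s * z) : s * t' = t' * s := by
  have h := w.w
  have h1 := w.six3_aux hti hst hti' hzs
  have h2 := w.six3_aux (hti.symm h) (hti'.symm h) (hst.symm h) (w.comm z t t' hti hti')
  rcases h1 with h1 | h1
  · rwa [mul_inv_eq_iff_eq_mul] at h1
  rcases h2 with h2 | h2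
  · rw [mul_inv_eq_iff_eq_mul] at h2; exact h2.symm
  exfalso
  rw [mul_inv_eq_iff_eq_mul] at h1 h2
  -- `s t' = z t' s = z t s t'`
  have h3 : s * t' = z * t * (s * t') := by
    calc s * t' = z * t' * s := h1
      _ = z * (t' * s) := by group
      _ = z * (t * s * t') := by rw [h2]
      _ = _ := by group
  have h4 : z * t = 1 := (mul_eq_right.1 h3.symm)
  apply hti.ne
  rw [← hti.inT.inv h]
  exact mul_eq_one_iff_eq_inv.1 h4

/-- **(6.4)**, one type I pair -/
theorem comm_of_ti (hti : TI Om z t) (hs : InZ Om s) (hzs : z * s = s * z) : s * t = t * s := by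
  by_cases h1 : z = s
  · subst h1; exact hti.comm
  rcases w.adj z s hti.inZ hs h1 hzs with h2 | ⟨e, h2, h3⟩
  · exact (w.comm z t s hti h2).symm
  · exact w.six3 h2 h3 hti hzs

/-- **(6.4)** commuting is transitive on `Z` -/
theorem comZ : ComZ {z | InZ Om z} where
  sq z hz := InZ.z2 hz w.w
  ne z hz := InZ.z1 hz w.w
  conj z hz g := InZ.conj hz w.w g
  tr z hz s hs s' hs' hzs hzs' := by
    by_cases h1 : z = s'
    · subst h1; exact hzs.symm
    rcases w.adj z s' hz hs' h1 hzs' with h2 | ⟨e, h2, h3⟩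
    · exact w.comm_of_ti h2 hs hzs
    · have h4 := w.comm_of_ti h2 hs hzs
      exact w.comm_of_ti (h3.symm w.w) hs h4.symm

/-- `z` is central in the Sylow 2-subgroups containing a member over `z` -/
theorem central (S : Sylow 2 G) (hK : Mem Om z K) (hKS : K ≤ S) : ∀ s ∈ S, s * z = z * s := by
  have h := w.w
  have hS : ∀ L ∈ Om, L ≤ (S : Subgroup G) → L ∈ OmS Om (S : Subgroup G) := fun L hL hLS => by
    refine ⟨hL, ?_⟩
    rw [relIndex_eq_one.2 hLS]
    decide
  intro s hs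
  have h1 := hK.cj h s
  have h2 : cj s K ≤ (S : Subgroup G) := by
    rintro _ ⟨k, hk, rfl⟩
    exact mul_mem (mul_mem hs (hKS hk)) (inv_mem hs)
  by_cases h3 : cj s K = K
  · exact hK.of_cj h h3
  · have h4 : ∀ k ∈ cj s K, ∀ l ∈ K, k * l = l * k := fun k hk l hl =>
      h.hyp.comm S.isPGroup' (hS _ h1.1 h2) (hS _ hK.1 hKS) h3 ⟨hk, h2 hk⟩ ⟨hl, hKS hl⟩
    have h5 := h.one _ h1.1 _ hK.1 h4
    rw [h1.2, hK.2] at h5
    rwa [mul_inv_eq_iff_eq_mul] at h5

/-- **CASE 2**: a strongly closed commutative subgroup -/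
theorem exists_closed (S : Sylow 2 G) (hK : Mem Om z K) (hKS : K ≤ S) :
    IsStronglyClosed (AZ {z | InZ Om z} z) (S : Subgroup G) ∧
    (∀ x ∈ AZ {z | InZ Om z} z, ∀ y ∈ AZ {z | InZ Om z} z, x * y = y * x) ∧ AZ {z | InZ Om z} z ≠ ⊥ := by
  have hz : z ∈ {z | InZ Om z} := hK.inZ
  have hc := w.central S hK hKS
  refine ⟨w.comZ.exists_closed S hz (hKS (hK.zmem w.w)) hc, w.comZ.AZ_comm hz, fun h1 => ?_⟩
  have h2 : z ∈ AZ {z | InZ Om z} z := ComZ.self_mem hz
  rw [h1, mem_bot] at h2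
  exact hK.inZ.z1 w.w h2

end Two

end

end Cfsg.Agent.Cit.Nil.RFour
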