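import Cfsg.Agent.Cit.Nil.RFour.TS
import Cfsg.Agent.Cit.Nil.ROne.FStar
import Cfsg.Agent.GH.QAZStar

/-!
# `r = 4`, `m = 1`: the members lie in `X = F*(G)` (section 4 of `blueprints/CIT-6b-r4m1-helper449.md`)

* `C3R Om` : (C3) for the members; `C3R.of_c3` : it follows from `Nil.C3 K` for a class;
* `W4.mem_of_fsimp` : (4.1) `Z ⊆ X`;
* `W4.inf_cases` : `K ≤ X` or `K ∩ X = ⟨z⟩`;
* `TrX Om X` : `K ∩ X = ⟨z⟩` for the members; `TrX.pm` (a), `TrX.not_ti` (b), `TrX.false_of` (c);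
* `W4.mem_le` : **all members lie in `X`**.
-/

set_option autoImplicit false
set_option linter.style.haveILetI false
set_option linter.unusedSectionVars false

namespace Cfsg.Agent.Cit.Nil.RFour

open Subgroup Cfsg Cfsg.Agent.Cit

open RTwo (Q3 Act i11 i12 i21 i22 i_ne1 i_ne2 i_ne12 i_cases i_cases3)

variable {G : Type*} [Group G]

/-- (C3) -/
def C3R (Om : Set (Subgroup G)) : Prop :=
  ∀ z K, Mem Om z K → ∀ y ∈ K, y * y = z → ∃ g, Cit.cj g K = K ∧ g * y * g⁻¹ ≠ y ∧ g * y * g⁻¹ ≠ y⁻¹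

variable [Finite G] {Om : Set (Subgroup G)} {K L M X : Subgroup G} {g g' t x y z s d : G}

/-- an automorphism of order 3 of `K` moves all axes -/
theorem Mem.axes (hK : Mem Om z K) (h : W4 Om) (hg : Cit.cj g K = K) (hodd : Odd (orderOf g))
    (hn : ¬ ∀ k ∈ K, g * k = k * g) (hy : y ∈ K) (hyy : y * y = z) : g * y * g⁻¹ ≠ y ∧ g * y * g⁻¹ ≠ y⁻¹ := by
  obtain ⟨a, qa, rfl⟩ := hK.exists_q h hy hyy
  have hgz : g * z = z * g := hK.of_cj h hg
  obtain ⟨σ, hσ⟩ := qa.exists_act qa hg hgz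
  -- powers of `g`
  have hpow : ∀ n : ℕ, Act z a a (g ^ n) (σ ^ n) := by
    intro n
    induction n with
    | zero => rw [pow_zero, pow_zero]; exact Act.one a z
    | succ n ih =>
      rw [pow_succ', pow_succ']
      exact ih.comp (hK.inZ.z2 h) hσ hgz
  have h1 := hpow (orderOf g)
  rw [pow_orderOf_eq_one] at h1
  have h2 : σ ^ orderOf g = 1 := h1.unique qa (Act.one a z)
  have h3 : σ = 1 ∨ ∀ i, σ i ≠ i := by
    have h4 : σ ^ 6 = 1 := by
      have h5 : ∀ σ : Equiv.Perm (Fin 3), σ * σ = 1 ∨ σ * σ * σ = 1 := by decide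
      rcases h5 σ with h6 | h6
      · calc σ ^ 6 = (σ * σ) * (σ * σ) * (σ * σ) := by simp only [pow_succ, pow_zero, one_mul, mul_assoc]
          _ = 1 := by rw [h6, one_mul, one_mul]
      · calc σ ^ 6 = (σ * σ * σ) * (σ * σ * σ) := by simp only [pow_succ, pow_zero, one_mul, mul_assoc]
          _ = 1 := by rw [h6, one_mul]
    have h5 : σ ^ 3 = 1 := by
      have h6 : orderOf σ ∣ 3 := by
        have h7 : orderOf σ ∣ 6 := orderOf_dvd_of_pow_eq_one h4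
        have h8 : Odd (orderOf σ) := Odd.of_dvd_nat hodd (orderOf_dvd_of_pow_eq_one h2)
        exact (Nat.Coprime.dvd_of_dvd_mul_left (k := orderOf σ) (m := 2) (n := 3)
          (Nat.coprime_two_right.2 h8) h7)
      exact orderOf_dvd_iff_pow_eq_one.1 h6
    have h6 : ∀ σ : Equiv.Perm (Fin 3), σ * σ * σ = 1 → σ = 1 ∨ ∀ i, σ i ≠ i := by decide
    refine h6 σ ?_
    rw [← h5]; simp only [pow_succ, pow_zero, one_mul]
  rcases h3 with h3 | h3
  · exfalso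
    subst h3
    apply hn
    rcases qa.inner_cases (hσ.inner qa hgz) with h4 | ⟨j, h4⟩
    · intro k hk
      rw [← mul_inv_eq_iff_eq_mul, h4 k hk]
    · -- `g²` centralises `K`
      have hgg : ∀ k ∈ K, (g ^ 2) * k = k * g ^ 2 := by
        intro k hk
        have h5 : a j * k * (a j)⁻¹ ∈ K := mul_mem (mul_mem (qa.mem j) hk) (inv_mem (qa.mem j))
        have h6 : g ^ 2 * k * (g ^ 2)⁻¹ = k := by
          calc g ^ 2 * k * (g ^ 2)⁻¹ = g * (g * k * g⁻¹) * g⁻¹ := by rw [pow_two]; group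
            _ = g * (a j * k * (a j)⁻¹) * g⁻¹ := by rw [h4 k hk]
            _ = a j * (a j * k * (a j)⁻¹) * (a j)⁻¹ := h4 _ h5
            _ = (a j * a j) * k * (a j * a j)⁻¹ := by group
            _ = k := by rw [qa.sq, ← hK.comm_z h hk, mul_inv_cancel_right]
        rwa [mul_inv_eq_iff_eq_mul] at h6
      intro k hk
      obtain ⟨m, hm⟩ := hodd
      have h7 : g = (g ^ 2) ^ (m + 1) := by
        rw [← pow_mul]
        have h8 : 2 * (m + 1) = orderOf g + 1 := by omega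
        rw [h8, pow_succ, pow_orderOf_eq_one, one_mul]
      have h9 : Commute (g ^ 2) k := hgg k hk
      have h10 := h9.pow_left (m + 1)
      rw [← h7] at h10
      exact h10.eq
  · have h4 := h3 0
    rw [qa.inv]
    constructor <;> intro h5
    · apply h4
      rcases hσ 0 with h6 | h6
      · exact qa.inj (Or.inl (h6.symm.trans h5))
      · exact (qa.inj (Or.inr (h5.symm.trans h6))).symm
    · apply h4
      rcases hσ 0 with h6 | h6
      · exact qa.inj (Or.inr (h6.symm.trans h5))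
      · exact qa.inj (Or.inl (mul_left_cancel (h6.symm.trans h5)))

/-- (C3) from `Nil.C3 K` for one member of a class -/
theorem C3R.of_c3 (h : W4 Om) (cls : ∀ K ∈ Om, ∀ L ∈ Om, ∃ g, cj g K = L) (hK : K ∈ Om) (c3 : Nil.C3 K) : C3R Om := by
  obtain ⟨Q, hQ, h8, c, hcK, -, hc3, q, hq, hcq⟩ := c3
  have hodd : Odd (orderOf c) := by
    obtain ⟨k, hk⟩ := hc3 ⟨c, mem_zpowers c⟩
    have hk' : c ^ 3 ^ k = 1 := congrArg Subtype.val hk
    exact Odd.of_dvd_nat (Odd.pow (by decide)) (orderOf_dvd_of_pow_eq_one hk')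
  intro z L hL y hy hyy
  obtain ⟨g, rfl⟩ := cls K hK L hL.1
  have h1 : cj (g * c * g⁻¹) (cj g K) = cj g K := by
    rw [cj_mul, cj_mul, cj_inv_cj, mem_normalizer_iff_cj.1 hcK]
  refine ⟨g * c * g⁻¹, h1, hL.axes h h1 ?_ ?_ hy hyy⟩
  · have h2 := (MulAut.conj g).orderOf_eq c
    rw [MulAut.conj_apply] at h2
    rw [h2]; exact hodd
  · intro h2
    apply hcq
    have h3 := h2 _ (conj_mem_cj (g := g) (hQ.1 hq))
    have h4 : g * (c * q) * g⁻¹ = g * (q * c) * g⁻¹ := by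
      calc g * (c * q) * g⁻¹ = g * c * g⁻¹ * (g * q * g⁻¹) := by group
        _ = g * q * g⁻¹ * (g * c * g⁻¹) := h3
        _ = g * (q * c) * g⁻¹ := by group
    exact mul_left_cancel (mul_right_cancel h4)

/-- **(4.1)** `Z ⊆ X` -/
theorem W4.mem_of_fsimp (h : W4 Om) (f : ROne.FSimp X) (h2 : 2 ∣ Nat.card X) (hz : InZ Om z) : z ∈ X := by
  haveI := f.nor
  haveI := f.sim
  have hO : OO X = ⊥ := by
    have h3 : (OO X).Normal := by
      refine ⟨fun n hn g => ?_⟩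
      have h4 : cj g X = X := mem_normalizer_iff_cj.1 (by rw [normalizer_eq_top_iff.2 f.nor]; exact mem_top g)
      have h5 : cj g (OO X) = OO X := by rw [← OO_cj, h4]
      rw [← h5]
      exact conj_mem_cj hn
    by_contra hne
    have h4 := f.le (N := OO X) (fun g _ n hn => h3.conj_mem n hn g) hne
    exact odd_OO X (h2.trans (card_dvd_of_le h4))
  by_contra hn
  obtain ⟨K, hK, rfl⟩ := hz
  have h4 := h.hyp.lemma_two (K := K) (M := X) (fun L hL => h.isPGroup hL) hK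
    (by rw [normalizer_eq_top_iff.2 f.nor]; exact le_top) hO hn
  apply h.hyp.zz_ne hK
  have h5 : zz K ∈ centralizer (X : Set G) := by
    rw [mem_centralizer_iff]
    exact fun g hg => mem_centralizer_singleton_iff.1 (h4 hg)
  rwa [f.cen, mem_bot] at h5

/-- **(4.2)** -/
theorem W4.inf_cases (h : W4 Om) (c3 : C3R Om) (hn : X.Normal) (hK : Mem Om z K) :
    K ≤ X ∨ ∀ y ∈ K, y ∈ X → y = 1 ∨ y = z := by
  by_contra hcon
  push Not at hcon
  obtain ⟨h1, y, hy, hyX, hy1, hyz⟩ := hcon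
  have hyy : y * y = z := ((hK.sq_cases h hy).resolve_left hy1).resolve_left hyz
  obtain ⟨g, hg, hg1, hg2⟩ := c3 z K hK y hy hyy
  have hgz := hK.of_cj h hg
  have hgy : g * y * g⁻¹ ∈ K := by
    have := conj_mem_cj (g := g) hy
    rwa [hg] at this
  have hgg : g * y * g⁻¹ * (g * y * g⁻¹) = z := by
    calc g * y * g⁻¹ * (g * y * g⁻¹) = g * (y * y) * g⁻¹ := by group
      _ = z := by rw [hyy, hgz, mul_inv_cancel_right]
  have hnc : y * (g * y * g⁻¹) ≠ (g * y * g⁻¹) * y := by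
    intro hc
    rcases hK.of_comm h hy hyy hgy hc with h3 | h3 | h3 | h3
    · rw [h3, one_mul] at hgg; exact hK.inZ.z1 h hgg.symm
    · rw [h3, hK.inZ.z2 h] at hgg; exact hK.inZ.z1 h hgg.symm
    · exact hg1 h3
    · exact hg2 (h3.trans (hK.inv_eq h hy hyy).symm)
  obtain ⟨a, qa, h3, h4⟩ := hK.exists_q2 h hy hyy hgy hgg hnc
  refine h1 (qa.le_of_mem (i_ne1 0) ?_ ?_)
  · rw [h3]; exact hyX
  · rw [zero_add, h4]; exact hn.conj_mem _ hyX g

/-- `K ∩ X = ⟨z⟩` -/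
structure TrX (Om : Set (Subgroup G)) (X : Subgroup G) : Prop where
  w : W4 Om
  nor : X.Normal
  inf : ∀ z K, Mem Om z K → ∀ y ∈ K, y ∈ X → y = 1 ∨ y = z

namespace TrX

variable (r : TrX Om X)

include r

/-- (a) -/
theorem pm (hK : Mem Om z K) (hd : d ∈ X) (hdK : cj d K = K) : ∀ k ∈ K, d * k * d⁻¹ = k ∨ d * k * d⁻¹ = z * k := by
  intro k hk
  have h0 : d * k * d⁻¹ ∈ K := by
    have := conj_mem_cj (g := d) hk
    rwa [hdK] at this
  have h2 : d * k * d⁻¹ * k⁻¹ ∈ X := by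
    have h3 : d * k * d⁻¹ * k⁻¹ = d * (k * d⁻¹ * k⁻¹) := by group
    rw [h3]
    exact mul_mem hd (r.nor.conj_mem _ (inv_mem hd) k)
  rcases r.inf z K hK _ (mul_mem h0 (inv_mem hk)) h2 with h3 | h3
  · exact Or.inl (mul_inv_eq_one.1 h3)
  · right; rwa [mul_inv_eq_iff_eq_mul] at h3

/-- (b) -/
theorem not_ti (hg : g ∈ X) : ¬ TI Om z (g * z * g⁻¹) := by
  intro hti
  obtain ⟨K, hK⟩ := hti.inZ
  have hL : Mem Om (g * z * g⁻¹) (cj g K) := hK.cj r.w g
  obtain ⟨x, hx, hxx⟩ := (hti.symm r.w).exists_as r.w hL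
  obtain ⟨y, hy, hyy⟩ := hti.exists_as r.w hK
  obtain ⟨h1, -, h2⟩ := (hti.symm r.w).rot r.w hL hK hx hy
  -- `x = g k g⁻¹`
  have hk : g⁻¹ * x * g ∈ K := mem_cj.1 hx.1
  set k := g⁻¹ * x * g with hkdef
  have hd : x * k⁻¹ ∈ X := by
    have h4 : x * k⁻¹ = (x * g⁻¹ * x⁻¹) * g := by rw [hkdef]; group
    rw [h4]
    exact mul_mem (r.nor.conj_mem _ (inv_mem hg) x) hg
  have hdK : cj (x * k⁻¹) K = K := by
    rw [cj_mul, mem_normalizer_iff_cj.1 (le_normalizer (inv_mem hk)), h1]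
  obtain ⟨u, hu, huu, hyu⟩ := hK.exists_nc r.w hy.1 hyy
  have h3 := h2 u hu huu hyu
  have huk : k * u * k⁻¹ ∈ K := mul_mem (mul_mem hk hu) (inv_mem hk)
  have h4 := r.pm hK hd hdK _ huk
  have h5 : x * k⁻¹ * (k * u * k⁻¹) * (x * k⁻¹)⁻¹ = x * u * x⁻¹ := by group
  rw [h5] at h4
  have hz2 := hK.inZ.z2 r.w
  have hz1 := hK.inZ.z1 r.w
  have e1 : ∀ g : G, z * (z * g) = g := fun g => by rw [← mul_assoc, hz2, one_mul]
  -- `x u x⁻¹ ∈ {u, z u}`
  have h6 : x * u * x⁻¹ = u ∨ x * u * x⁻¹ = z * u := by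
    rcases hK.comm_or r.w hu hk with h7 | h7 <;> rw [h7] at h4
    · exact h4
    · rcases h4 with h4 | h4
      · exact Or.inr h4
      · left; rw [h4, e1]
  have h8 : y = 1 ∨ y = z := by
    rcases h3 with h3 | h3 <;> rcases h6 with h6 | h6 <;> rw [h3] at h6
    · left; exact mul_eq_right.1 h6
    · right; exact mul_right_cancel h6
    · right
      have h7 := congrArg (z * ·) h6
      simp only [e1] at h7
      exact mul_right_cancel h7
    · left
      exact mul_eq_right.1 (mul_left_cancel h6)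
  rcases h8 with h8 | h8
  · rw [h8, one_mul] at hyy; exact hz1 hyy.symm
  · rw [h8, hz2] at hyy; exact hz1 hyy.symm

/-- (c) -/
theorem false_of (h33 : Exc Om) (f : ROne.FSimp X) (hz : InZ Om z) (hzX : z ∈ X) : False := by
  haveI := f.sim
  have hnc : ¬ IsMulCommutative X := by
    intro h2
    exact f.na fun x hx y hy => congrArg Subtype.val (h2.is_comm.comm ⟨x, hx⟩ ⟨y, hy⟩)
  have hz2 := hz.z2 r.w
  have hz1 := hz.z1 r.w
  obtain ⟨⟨g, hg⟩, h2, h3⟩ := GH.QA.not_isolated f.sim hnc (u := (⟨z, hzX⟩ : X))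
    (Subtype.ext hz2) (fun h2 => hz1 (congrArg Subtype.val h2))
  have h2' : z * (g * z * g⁻¹) = g * z * g⁻¹ * z := congrArg Subtype.val h2
  have h3' : z ≠ g * z * g⁻¹ := fun h4 => h3 (Subtype.ext h4.symm)
  have ht := hz.conj r.w g
  have hnti : ¬ TI Om z (g * z * g⁻¹) := r.not_ti hg
  have htX : g * z * g⁻¹ ∈ X := r.nor.conj_mem _ hzX g
  obtain ⟨w, hw, h4⟩ := h33 z (g * z * g⁻¹) hz ht h3' h2' hnti (fun K hK h5 =>
    hnti (TI.of_one r.w hK ht h3' (r.pm hK htX h5))) (fun L hL h5 =>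
    hnti ((TI.of_one r.w hL hz h3'.symm (r.pm hL hzX h5)).symm r.w))
  have hwz : w * z = z * w := RZ_le_centralizer r.w hw
  -- `w t w⁻¹ = c t c⁻¹`
  have hc : w * g * w⁻¹ * g⁻¹ ∈ X := mul_mem (r.nor.conj_mem _ hg w) (inv_mem hg)
  apply r.not_ti (z := g * z * g⁻¹) hc
  have h5 : w * g * w⁻¹ * g⁻¹ * (g * z * g⁻¹) * (w * g * w⁻¹ * g⁻¹)⁻¹ = w * (g * z * g⁻¹) * w⁻¹ := by
    have h6 : w⁻¹ * z * w = z := by rw [mul_assoc, ← hwz, inv_mul_cancel_left]
    calc w * g * w⁻¹ * g⁻¹ * (g * z * g⁻¹) * (w * g * w⁻¹ * g⁻¹)⁻¹ = w * g * (w⁻¹ * z * w) * g⁻¹ * w⁻¹ := by group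
      _ = _ := by rw [h6]; group
  rw [h5]
  exact h4

end TrX

/-- **all members lie in `X`** -/
theorem W4.mem_le (h : W4 Om) (cls : ∀ K ∈ Om, ∀ L ∈ Om, ∃ g, cj g K = L) (c3 : C3R Om) (f : ROne.FSimp X)
    (h2 : 2 ∣ Nat.card X) (h33 : Exc Om) (hK : K ∈ Om) : K ≤ X := by
  by_contra hKX
  refine TrX.false_of (z := zz K) (X := X) ⟨h, f.nor, fun z L hL => ?_⟩ h33 f ⟨K, hK, rfl⟩
    (h.mem_of_fsimp f h2 ⟨K, hK, rfl⟩)
  refine (h.inf_cases c3 f.nor hL).resolve_left fun h1 => hKX ?_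
  obtain ⟨g, rfl⟩ := cls L hL.1 K hK
  intro x hx
  have h3 := f.nor.conj_mem _ (h1 (mem_cj.1 hx)) g
  have h4 : g * (g⁻¹ * x * g) * g⁻¹ = x := by group
  rwa [h4] at h3

end Cfsg.Agent.Cit.Nil.RFour
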