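import Cfsg.Agent.Cit.Nil.RFour.Closed
import Cfsg.Agent.Cit.Nil.RFour.FStar
import Cfsg.Agent.Cit.Nil.RFour.CaseTwo

/-!
# `r = 4`, `m = 1`: the assembly up to (3.3), section 6 and section 7

* `W4.CX_eq_one` : (5.1) `C(R_z) = ⟨z⟩`;
* `concl_plus` : `PΩ₈⁺(3)`, `PΩ₈⁺(2)` satisfy the conclusion of S1309;
* `LIn` : the external inputs (S1169, Bender's theorem, S1173), all proved in `Cit/ExtIn.lean`, `Cit/CoreOneFull.lean`;
* `W4.false_of_two` : Case 2 is impossible;
* `main_of` : `LeafR4One` for one group from `Exc` (3.3) and Case 1 (section 7);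
* `leafR4_of` : `AssemblyNil.LeafR4` from `LeafR4One` and the part `m ≥ 2`.
-/

set_option autoImplicit false
set_option linter.style.haveILetI false
set_option linter.unusedSectionVars false

namespace Cfsg.Agent.Cit.Nil.RFour

open Subgroup Cfsg Cfsg.Agent.Cit

universe u

variable {G : Type*} [Group G] [Finite G] {Om : Set (Subgroup G)} {K L : Subgroup G} {X : Subgroup G} {z g s : G}

/-- **(5.1)** -/
theorem W4.CX_eq_one (h : W4 Om) (hz : InZ Om z) (hN : N0 Om z = ⊥) {n : G} (hn : n ∈ CX Om z) :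
    n = 1 ∨ n = z := by
  rw [h.CX_eq_zpowers hz hN] at hn
  obtain ⟨k, rfl⟩ := mem_zpowers_iff.1 hn
  have h1 : z ^ k = 1 ∨ z ^ k = z := by
    have h2 : orderOf z = 2 := hz.orderOf h
    rcases Int.even_or_odd' k with ⟨m, rfl | rfl⟩
    · left
      rw [zpow_mul, zpow_two, hz.z2 h, one_zpow]
    · right
      rw [zpow_add, zpow_mul, zpow_two, hz.z2 h, one_zpow, one_mul, zpow_one]
  exact h1

/-- `PΩ₈⁺(3)`, `PΩ₈⁺(2)` -/
theorem concl_plus {X : Type*} [Group X]
    (h : (∃ (F : Type) (_ : Field F) (_ : Fintype F), Fintype.card F = 3 ∧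
        Nonempty (X ≃* Cfsg.POmega F (Cfsg.quadFormPlus 4 F))) ∨
      (∃ (F : Type) (_ : Field F) (_ : Fintype F), Fintype.card F = 2 ∧
        Nonempty (X ≃* Cfsg.POmega F (Cfsg.quadFormPlus 4 F)))) : AssemblyNil.Concl X := by
  rcases h with ⟨F, _, _, hF, ⟨e⟩⟩ | ⟨F, i1, i2, hF, ⟨e⟩⟩
  · left
    have h3 : CharP F 3 := by
      obtain ⟨n, hn, hc⟩ := FiniteField.card F (ringChar F)
      rw [hF] at hc
      have h4 : ringChar F = 3 := by
        have h5 : ringChar F ∣ 3 := by rw [hc]; exact dvd_pow_self _ n.pos.ne'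
        exact (Nat.prime_dvd_prime_iff_eq hn Nat.prime_three).1 h5
      rw [← h4]; infer_instance
    exact ⟨3, Nat.prime_three, by norm_num, Or.inr (Or.inr (Or.inr (Or.inr (Or.inl
      ⟨F, inferInstance, inferInstance, h3, 4, le_rfl, ⟨e⟩⟩))))⟩
  · exact Or.inr (Or.inr (Or.inr ⟨F, i1, i2, hF, Or.inr ⟨e⟩⟩))

/-- the external inputs -/
structure LIn : Prop where
  /-- S1169 -/
  gold : ∀ (X : Type u) [Group X] [Finite X] [IsSimpleGroup X] (S : Sylow 2 X) (A : Subgroup X), A ≠ ⊥ →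
    IsMulCommutative A → IsStronglyClosed A (S : Subgroup X) →
    IsMulCommutative (S : Subgroup X) ∨ ∃ H : Subgroup X, IsStronglyEmbedded H
  /-- Bender's theorem -/
  bend : ∀ (X : Type u) [Group X] [Finite X] [IsSimpleGroup X], CloEnd.Bend X
  /-- S1173 -/
  h1173 : ∀ (G : Type u) [Group G] [Finite G], oddCore G = ⊥ → OneF.H1173 G

/-- **Case 2 is impossible** -/
theorem W4.false_of_two (h : W4 Om) (hK : K ∈ Om) (hc : OneCls Om) (exc : Exc Om) (f : ROne.FSimp X)
    (hle : ∀ K ∈ Om, K ≤ X) (gold : Cit.ROne.Gold X) (hB : CloEnd.Bend X)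
    (comm : ∀ z t t', TI Om z t → TI Om z t' → t * t' = t' * t) : False := by
  obtain ⟨S, hS⟩ := (h.isPGroup hK).exists_le_sylow
  have w : Two Om := ⟨h, comm, fun z t hz ht hne hzt => exists_common h exc hz ht hne hzt, hc⟩
  obtain ⟨h1, h2, h3⟩ := w.exists_closed S (z := zz K) ⟨hK, rfl⟩ hS
  refine h.false_of_closed ⟨K, hK⟩ f hle gold hB S h3 ?_ h2 h1
  unfold AZ
  rw [closure_le]
  rintro s ⟨⟨L, hL⟩, -⟩
  exact hle L hL.1 (hL.zmem h)

theorem oddCore_eq_bot (f : ROne.FSimp X) (h2 : 2 ∣ Nat.card X) : oddCore G = ⊥ := by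
  by_contra hb
  have h3 := f.le (N := oddCore G) (fun g _ n hn => (Lib.Cores.pPrimeCore_normal 2 (G := G)).conj_mem n hn g) hb
  have h4 := h2.trans (card_dvd_of_le h3)
  have h5 := Lib.Cores.pPrimeCore_coprime (G := G) 2
  have h6 := Nat.dvd_gcd h4 (dvd_refl 2)
  rw [h5] at h6
  omega

theorem main_of {G : Type u} [Group G] [Finite G] {K : Subgroup G} (i : LIn.{u}) (w : AssemblyNil.W3 G K)
    (hf : ∀ t : G, orderOf t = 2 → centralizerPPrimeCore 2 t = ⊥) (h4 : (AssemblyNil.ovr K).ncard = 4)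
    (hm : MOne (cls K)) (exc : W4 (cls K) → Exc (cls K))
    (one : W4 (cls K) → OneCls (cls K) → C3' (cls K) → ROne.FSimp (generalizedFittingSubgroup G) →
      (∀ L ∈ cls K, L ≤ generalizedFittingSubgroup G) →
      (∀ z, InZ (cls K) z → ∀ n ∈ CX (cls K) z, n = 1 ∨ n = z) → ∀ z t t', TI (cls K) z t → TI (cls K) z t' →
      t * t' ≠ t' * t →
      (∃ (F : Type) (_ : Field F) (_ : Fintype F), Fintype.card F = 3 ∧
        Nonempty (↥(generalizedFittingSubgroup G) ≃* Cfsg.POmega F (Cfsg.quadFormPlus 4 F))) ∨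
      (∃ (F : Type) (_ : Field F) (_ : Fintype F), Fintype.card F = 2 ∧
        Nonempty (↥(generalizedFittingSubgroup G) ≃* Cfsg.POmega F (Cfsg.quadFormPlus 4 F)))) :
    AssemblyNil.Concl ↥(generalizedFittingSubgroup G) := by
  have h := W4.of_w3 w h4 hf hm
  have hc := oneCls_cls K
  have c3 := c3'_of h w.c3
  have c3r := C3R.of_c3 h hc (self_mem_cls K) w.c3
  have cf := CF.of_free h hf
  have f := ROne.fsimp_of w.simple w.na
  have e := exc h
  have hle : ∀ L ∈ cls K, L ≤ generalizedFittingSubgroup G := fun L hL => h.mem_le hc c3r f w.even e hL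
  haveI := f.sim
  have gold : Cit.ROne.Gold ↥(generalizedFittingSubgroup G) := fun S A h1 h2 h3 => i.gold _ S A h1 h2 h3
  have hB : CloEnd.Bend ↥(generalizedFittingSubgroup G) := i.bend _
  have h1173 : OneF.H1173 G := i.h1173 G (oddCore_eq_bot f w.even)
  have hN : ∀ z, InZ (cls K) z → N0 (cls K) z = ⊥ := fun z hz => h.N0_eq_bot e f hle gold hB h1173 cf hz
  have hcx : ∀ z, InZ (cls K) z → ∀ n ∈ CX (cls K) z, n = 1 ∨ n = z := fun z hz n hn =>
    h.CX_eq_one hz (hN z hz) hn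
  by_cases h2 : ∀ z t t', TI (cls K) z t → TI (cls K) z t' → t * t' = t' * t
  · exact (h.false_of_two (self_mem_cls K) hc e f hle gold hB h2).elim
  · push Not at h2
    obtain ⟨z, t, t', h5, h6, h7⟩ := h2
    exact concl_plus (one h hc c3 f hle hcx z t t' h5 h6 h7)

/-- **the leaf `r = 4`** from its two halves (with S1311 and `AssemblyNil.UnbalStmt`) -/
theorem leafR4_of (h1311 : ∀ (G : Type u) [Group G] [Finite G], AssemblyNil.FS G → AssemblyNil.St1311 G)
    (hU : AssemblyNil.UnbalStmt.{u}) (h1 : LeafR4One.{u})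
    (h2 : ∀ (G : Type u) [Group G] [Finite G] (K : Subgroup G), AssemblyNil.W3 G K →
      (∀ t : G, orderOf t = 2 → centralizerPPrimeCore 2 t = ⊥) → (AssemblyNil.ovr K).ncard = 4 → ¬ MOne (cls K) →
      AssemblyNil.Concl ↥(generalizedFittingSubgroup G)) : AssemblyNil.LeafR4.{u} := by
  intro G _ _ K w h4
  by_cases hb : ∀ t : G, orderOf t = 2 → centralizerPPrimeCore 2 t = ⊥
  · by_cases hm : MOne (cls K)
    · exact h1 G K w hb h4 hm
    · exact h2 G K w hb h4 hm
  push Not at hb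
  obtain ⟨t, ht, ht2⟩ := hb
  rcases h1311 G w.toFS t ht ht2 with h3 | h3
  · exact Or.inl h3
  · exact (hU G K w h3).elim

end Cfsg.Agent.Cit.Nil.RFour
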