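import Cfsg.Agent.Cit.Nil.RFour.TSBase

/-!
# S1309, (6b), (C3), `r = 4`, `m = 1`: (3.3), the group `E`

`R` a 2-group with `R' ≤ ⟨z⟩`, `t` an involution normalising `R`, `w` commutes with `w^t` for `w ∈ R`.
`E = ⟨z⟩ {[w, t] | w ∈ R}` is an elementary abelian group. Among the seven products of three elements of `E` one is a
commutator `[w, t]`.
-/

set_option autoImplicit false

namespace Cfsg.Agent.Cit.Nil.RFour.ExcBase

open Subgroup Cfsg Cfsg.Agent.Cit

variable {G : Type*} [Group G]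

structure Side (R : Subgroup G) (z t : G) : Prop where
  z2 : z * z = 1
  t2 : t * t = 1
  zt : z * t = t * z
  hz : z ∈ R
  zr : ∀ r ∈ R, r * z = z * r
  rr : ∀ r ∈ R, ∀ s ∈ R, r * s * r⁻¹ = s ∨ r * s * r⁻¹ = z * s
  tn : ∀ r ∈ R, t * r * t⁻¹ ∈ R
  ww : ∀ w ∈ R, w * w = 1 ∨ w * w = z
  wt : ∀ w ∈ R, w * (t * w * t⁻¹) = t * w * t⁻¹ * w

/-- the commutator `[w, t]` -/
def cm (t w : G) : G := w * t * w⁻¹ * t⁻¹

/-- `d = [w, t]`, `w ∈ R` -/
def Cm (R : Subgroup G) (t d : G) : Prop := ∃ w ∈ R, d = cm t w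

variable {R : Subgroup G} {z t a b u v w e d g : G}

namespace Side

theorem cm_mem (S : Side R z t) (ha : a ∈ R) : cm t a ∈ R := by
  have h1 : cm t a = a * (t * a⁻¹ * t⁻¹) := by rw [cm]; group
  rw [h1]
  exact mul_mem ha (S.tn _ (inv_mem ha))

theorem zz (S : Side R z t) (g : G) : z * (z * g) = g := by rw [← mul_assoc, S.z2, one_mul]

/-- `[a,t][b,t] = [ba,t]` up to `z` -/
theorem key (S : Side R z t) (ha : a ∈ R) (hb : b ∈ R) :
    (cm t a * b = b * cm t a ∧ cm t a * cm t b = cm t (b * a)) ∨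
      (cm t a * b = z * (b * cm t a) ∧ cm t a * cm t b = z * cm t (b * a)) := by
  have e : ∀ c : G, c * b * t * b⁻¹ * t⁻¹ = c * cm t b := fun c => by rw [cm]; group
  have e2 : b * cm t a * t * b⁻¹ * t⁻¹ = cm t (b * a) := by rw [cm, cm]; group
  rcases S.rr _ (S.cm_mem ha) b hb with h | h
  · left
    rw [mul_inv_eq_iff_eq_mul] at h
    exact ⟨h, by rw [← e, h, e2]⟩
  · right
    rw [mul_inv_eq_iff_eq_mul, mul_assoc] at h
    refine ⟨h, ?_⟩
    rw [← e, h, ← e2]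
    group

theorem cm_sq (S : Side R z t) (ha : a ∈ R) : cm t a * cm t a = 1 := by
  have hc := S.wt a ha
  have e : cm t a = a * (t * a * t⁻¹)⁻¹ := by rw [cm]; group
  have hti : t⁻¹ * z = z * t⁻¹ := by
    rw [inv_mul_eq_iff_eq_mul, ← mul_assoc, ← S.zt, mul_inv_cancel_right]
  have hsq : t * a * t⁻¹ * (t * a * t⁻¹) = a * a := by
    have h1 : t * a * t⁻¹ * (t * a * t⁻¹) = t * (a * a) * t⁻¹ := by group
    rw [h1]
    rcases S.ww a ha with h | h
    · rw [h]; group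
    · rw [h, ← S.zt, mul_inv_cancel_right]
  have hc' : (t * a * t⁻¹)⁻¹ * a = a * (t * a * t⁻¹)⁻¹ := by
    rw [inv_mul_eq_iff_eq_mul, ← mul_assoc, ← hc, mul_inv_cancel_right]
  rw [e]
  calc a * (t * a * t⁻¹)⁻¹ * (a * (t * a * t⁻¹)⁻¹) = a * ((t * a * t⁻¹)⁻¹ * a) * (t * a * t⁻¹)⁻¹ := by group
    _ = a * (a * (t * a * t⁻¹)⁻¹) * (t * a * t⁻¹)⁻¹ := by rw [hc']
    _ = (a * a) * (t * a * t⁻¹ * (t * a * t⁻¹))⁻¹ := by group
    _ = 1 := by rw [hsq, mul_inv_cancel]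

theorem cm_z (S : Side R z t) (ha : a ∈ R) : cm t a * z = z * cm t a := S.zr _ (S.cm_mem ha)

/-- the group `E` -/
def EE (S : Side R z t) : Subgroup G where
  carrier := {e | ∃ w ∈ R, e = cm t w ∨ e = z * cm t w}
  one_mem' := ⟨1, one_mem _, Or.inl (by rw [cm]; group)⟩
  mul_mem' := by
    rintro x y ⟨a, ha, hx⟩ ⟨b, hb, hy⟩
    refine ⟨b * a, mul_mem hb ha, ?_⟩
    have hza := S.cm_z ha
    have e1 : cm t a * (z * cm t b) = z * (cm t a * cm t b) := by
      rw [← mul_assoc, hza, mul_assoc]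
    rcases S.key ha hb with ⟨-, h⟩ | ⟨-, h⟩ <;> rcases hx with rfl | rfl <;> rcases hy with rfl | rfl
    · exact Or.inl h
    · right; rw [e1, h]
    · right; rw [mul_assoc, h]
    · left; rw [mul_assoc, e1, h, S.zz]
    · exact Or.inr h
    · left; rw [e1, h, S.zz]
    · left; rw [mul_assoc, h, S.zz]
    · right; rw [mul_assoc, e1, h, S.zz]
  inv_mem' := by
    rintro x ⟨a, ha, hx⟩
    refine ⟨a, ha, ?_⟩
    have h1 : x * x = 1 := by
      rcases hx with rfl | rfl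
      · exact S.cm_sq ha
      · calc z * cm t a * (z * cm t a) = z * (cm t a * z) * cm t a := by group
          _ = z * (z * cm t a) * cm t a := by rw [S.cm_z ha]
          _ = (z * z) * (cm t a * cm t a) := by group
          _ = 1 := by rw [S.z2, S.cm_sq ha, one_mul]
    rw [inv_eq_of_mul_eq_one_right h1]
    exact hx

theorem mem_EE (S : Side R z t) : e ∈ S.EE ↔ ∃ w ∈ R, e = cm t w ∨ e = z * cm t w := Iff.rfl

theorem cm_mem_EE (S : Side R z t) (ha : a ∈ R) : cm t a ∈ S.EE := ⟨a, ha, Or.inl rfl⟩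

theorem z_mem_EE (S : Side R z t) : z ∈ S.EE := ⟨1, one_mem _, Or.inr (by rw [cm]; group)⟩

theorem EE_sq (S : Side R z t) (he : e ∈ S.EE) : e * e = 1 := by
  obtain ⟨a, ha, hx⟩ := he
  rcases hx with rfl | rfl
  · exact S.cm_sq ha
  · calc z * cm t a * (z * cm t a) = z * (cm t a * z) * cm t a := by group
      _ = z * (z * cm t a) * cm t a := by rw [S.cm_z ha]
      _ = (z * z) * (cm t a * cm t a) := by group
      _ = 1 := by rw [S.z2, S.cm_sq ha, one_mul]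

theorem EE_inv (S : Side R z t) (he : e ∈ S.EE) : e⁻¹ = e := inv_eq_of_mul_eq_one_right (S.EE_sq he)

theorem EE_comm (S : Side R z t) (he : e ∈ S.EE) (hd : d ∈ S.EE) : e * d = d * e := by
  have h1 := S.EE_inv (mul_mem he hd)
  rw [mul_inv_rev, S.EE_inv he, S.EE_inv hd] at h1
  exact h1.symm

theorem EE_le (S : Side R z t) (he : e ∈ S.EE) : e ∈ R := by
  obtain ⟨a, ha, hx⟩ := he
  rcases hx with rfl | rfl
  · exact S.cm_mem ha
  · exact mul_mem S.hz (S.cm_mem ha)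

theorem EE_z (S : Side R z t) (he : e ∈ S.EE) : e * z = z * e := S.zr _ (S.EE_le he)

theorem cm_t (S : Side R z t) (ha : a ∈ R) : cm t a * t = t * cm t a := by
  have h1 := S.cm_sq ha
  have hti : t⁻¹ = t := inv_eq_of_mul_eq_one_right S.t2
  have h2 : t * cm t a * t⁻¹ = (cm t a)⁻¹ := by
    have : t * cm t a * t⁻¹ = t * a * t * a⁻¹ * (t * t)⁻¹ := by rw [cm]; group
    rw [this, S.t2]
    have : (cm t a)⁻¹ = t * a * t⁻¹ * a⁻¹ := by rw [cm]; group
    rw [this, hti]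
    group
  rw [inv_eq_of_mul_eq_one_right h1, mul_inv_eq_iff_eq_mul] at h2
  exact h2.symm

theorem EE_t (S : Side R z t) (he : e ∈ S.EE) : e * t = t * e := by
  obtain ⟨a, ha, hx⟩ := he
  rcases hx with rfl | rfl
  · exact S.cm_t ha
  · rw [mul_assoc, S.cm_t ha, ← mul_assoc, S.zt, mul_assoc]

/-- elements of `C(z) ∩ C(t)` normalising `R` normalise `E` -/
theorem EE_conj (S : Side R z t) (hgz : g * z = z * g) (hgt : g * t = t * g) (hgR : ∀ r ∈ R, g * r * g⁻¹ ∈ R)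
    (he : e ∈ S.EE) : g * e * g⁻¹ ∈ S.EE := by
  obtain ⟨a, ha, hx⟩ := he
  have h1 : g * cm t a * g⁻¹ = cm t (g * a * g⁻¹) := by
    have h2 : g * cm t a * g⁻¹ = g * a * g⁻¹ * (g * t * g⁻¹) * (g * a * g⁻¹)⁻¹ * (g * t * g⁻¹)⁻¹ := by
      rw [cm]; group
    rw [h2, hgt, mul_inv_cancel_right, cm]
  refine ⟨g * a * g⁻¹, hgR a ha, ?_⟩
  rcases hx with rfl | rfl
  · exact Or.inl h1
  · right
    calc g * (z * cm t a) * g⁻¹ = (g * z) * cm t a * g⁻¹ := by group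
      _ = z * (g * cm t a * g⁻¹) := by rw [hgz]; group
      _ = _ := by rw [h1]

/-- **among the products of three elements of `E` there is a commutator** -/
theorem exists_cm (S : Side R z t) (hu : u ∈ S.EE) (hv : v ∈ S.EE) (hw : w ∈ S.EE) :
    Cm R t u ∨ Cm R t v ∨ Cm R t w ∨ Cm R t (u * v) ∨ Cm R t (u * w) ∨ Cm R t (v * w) ∨
      Cm R t (u * v * w) := by
  obtain ⟨a, ha, hu⟩ := hu
  obtain ⟨b, hb, hv⟩ := hv
  obtain ⟨c, hc, hw⟩ := hw
  rcases hu with hu | hu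
  · exact Or.inl ⟨a, ha, hu⟩
  rcases hv with hv | hv
  · exact Or.inr (Or.inl ⟨b, hb, hv⟩)
  rcases hw with hw | hw
  · exact Or.inr (Or.inr (Or.inl ⟨c, hc, hw⟩))
  have e1 : ∀ {a b : G}, a ∈ R → z * cm t a * (z * cm t b) = cm t a * cm t b := by
    intro a b ha
    calc z * cm t a * (z * cm t b) = z * (cm t a * z) * cm t b := by group
      _ = z * (z * cm t a) * cm t b := by rw [S.cm_z ha]
      _ = _ := by rw [S.zz]
  right; right; right
  rcases S.key ha hb with ⟨-, h1⟩ | ⟨h1, -⟩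
  · left
    exact ⟨b * a, mul_mem hb ha, by rw [hu, hv, e1 ha, h1]⟩
  right
  rcases S.key ha hc with ⟨-, h2⟩ | ⟨h2, -⟩
  · left
    exact ⟨c * a, mul_mem hc ha, by rw [hu, hw, e1 ha, h2]⟩
  right
  rcases S.key hb hc with ⟨-, h3⟩ | ⟨-, h3⟩
  · left
    exact ⟨c * b, mul_mem hc hb, by rw [hv, hw, e1 hb, h3]⟩
  right
  have hcb := mul_mem hc hb
  refine ⟨c * b * a, mul_mem hcb ha, ?_⟩
  have h4 : u * v * w = cm t a * cm t (c * b) := by
    rw [mul_assoc, hv, hw, e1 hb, h3, hu, e1 ha]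
  rw [h4]
  have h5 : cm t a * (c * b) = c * b * cm t a := by
    calc cm t a * (c * b) = (cm t a * c) * b := by group
      _ = z * (c * cm t a) * b := by rw [h2]
      _ = z * (c * (cm t a * b)) := by group
      _ = z * (c * (z * (b * cm t a))) := by rw [h1]
      _ = z * (c * z) * (b * cm t a) := by group
      _ = z * (z * c) * (b * cm t a) := by rw [S.zr c hc]
      _ = c * b * cm t a := by rw [S.zz]; group
  rcases S.key ha hcb with ⟨-, h6⟩ | ⟨h6, h7⟩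
  · exact h6
  · rw [h5] at h6
    have hz1 : z = 1 := mul_eq_right.1 h6.symm
    rw [h7, hz1, one_mul]

end Side

/-- three elements of a large group of exponent 2 -/
theorem exists_three [Finite G] {U : Subgroup G} (hU : ∀ u ∈ U, u * u = 1) (h5 : 5 ≤ Nat.card ↥U) :
    ∃ u ∈ U, ∃ v ∈ U, ∃ w ∈ U, u ≠ 1 ∧ v ≠ 1 ∧ w ≠ 1 ∧ u * v ≠ 1 ∧ u * w ≠ 1 ∧ v * w ≠ 1 ∧ u * v * w ≠ 1 := by
  classical
  have avoid : ∀ s : Finset G, s.card ≤ 4 → ∃ u ∈ U, u ∉ s := by
    intro s hs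
    by_contra hno
    push Not at hno
    have h1 : Nat.card ↥U ≤ s.card := by
      have h2 : (U : Set G) ⊆ (s : Set G) := fun x hx => hno x hx
      have h3 := Set.ncard_le_ncard h2 (Finset.finite_toSet s)
      rwa [Set.ncard_coe_finset, ← Nat.card_coe_set_eq] at h3
    omega
  obtain ⟨u, hu, hu'⟩ := avoid {1} (by simp)
  obtain ⟨v, hv, hv'⟩ := avoid {1, u} ((Finset.card_le_two).trans (by norm_num))
  obtain ⟨w, hw, hw'⟩ := avoid {1, u, v, u * v} Finset.card_le_four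
  simp only [Finset.mem_singleton, Finset.mem_insert, not_or] at hu' hv' hw'
  have inv : ∀ {x y : G}, x ∈ U → x * y = 1 → y = x := by
    intro x y hx h
    have := eq_inv_of_mul_eq_one_right h
    rw [this, inv_eq_of_mul_eq_one_right (hU x hx)]
  exact ⟨u, hu, v, hv, w, hw, hu', hv'.1, hw'.1, fun h => hv'.2 (inv hu h), fun h => hw'.2.1 (inv hu h),
    fun h => hw'.2.2.1 (inv hv h), fun h => hw'.2.2.2 (inv (mul_mem hu hv) h)⟩

/-- counting cosets -/
theorem card_le_of_map [Finite G] {ι : Type*} [Finite ι] (E H : Subgroup G) (φ : ↥E → ι)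
    (h : ∀ e e' : ↥E, φ e = φ e' → (e : G)⁻¹ * e' ∈ H) : Nat.card ↥E ≤ Nat.card ι * Nat.card ↥H := by
  classical
  have h1 : ∀ e : ↥E, ∃ e', φ e' = φ e := fun e => ⟨e, rfl⟩
  obtain ⟨rep, hrep⟩ : ∃ rep : ι → ↥E, ∀ e, φ (rep (φ e)) = φ e := by
    refine ⟨fun i => if hi : ∃ e, φ e = i then hi.choose else 1, fun e => ?_⟩
    have hi : ∃ e', φ e' = φ e := ⟨e, rfl⟩
    show φ (if hi : ∃ e', φ e' = φ e then hi.choose else 1) = φ e
    rw [dif_pos hi]
    exact hi.choose_spec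
  rw [← Nat.card_prod]
  refine Nat.card_le_card_of_injective
    (fun e : ↥E => (φ e, (⟨((rep (φ e) : ↥E) : G)⁻¹ * e, h _ _ (hrep e)⟩ : ↥H))) fun e e' hee => ?_
  simp only [Prod.mk.injEq, Subtype.mk.injEq] at hee
  obtain ⟨h2, h3⟩ := hee
  rw [h2] at h3
  exact Subtype.ext (mul_left_cancel h3)

end Cfsg.Agent.Cit.Nil.RFour.ExcBase
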