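import Cfsg.Agent.Cit.Nil.RFour.TS
import Cfsg.Agent.Cit.Nil.RFour.ExcBase

/-!
# S1309, (6b), (C3), `r = 4`, `m = 1`: (3.3), the exceptional pair

`z ≠ t` commuting elements of `Z`, `t` moves all members over `z`, `z` moves all members over `t`: some
`R_z`-conjugate of `t` is a type I neighbour of `t`.
-/

set_option autoImplicit false
set_option linter.unusedSectionVars false

namespace Cfsg.Agent.Cit.Nil.RFour

open Subgroup Cfsg Cfsg.Agent.Cit ExcBase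

open RTwo (Q3 Act)

variable {G : Type*} [Group G] [Finite G] {Om : Set (Subgroup G)} {K L L' M : Subgroup G} {t z : G}

/-- a frame `K, K^t, K', K'^t` -/
theorem exists_frt (h : W4 Om) (ht : InZ Om t) (hzt : z * t = t * z) (hmv : ∀ K, Mem Om z K → cj t K ≠ K)
    (hK : Mem Om z K) : ∃ F, Fr Om z F ∧ F 0 = K ∧ F 1 = cj t (F 0) ∧ F 3 = cj t (F 2) := by
  have ht2 := ht.z2 h
  obtain ⟨F, f, h0, h1⟩ := hK.exists_fr2 (hK.cj_comm h hzt.symm) h (hmv K hK).symm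
  refine ⟨F, f, h0, by rw [h0, h1], ?_⟩
  obtain ⟨j, hj⟩ := f.cov _ ((f.mem 2).cj_comm h hzt.symm)
  have htt : ∀ X : Subgroup G, cj t (cj t X) = X := fun X => by rw [← cj_mul, ht2, cj_one]
  have h3 : ∀ j : Fin 4, j ≠ 0 → j ≠ 1 → j ≠ 2 → j = 3 := by decide
  have hj3 : j = 3 := by
    refine h3 j ?_ ?_ ?_
    · rintro rfl
      rw [h0] at hj
      have h4 : F 1 = F 2 := by rw [h1, hj, htt]
      exact f.ne (by decide) h4
    · rintro rfl
      rw [h1] at hj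
      have h4 : F 0 = F 2 := by rw [h0]; exact cj_inj.1 hj
      exact f.ne (by decide) h4
    · rintro rfl
      exact hmv _ (f.mem 2) hj.symm
  rw [← hj3, hj]

theorem RZ_ww (h : W4 Om) (hz : InZ Om z) {w : G} (hw : w ∈ RZ Om z) : w * w = 1 ∨ w * w = z := by
  obtain ⟨F, f⟩ := hz.exists_fr h
  obtain ⟨k, hk, rfl⟩ := (mem_RZ f h).1 hw
  have hz2 := hz.z2 h
  have hs : ∀ i, k i ^ 2 = 1 ∨ k i ^ 2 = z := by
    intro i
    rw [pow_two]
    rcases (f.mem i).sq_cases h (hk i) with h1 | h1 | h1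
    · left; rw [h1, one_mul]
    · left; rw [h1, hz2]
    · exact Or.inr h1
  have hc : ∀ {i j : Fin 4}, i ≠ j → Commute (k i) (k j) := fun hij =>
    (f.mem _).comm (f.mem _) h (f.ne hij) (hk _) (hk _)
  have c1 : Commute (k 0 * k 1 * k 2) (k 3) :=
    ((hc (by decide)).mul_left (hc (by decide))).mul_left (hc (by decide))
  have c2 : Commute (k 0 * k 1) (k 2) := (hc (by decide)).mul_left (hc (by decide))
  have c3 : Commute (k 0) (k 1) := hc (by decide)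
  rw [← pow_two, c1.mul_pow, c2.mul_pow, c3.mul_pow]
  rcases hs 0 with h1 | h1 <;> rcases hs 1 with h2 | h2 <;> rcases hs 2 with h3 | h3 <;> rcases hs 3 with h4 | h4 <;>
    rw [h1, h2, h3, h4] <;> simp [hz2]

/-- one half: `a ∈ K K^t` commutes with `a^t` -/
theorem half_comm (hz2 : z * z = 1) (ht2 : t * t = 1) (hzt : z * t = t * z) {A B : Subgroup G}
    (hAB : ∀ a ∈ A, ∀ b ∈ B, a * b = b * a) (hAt : ∀ a ∈ A, t * a * t⁻¹ ∈ B) (hBt : ∀ b ∈ B, t * b * t⁻¹ ∈ A)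
    (hA : ∀ a ∈ A, ∀ c ∈ A, a * c = c * a ∨ a * c = z * (c * a)) (hzA : ∀ a ∈ A, a * z = z * a)
    {a b : G} (ha : a ∈ A) (hb : b ∈ B) :
    a * b * (t * (a * b) * t⁻¹) = t * (a * b) * t⁻¹ * (a * b) := by
  obtain ⟨a', ha'⟩ : ∃ a', a' = t * a * t⁻¹ := ⟨_, rfl⟩
  obtain ⟨b', hb'⟩ : ∃ b', b' = t * b * t⁻¹ := ⟨_, rfl⟩
  have e1 : t * (a * b) * t⁻¹ = a' * b' := by rw [ha', hb']; group
  have ha'B : a' ∈ B := ha' ▸ hAt a ha
  have hb'A : b' ∈ A := hb' ▸ hBt b hb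
  have c1 : a * a' = a' * a := hAB a ha a' ha'B
  have c2 : b' * b = b * b' := hAB b' hb'A b hb
  have c3 : a' * b' = b' * a' := (hAB b' hb'A a' ha'B).symm
  have c4 : a * b = b * a := hAB a ha b hb
  have tt : ∀ g : G, t * (t * g * t⁻¹) * t⁻¹ = g := by
    intro g
    calc t * (t * g * t⁻¹) * t⁻¹ = (t * t) * g * (t * t)⁻¹ := by group
      _ = g := by rw [ht2]; group
  have ea : t * a' * t⁻¹ = a := by rw [ha', tt]
  have eb : t * b' * t⁻¹ = b := by rw [hb', tt]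
  rw [e1]
  rcases hA a ha b' hb'A with h | h
  · -- `a b' = b' a`, `a' b = b a'`
    have h' : a' * b = b * a' := by
      calc a' * b = t * (a * b') * t⁻¹ := by rw [← eb, ha']; group
        _ = t * (b' * a) * t⁻¹ := by rw [h]
        _ = (t * b' * t⁻¹) * (t * a * t⁻¹) := by group
        _ = b * a' := by rw [eb, ← ha']
    calc a * b * (a' * b') = a * (b * a') * b' := by group
      _ = a * (a' * b) * b' := by rw [h']
      _ = (a * a') * (b * b') := by group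
      _ = (a' * a) * (b' * b) := by rw [c1, c2]
      _ = a' * (a * b') * b := by group
      _ = a' * (b' * a) * b := by rw [h]
      _ = _ := by group
  · have h' : a' * b = z * (b * a') := by
      calc a' * b = t * (a * b') * t⁻¹ := by rw [← eb, ha']; group
        _ = t * (z * (b' * a)) * t⁻¹ := by rw [h]
        _ = (t * z) * (b' * a) * t⁻¹ := by group
        _ = (z * t) * (b' * a) * t⁻¹ := by rw [hzt]
        _ = z * ((t * b' * t⁻¹) * (t * a * t⁻¹)) := by group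
        _ = z * (b * a') := by rw [eb, ← ha']
    have h'' : b * a' = z * (a' * b) := by rw [h', ← mul_assoc z z, hz2, one_mul]
    have hza : z * a = a * z := (hzA a ha).symm
    have hza' : a' * z = z * a' := by
      calc a' * z = t * a * t⁻¹ * z := by rw [ha']
        _ = t * a * (t⁻¹ * z) := by group
        _ = t * a * (z * t⁻¹) := by
          congr 1
          rw [inv_mul_eq_iff_eq_mul, ← mul_assoc, ← hzt, mul_inv_cancel_right]
        _ = t * (a * z) * t⁻¹ := by group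
        _ = t * (z * a) * t⁻¹ := by rw [hza]
        _ = (t * z) * a * t⁻¹ := by group
        _ = (z * t) * a * t⁻¹ := by rw [hzt]
        _ = z * a' := by rw [ha']; group
    calc a * b * (a' * b') = a * (b * a') * b' := by group
      _ = a * (z * (a' * b)) * b' := by rw [h'']
      _ = (a * z) * (a' * (b * b')) := by group
      _ = (z * a) * (a' * (b' * b)) := by rw [hza, c2]
      _ = z * (a * a') * (b' * b) := by group
      _ = z * (a' * a) * (b' * b) := by rw [c1]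
      _ = z * a' * (a * b') * b := by group
      _ = z * a' * (z * (b' * a)) * b := by rw [h]
      _ = z * (a' * z) * (b' * a * b) := by group
      _ = z * (z * a') * (b' * a * b) := by rw [hza']
      _ = (z * z) * (a' * b' * (a * b)) := by group
      _ = _ := by rw [hz2, one_mul]

theorem Mem.comm_sgn (hK : Mem Om z K) (h : W4 Om) {a c : G} (ha : a ∈ K) (hc : c ∈ K) :
    a * c = c * a ∨ a * c = z * (c * a) := by
  rcases hK.comm_or h hc ha with h1 | h1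
  · left; rw [mul_inv_eq_iff_eq_mul] at h1; exact h1
  · right; rw [mul_inv_eq_iff_eq_mul, mul_assoc] at h1; exact h1

/-- the data of (3.3) for `(z, t)` -/
theorem side (h : W4 Om) (hz : InZ Om z) (ht : InZ Om t) (hzt : z * t = t * z)
    (hmv : ∀ K, Mem Om z K → cj t K ≠ K) : Side (RZ Om z) z t where
  z2 := hz.z2 h
  t2 := ht.z2 h
  zt := hzt
  hz := z_mem_RZ hz h
  zr r hr := RZ_le_centralizer h hr
  rr r hr s hs := RZ_rr h hz hr hs
  tn r hr := RZ_conj_comm h hzt.symm hr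
  ww w hw := RZ_ww h hz hw
  wt w hw := by
    have hz2 := hz.z2 h
    have ht2 := ht.z2 h
    obtain ⟨K, hK⟩ := hz
    obtain ⟨F, f, -, h1, h3⟩ := exists_frt h ht hzt hmv hK
    obtain ⟨k, hk, rfl⟩ := (mem_RZ f h).1 hw
    have htt : ∀ X : Subgroup G, cj t (cj t X) = X := fun X => by rw [← cj_mul, ht2, cj_one]
    have hc : ∀ {i j : Fin 4} {a b : G}, i ≠ j → a ∈ F i → b ∈ F j → a * b = b * a := fun hij ha hb =>
      (f.mem _).comm (f.mem _) h (f.ne hij) ha hb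
    have m0 : ∀ a ∈ F 0, t * a * t⁻¹ ∈ F 1 := fun a ha => by rw [h1]; exact conj_mem_cj ha
    have m1 : ∀ a ∈ F 1, t * a * t⁻¹ ∈ F 0 := fun a ha => by
      have := conj_mem_cj (g := t) ha
      rwa [h1, htt] at this
    have m2 : ∀ a ∈ F 2, t * a * t⁻¹ ∈ F 3 := fun a ha => by rw [h3]; exact conj_mem_cj ha
    have m3 : ∀ a ∈ F 3, t * a * t⁻¹ ∈ F 2 := fun a ha => by
      have := conj_mem_cj (g := t) ha
      rwa [h3, htt] at this
    have p := half_comm hz2 ht2 hzt (A := F 0) (B := F 1) (fun a ha b hb => hc (by decide) ha hb) m0 m1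
      (fun a ha c hc' => (f.mem 0).comm_sgn h ha hc') (fun a ha => (f.mem 0).comm_z h ha) (hk 0) (hk 1)
    have q := half_comm hz2 ht2 hzt (A := F 2) (B := F 3) (fun a ha b hb => hc (by decide) ha hb) m2 m3
      (fun a ha c hc' => (f.mem 2).comm_sgn h ha hc') (fun a ha => (f.mem 2).comm_z h ha) (hk 2) (hk 3)
    -- the halves commute
    have c0 : ∀ {a b c d : G}, a ∈ F 0 → b ∈ F 1 → c ∈ F 2 → d ∈ F 3 → a * b * (c * d) = c * d * (a * b) := by
      intro a b c d ha hb hc' hd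
      have c1 : b * c = c * b := hc (by decide) hb hc'
      have c2 : b * d = d * b := hc (by decide) hb hd
      have c3 : a * c = c * a := hc (by decide) ha hc'
      have c4 : a * d = d * a := hc (by decide) ha hd
      calc a * b * (c * d) = a * (b * c) * d := by group
        _ = (a * c) * (b * d) := by rw [c1]; group
        _ = (c * a) * (d * b) := by rw [c3, c2]
        _ = c * (a * d) * b := by group
        _ = _ := by rw [c4]; group
    obtain ⟨A, hA⟩ : ∃ A, A = k 0 * k 1 := ⟨_, rfl⟩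
    obtain ⟨C, hC⟩ : ∃ C, C = k 2 * k 3 := ⟨_, rfl⟩
    have eA : t * A * t⁻¹ = t * k 1 * t⁻¹ * (t * k 0 * t⁻¹) := by
      have : k 0 * k 1 = k 1 * k 0 := hc (by decide) (hk 0) (hk 1)
      rw [hA, this]; group
    have eC : t * C * t⁻¹ = t * k 3 * t⁻¹ * (t * k 2 * t⁻¹) := by
      have : k 2 * k 3 = k 3 * k 2 := hc (by decide) (hk 2) (hk 3)
      rw [hC, this]; group
    have e : k 0 * k 1 * k 2 * k 3 = A * C := by rw [hA, hC]; group
    have r1 : A * (t * C * t⁻¹) = t * C * t⁻¹ * A := by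
      rw [eC, hA]; exact c0 (hk 0) (hk 1) (m3 _ (hk 3)) (m2 _ (hk 2))
    have r2 : t * A * t⁻¹ * C = C * (t * A * t⁻¹) := by
      rw [eA, hC]; exact c0 (m1 _ (hk 1)) (m0 _ (hk 0)) (hk 2) (hk 3)
    have r3 : A * C = C * A := by rw [hA, hC]; exact c0 (hk 0) (hk 1) (hk 2) (hk 3)
    rw [← hA] at p
    rw [← hC] at q
    rw [e]
    have e2 : t * (A * C) * t⁻¹ = t * A * t⁻¹ * (t * C * t⁻¹) := by group
    rw [e2]
    calc A * C * (t * A * t⁻¹ * (t * C * t⁻¹)) = A * (C * (t * A * t⁻¹)) * (t * C * t⁻¹) := by group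
      _ = A * (t * A * t⁻¹ * C) * (t * C * t⁻¹) := by rw [r2]
      _ = (A * (t * A * t⁻¹)) * (C * (t * C * t⁻¹)) := by group
      _ = (t * A * t⁻¹ * A) * (t * C * t⁻¹ * C) := by rw [p, q]
      _ = t * A * t⁻¹ * (A * (t * C * t⁻¹)) * C := by group
      _ = t * A * t⁻¹ * (t * C * t⁻¹ * A) * C := by rw [r1]
      _ = _ := by group

/-- `|E| ≥ 32` -/
theorem card_EE (h : W4 Om) (hz : InZ Om z) (ht : InZ Om t) (hzt : z * t = t * z)
    (hmv : ∀ K, Mem Om z K → cj t K ≠ K) : 32 ≤ Nat.card ↥(side h hz ht hzt hmv).EE := by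
  obtain ⟨S, hS⟩ : ∃ S, S = side h hz ht hzt hmv := ⟨_, rfl⟩
  rw [← hS]
  obtain ⟨K, hK⟩ := hz
  have hz := hK.inZ
  obtain ⟨F, f, -, h1, h3⟩ := exists_frt h ht hzt hmv hK
  obtain ⟨x, hx⟩ := h.exists_q3 (f.mem 0)
  obtain ⟨y, hy⟩ := h.exists_q3 (f.mem 2)
  have hc : ∀ {i j : Fin 4} {a b : G}, i ≠ j → a ∈ F i → b ∈ F j → a * b = b * a := fun hij ha hb =>
    (f.mem _).comm (f.mem _) h (f.ne hij) ha hb
  have m0 : ∀ a ∈ F 0, (t * a * t⁻¹)⁻¹ ∈ F 1 := fun a ha => inv_mem (by rw [h1]; exact conj_mem_cj ha)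
  have m2 : ∀ a ∈ F 2, (t * a * t⁻¹)⁻¹ ∈ F 3 := fun a ha => inv_mem (by rw [h3]; exact conj_mem_cj ha)
  have ecm : ∀ a, cm t a = a * (t * a * t⁻¹)⁻¹ := fun a => by rw [cm]; group
  -- commutation of `a a'` with `m`
  have cc : ∀ {a a' m : G}, a * m = m * a → a' * m = m * a' → a * a' * m = m * (a * a') := by
    intro a a' m h4 h5
    rw [mul_assoc, h5, ← mul_assoc, h4, mul_assoc]
  have nc : ∀ {a a' m : G}, a * m ≠ m * a → a' * m = m * a' → a * a' * m ≠ m * (a * a') := by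
    intro a a' m h4 h5 h6
    apply h4
    rw [mul_assoc, h5, ← mul_assoc, ← mul_assoc] at h6
    exact mul_right_cancel h6
  have hx01 : x 0 * x 1 ≠ x 1 * x 0 := hx.not_comm
  have hy01 : y 0 * y 1 ≠ y 1 * y 0 := hy.not_comm
  have g1 : cm t (x 0) ∈ S.EE := S.cm_mem_EE ((f.mem 0).le_RZ (hx.mem 0))
  have g2 : cm t (x 1) ∈ S.EE := S.cm_mem_EE ((f.mem 0).le_RZ (hx.mem 1))
  have g3 : cm t (y 0) ∈ S.EE := S.cm_mem_EE ((f.mem 2).le_RZ (hy.mem 0))
  have g4 : cm t (y 1) ∈ S.EE := S.cm_mem_EE ((f.mem 2).le_RZ (hy.mem 1))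
  have n1 : cm t (x 0) * x 1 ≠ x 1 * cm t (x 0) := by
    rw [ecm]; exact nc hx01 (hc (by decide) (m0 _ (hx.mem 0)) (hx.mem 1))
  have c21 : cm t (x 1) * x 1 = x 1 * cm t (x 1) := by
    rw [ecm]; exact cc rfl (hc (by decide) (m0 _ (hx.mem 1)) (hx.mem 1))
  have n2 : cm t (x 1) * x 0 ≠ x 0 * cm t (x 1) := by
    rw [ecm]; exact nc hx01.symm (hc (by decide) (m0 _ (hx.mem 1)) (hx.mem 0))
  have c3 : ∀ {i : Fin 3} {m : G}, m ∈ F 0 → cm t (y i) * m = m * cm t (y i) := by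
    intro i m hm
    rw [ecm]; exact cc (hc (by decide) (hy.mem i) hm) (hc (by decide) (m2 _ (hy.mem i)) hm)
  have n3 : cm t (y 0) * y 1 ≠ y 1 * cm t (y 0) := by
    rw [ecm]; exact nc hy01 (hc (by decide) (m2 _ (hy.mem 0)) (hy.mem 1))
  have c43 : cm t (y 1) * y 1 = y 1 * cm t (y 1) := by
    rw [ecm]; exact cc rfl (hc (by decide) (m2 _ (hy.mem 1)) (hy.mem 1))
  have n4 : cm t (y 1) * y 0 ≠ y 0 * cm t (y 1) := by
    rw [ecm]; exact nc hy01.symm (hc (by decide) (m2 _ (hy.mem 1)) (hy.mem 0))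
  have mc : ∀ {g m : G}, g * m = m * g → g ∈ centralizer {m} := fun h5 => mem_centralizer_singleton_iff.2 h5
  have a1 := TSBase.two_mul_card S.EE g1 n1
  have a2 := TSBase.two_mul_card (S.EE ⊓ centralizer {x 1}) (m := x 0) (g := cm t (x 1)) ⟨g2, mc c21⟩ n2
  have a3 := TSBase.two_mul_card (S.EE ⊓ centralizer {x 1} ⊓ centralizer {x 0}) (m := y 1) (g := cm t (y 0))
    ⟨⟨g3, mc (c3 (hx.mem 1))⟩, mc (c3 (hx.mem 0))⟩ n3
  have a4 := TSBase.two_mul_card (S.EE ⊓ centralizer {x 1} ⊓ centralizer {x 0} ⊓ centralizer {y 1}) (m := y 0)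
    (g := cm t (y 1)) ⟨⟨⟨g4, mc (c3 (hx.mem 1))⟩, mc (c3 (hx.mem 0))⟩, mc c43⟩ n4
  have a5 : 2 ≤ Nat.card ↥(S.EE ⊓ centralizer {x 1} ⊓ centralizer {x 0} ⊓ centralizer {y 1} ⊓
      centralizer {y 0} : Subgroup G) := by
    have hmem : z ∈ (S.EE ⊓ centralizer {x 1} ⊓ centralizer {x 0} ⊓ centralizer {y 1} ⊓
        centralizer {y 0} : Subgroup G) :=
      ⟨⟨⟨⟨S.z_mem_EE, mc (hx.zc 1)⟩, mc (hx.zc 0)⟩, mc (hy.zc 1)⟩, mc (hy.zc 0)⟩
    have : 1 < Nat.card ↥(S.EE ⊓ centralizer {x 1} ⊓ centralizer {x 0} ⊓ centralizer {y 1} ⊓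
        centralizer {y 0} : Subgroup G) := by
      rw [Finite.one_lt_card_iff_nontrivial]
      exact ⟨⟨⟨z, hmem⟩, 1, fun h => hz.z1 ‹_› (by simpa using congrArg Subtype.val h)⟩⟩
    omega
  omega

/-- the elements of `C(t)` inner on `L` -/
def InL (t : G) (L : Subgroup G) (ht2 : t * t = 1) : Subgroup G where
  carrier := {g | g * t = t * g ∧ ∀ k ∈ L, g * k * g⁻¹ = k ∨ g * k * g⁻¹ = t * k}
  one_mem' := ⟨by group, fun k _ => Or.inl (by group)⟩
  mul_mem' := by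
    rintro a b ⟨ha, ha'⟩ ⟨hb, hb'⟩
    refine ⟨by rw [mul_assoc, hb, ← mul_assoc, ha, mul_assoc], fun k hk => ?_⟩
    have h1 : a * b * k * (a * b)⁻¹ = a * (b * k * b⁻¹) * a⁻¹ := by group
    have h2 : a * (t * k) * a⁻¹ = t * (a * k * a⁻¹) := by
      calc a * (t * k) * a⁻¹ = (a * t) * k * a⁻¹ := by group
        _ = (t * a) * k * a⁻¹ := by rw [ha]
        _ = _ := by group
    rw [h1]
    rcases hb' k hk with h3 | h3
    · rw [h3]; exact ha' k hk
    · rw [h3, h2]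
      rcases ha' k hk with h4 | h4
      · right; rw [h4]
      · left; rw [h4, ← mul_assoc, ht2, one_mul]
  inv_mem' := by
    rintro a ⟨ha, ha'⟩
    have hai : a⁻¹ * t = t * a⁻¹ := by
      rw [inv_mul_eq_iff_eq_mul, ← mul_assoc, ha, mul_inv_cancel_right]
    refine ⟨hai, fun k hk => ?_⟩
    rcases ha' k hk with h1 | h1
    · left
      conv_lhs => rw [← h1]
      group
    · right
      have h2 : k = t * (a * k * a⁻¹) := by rw [h1, ← mul_assoc, ht2, one_mul]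
      calc a⁻¹ * k * a⁻¹⁻¹ = a⁻¹ * (t * (a * k * a⁻¹)) * a⁻¹⁻¹ := by rw [← h2]
        _ = (a⁻¹ * t) * a * k := by group
        _ = _ := by rw [hai]; group

/-- two commuting involutions of `N(L)`, not inner on `L` -/
theorem two_inner {x : Fin 3 → G} (q : Q3 L t x) {u v : G} (hu2 : u * u = 1) (hv2 : v * v = 1)
    (hcomm : u * v = v * u) (hut : u * t = t * u) (hvt : v * t = t * v) (hu : cj u L = L) (hv : cj v L = L)
    (nu : ¬ ∀ k ∈ L, u * k * u⁻¹ = k ∨ u * k * u⁻¹ = t * k)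
    (nv : ¬ ∀ k ∈ L, v * k * v⁻¹ = k ∨ v * k * v⁻¹ = t * k) :
    ∀ k ∈ L, u * v * k * (u * v)⁻¹ = k ∨ u * v * k * (u * v)⁻¹ = t * k := by
  obtain ⟨σ, hσ⟩ := q.exists_act q hu hut
  obtain ⟨τ, hτ⟩ := q.exists_act q hv hvt
  have hσ2 : σ * σ = 1 := by
    have h3 := hσ.comp q.z2 hσ hut
    rw [hu2] at h3
    exact h3.unique q (Act.one x t)
  have hτ2 : τ * τ = 1 := by
    have h3 := hτ.comp q.z2 hτ hvt
    rw [hv2] at h3
    exact h3.unique q (Act.one x t)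
  have h3 : Act t x x (u * v) (σ * τ) := hτ.comp q.z2 hσ hut
  have h4 : Act t x x (v * u) (τ * σ) := hσ.comp q.z2 hτ hvt
  have hστ : σ * τ = τ * σ := by
    rw [← hcomm] at h4
    exact h3.unique q h4
  rcases TSBase.perm_comm σ τ hσ2 hτ2 hστ with h5 | h5 | h5
  · exact absurd ((h5 ▸ hσ : Act t x x u 1).inner q hut) nu
  · exact absurd ((h5 ▸ hτ : Act t x x v 1).inner q hvt) nv
  · refine (h5 ▸ h3 : Act t x x (u * v) 1).inner q ?_
    rw [mul_assoc, hvt, ← mul_assoc, hut, mul_assoc]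

/-- `[b, z][a, z]⁻¹ ∈ ⟨t⟩` implies `b⁻¹ a ∈ ⟨t⟩` -/
theorem cm_inj (h : W4 Om) (hL : Mem Om t L) (hzt : z * t = t * z) (hmv : cj z L ≠ L) {a b : G} (ha : a ∈ L)
    (hb : b ∈ L) (hab : cm z b * (cm z a)⁻¹ = 1 ∨ cm z b * (cm z a)⁻¹ = t) : b⁻¹ * a = 1 ∨ b⁻¹ * a = t := by
  have hc := mul_mem (inv_mem hb) ha
  have htm : t ∈ L := hL.zmem h
  have htt := hL.inZ.z2 h
  have hbt : b⁻¹ * t = t * b⁻¹ := hL.comm_z h (inv_mem hb)
  have e : z * (b⁻¹ * a) * z⁻¹ = b⁻¹ * (cm z b * (cm z a)⁻¹) * a := by rw [cm, cm]; group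
  have h1 : z * (b⁻¹ * a) * z⁻¹ ∈ L := by
    rw [e]
    rcases hab with h2 | h2 <;> rw [h2]
    · exact mul_mem (mul_mem (inv_mem hb) (one_mem _)) ha
    · exact mul_mem (mul_mem (inv_mem hb) htm) ha
  have h2 : z * (b⁻¹ * a) * z⁻¹ ∈ cj z L := conj_mem_cj hc
  rcases hL.inf (hL.cj_comm h hzt) h hmv.symm h1 h2 with h3 | h3
  · left
    calc b⁻¹ * a = z⁻¹ * (z * (b⁻¹ * a) * z⁻¹) * z := by group
      _ = 1 := by rw [h3]; group
  · right
    calc b⁻¹ * a = z⁻¹ * (z * (b⁻¹ * a) * z⁻¹) * z := by group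
      _ = z⁻¹ * (t * z) := by rw [h3]; group
      _ = z⁻¹ * (z * t) := by rw [hzt]
      _ = t := by group

theorem cm_mem_sup {a : G} (ha : a ∈ L) : cm z a ∈ L ⊔ cj z L := by
  have e : cm z a = a * (z * a * z⁻¹)⁻¹ := by rw [cm]; group
  rw [e]
  exact mul_mem (mem_sup_left ha) (inv_mem (mem_sup_right (conj_mem_cj ha)))

/-- **(3.3)** -/
theorem exc (h : W4 Om) : Exc Om := by
  intro z t hz ht hne hzt hn hmz hmt
  by_contra hno
  push Not at hno
  obtain ⟨S, hS⟩ : ∃ S, S = side h hz ht hzt hmz := ⟨_, rfl⟩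
  obtain ⟨S', hS'⟩ : ∃ S', S' = side h ht hz hzt.symm hmt := ⟨_, rfl⟩
  have cE : 32 ≤ Nat.card ↥S.EE := card_EE h hz ht hzt hmz
  obtain ⟨L, hL⟩ := ht
  have ht := hL.inZ
  have ht2 := ht.z2 h
  have hz2 := hz.z2 h
  have ht1 := ht.z1 h
  have htL : ∀ l ∈ L, l * t = t * l := fun l hl => hL.comm_z h hl
  have htm : t ∈ L := hL.zmem h
  obtain ⟨q, hq⟩ := h.exists_q3 hL
  -- (i)
  have hi : ∀ d, Cm (RZ Om z) t d → d ≠ 1 → ¬ ∀ k ∈ L, d * k * d⁻¹ = k ∨ d * k * d⁻¹ = t * k := by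
    rintro d ⟨w, hw, rfl⟩ hd1 hin
    refine hno w hw (TI.of_one h hL (ht.conj h w) (fun h1 => hd1 ?_) fun k hk => ?_)
    · rw [cm, ← h1, mul_inv_cancel]
    · have h2 : w * t * w⁻¹ * k * (w * t * w⁻¹)⁻¹ = cm t w * (t * k * t⁻¹) * (cm t w)⁻¹ := by rw [cm]; group
      have h3 : t * k * t⁻¹ = k := by rw [← htL k hk, mul_inv_cancel_right]
      rw [h2, h3]
      exact hin k hk
  -- a commutator among three elements
  have h3 : ∀ u v w, u ∈ S.EE → v ∈ S.EE → w ∈ S.EE → u ≠ 1 → v ≠ 1 → w ≠ 1 → u * v ≠ 1 → u * w ≠ 1 → v * w ≠ 1 →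
      u * v * w ≠ 1 → ∀ U : Subgroup G, u ∈ U → v ∈ U → w ∈ U →
        ∃ d ∈ U, Cm (RZ Om z) t d ∧ d ≠ 1 := by
    intro u v w hu hv hw n1 n2 n3 n4 n5 n6 n7 U h1 h2 h3
    rcases S.exists_cm hu hv hw with h4 | h4 | h4 | h4 | h4 | h4 | h4
    · exact ⟨_, h1, h4, n1⟩
    · exact ⟨_, h2, h4, n2⟩
    · exact ⟨_, h3, h4, n3⟩
    · exact ⟨_, mul_mem h1 h2, h4, n4⟩
    · exact ⟨_, mul_mem h1 h3, h4, n5⟩
    · exact ⟨_, mul_mem h2 h3, h4, n6⟩
    · exact ⟨_, mul_mem (mul_mem h1 h2) h3, h4, n7⟩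
  have h5 : ∀ U ≤ S.EE, 5 ≤ Nat.card ↥U → ∃ d ∈ U, Cm (RZ Om z) t d ∧ d ≠ 1 := by
    intro U hU hc
    obtain ⟨u, hu, v, hv, w, hw, n1, n2, n3, n4, n5, n6, n7⟩ := exists_three
      (fun u hu => S.EE_sq (hU hu)) hc
    exact h3 u v w (hU hu) (hU hv) (hU hw) n1 n2 n3 n4 n5 n6 n7 U hu hv hw
  -- the stabiliser
  obtain ⟨EL, hEL⟩ : ∃ EL, EL = S.EE ⊓ normalizer (L : Set G) := ⟨_, rfl⟩
  have hEL' : ∀ {e}, e ∈ EL ↔ e ∈ S.EE ∧ cj e L = L := by
    intro e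
    rw [hEL, mem_inf, mem_normalizer_iff_cj]
  obtain ⟨EP, hEP⟩ : ∃ EP, EP = EL ⊓ InL t L ht2 := ⟨_, rfl⟩
  have cP : Nat.card ↥EP ≤ 4 := by
    by_contra hc
    push Not at hc
    obtain ⟨d, hd, hd2, hd1⟩ := h5 EP (by rw [hEP]; exact fun e he => (hEL'.1 he.1).1) hc
    rw [hEP] at hd
    exact hi d hd2 hd1 hd.2.2
  have cL : Nat.card ↥EL ≤ 2 * Nat.card ↥EP := by
    classical
    have h6 := card_le_of_map EL EP (fun e => decide ((e : G) ∈ InL t L ht2)) (by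
      intro e e' hee
      have he := hEL'.1 e.2
      have he' := hEL'.1 e'.2
      have hm : (e : G)⁻¹ * (e' : G) ∈ EL := EL.mul_mem (EL.inv_mem e.2) e'.2
      rw [hEP]
      refine ⟨hm, ?_⟩
      by_cases h7 : (e : G) ∈ InL t L ht2
      · have h8 : (e' : G) ∈ InL t L ht2 := by
          simpa [h7] using hee
        exact (InL t L ht2).mul_mem ((InL t L ht2).inv_mem h7) h8
      · have h8 : (e' : G) ∉ InL t L ht2 := by
          simpa [h7] using hee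
        rw [S.EE_inv he.1]
        have t1 := S.EE_t he.1
        have t2 := S.EE_t he'.1
        refine ⟨by rw [mul_assoc, t2, ← mul_assoc, t1, mul_assoc], ?_⟩
        exact two_inner hq (S.EE_sq he.1) (S.EE_sq he'.1) (S.EE_comm he.1 he'.1) t1 t2 he.2 he'.2
          (fun h9 => h7 ⟨t1, h9⟩) (fun h9 => h8 ⟨t2, h9⟩))
    rwa [Nat.card_eq_fintype_card (α := Bool), Fintype.card_bool] at h6
  -- a frame over `t`
  obtain ⟨F, f, f0, f1, f3⟩ := exists_frt h hz hzt.symm hmt hL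
  have hzz : ∀ X : Subgroup G, cj z (cj z X) = X := fun X => by rw [← cj_mul, hz2, cj_one]
  -- `x`
  obtain ⟨x, hxE, hx1, hx2⟩ : ∃ x ∈ S.EE, cj x L ≠ L ∧ cj x L ≠ cj z L := by
    by_contra hcon
    push Not at hcon
    classical
    have h6 := card_le_of_map S.EE EL (fun e => decide (cj (e : G) L = L)) (by
      intro e e' hee
      rw [hEL']
      refine ⟨mul_mem (inv_mem e.2) e'.2, ?_⟩
      have h7 : cj (e : G) L = cj (e' : G) L := by
        by_cases h8 : cj (e : G) L = L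
        · have h9 : cj (e' : G) L = L := by simpa [h8] using hee
          rw [h8, h9]
        · have h9 : cj (e' : G) L ≠ L := by simpa [h8] using hee
          rw [hcon _ e.2 h8, hcon _ e'.2 h9]
      rw [cj_mul, ← h7, cj_inv_cj])
    rw [Nat.card_eq_fintype_card (α := Bool), Fintype.card_bool] at h6
    omega
  -- `g`
  obtain ⟨g, hgE, hgL, hg1, hg2⟩ : ∃ g ∈ S.EE, cj g L = L ∧ Cm (RZ Om z) t g ∧ g ≠ 1 := by
    have h6 : ∀ e : ↥S.EE, ∃ i, F i = cj (e : G) L := fun e => f.cov _ (hL.cj_comm h (S.EE_t e.2))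
    choose φ hφ using h6
    have h7 := card_le_of_map S.EE EL φ (by
      intro e e' hee
      rw [hEL']
      refine ⟨mul_mem (inv_mem e.2) e'.2, ?_⟩
      rw [cj_mul, ← hφ, ← hee, hφ, cj_inv_cj])
    rw [Nat.card_eq_fintype_card (α := Fin 4), Fintype.card_fin] at h7
    obtain ⟨d, hd, hd2, hd1⟩ := h5 EL (fun e he => (hEL'.1 he).1) (by omega)
    exact ⟨d, (hEL'.1 hd).1, (hEL'.1 hd).2, hd2, hd1⟩
  obtain ⟨l, hl, hl1, hl2⟩ : ∃ l ∈ L, g * l * g⁻¹ ≠ l ∧ g * l * g⁻¹ ≠ t * l := by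
    have h6 := hi g hg1 hg2
    push Not at h6
    exact h6
  have hLR : ∀ a ∈ L, a ∈ RZ Om t := fun a ha => hL.le_RZ ha
  have hf : ∀ a ∈ L, cm z a ∈ S'.EE := fun a ha => S'.cm_mem_EE (hLR a ha)
  have hgz := S.EE_z hgE
  have hxz := S.EE_z hxE
  have hxt := S.EE_t hxE
  -- `I`
  have hEI : ∀ {e y : G}, e ∈ S.EE → y ∈ S'.EE → e * y * e⁻¹ * y⁻¹ ∈ S.EE ∧ e * y * e⁻¹ * y⁻¹ ∈ S'.EE := by
    intro e y he hy
    have hyz := S'.EE_t hy
    have hyt := S'.EE_z hy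
    constructor
    · have h6 := S.EE_conj hyz hyt (fun r hr => RZ_conj_comm h hyz hr) (inv_mem he)
      have h7 : e * y * e⁻¹ * y⁻¹ = e * (y * e⁻¹ * y⁻¹) := by group
      rw [h7]
      exact mul_mem he h6
    · have h6 := S'.EE_conj (S.EE_t he) (S.EE_z he) (fun r hr => RZ_conj_comm h (S.EE_t he) hr) hy
      exact mul_mem h6 (inv_mem hy)
  -- `w`
  obtain ⟨w, hw⟩ : ∃ w, w = g * cm z l * g⁻¹ * (cm z l)⁻¹ := ⟨_, rfl⟩
  have hwI := hEI hgE (hf l hl)
  rw [← hw] at hwI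
  have hgl : g * l * g⁻¹ ∈ L := by
    have := conj_mem_cj (g := g) hl
    rwa [hgL] at this
  have ew : w = cm z (g * l * g⁻¹) * (cm z l)⁻¹ := by
    have h6 : g * cm z l * g⁻¹ = g * l * g⁻¹ * (g * z * g⁻¹) * (g * l * g⁻¹)⁻¹ * (g * z * g⁻¹)⁻¹ := by
      rw [cm]; group
    rw [hw, h6, hgz, mul_inv_cancel_right]
    rfl
  have hwM : w ∈ L ⊔ cj z L := by
    rw [ew]
    exact mul_mem (cm_mem_sup hgl) (inv_mem (cm_mem_sup hl))
  have hw1 : w ≠ 1 := by
    intro h6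
    rw [ew] at h6
    rcases cm_inj h hL hzt (hmt L hL) hl hgl (Or.inl h6) with h7 | h7
    · exact hl1 (inv_mul_eq_one.1 h7)
    · apply hl2
      rw [inv_mul_eq_iff_eq_mul] at h7
      calc g * l * g⁻¹ = g * l * g⁻¹ * (t * t) := by rw [ht2, mul_one]
        _ = (g * l * g⁻¹ * t) * t := by group
        _ = l * t := by rw [← h7]
        _ = t * l := htL l hl
  have hww := S'.EE_sq hwI.2
  -- intersection
  have hMM : ∀ y, y ∈ L ⊔ cj z L → y ∈ cj x L ⊔ cj z (cj x L) → y = 1 ∨ y = t := by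
    intro y hy hy'
    have hy0 : y ∈ F 0 ⊔ F 1 := by rw [f1, f0]; exact hy
    have hy2 : y ∈ F 2 ⊔ F 3 := by
      obtain ⟨j, hj⟩ := f.cov _ (hL.cj_comm h hxt)
      have hdec : ∀ j : Fin 4, j = 0 ∨ j = 1 ∨ j = 2 ∨ j = 3 := by decide
      rcases hdec j with rfl | rfl | rfl | rfl
      · exact absurd (hj.symm.trans f0) hx1
      · exact absurd (hj.symm.trans (by rw [f1, f0])) hx2
      · rw [← hj, ← f3] at hy'
        exact hy'
      · rw [← hj, f3, hzz, sup_comm, ← f3] at hy'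
        exact hy'
    have hc : ∀ {i j : Fin 4} {a b : G}, i ≠ j → a ∈ F i → b ∈ F j → a * b = b * a := fun hij ha hb =>
      (f.mem _).comm (f.mem _) h (f.ne hij) ha hb
    have key : ∀ i j k : Fin 4, i ≠ j → i ≠ k → ∀ y ∈ F j ⊔ F k, As (F i) y 1 := by
      intro i j k hij hik y hy
      rw [As.one_iff]
      intro a ha
      have h6 : F j ⊔ F k ≤ centralizer {a} := by
        refine sup_le ?_ ?_
        · intro b hb
          exact mem_centralizer_singleton_iff.2 (hc (Ne.symm hij) hb ha)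
        · intro b hb
          exact mem_centralizer_singleton_iff.2 (hc (Ne.symm hik) hb ha)
      exact mem_centralizer_singleton_iff.1 (h6 hy)
    refine RZ_center h ht ?_ ?_
    · have h6 : L ⊔ cj z L ≤ RZ Om t := sup_le hL.le_RZ (hL.cj_comm h hzt).le_RZ
      exact h6 hy
    · intro M hM
      obtain ⟨i, rfl⟩ := f.cov M hM
      have hdec : ∀ j : Fin 4, j = 0 ∨ j = 1 ∨ j = 2 ∨ j = 3 := by decide
      rcases hdec i with rfl | rfl | rfl | rfl
      · exact key 0 2 3 (by decide) (by decide) y hy2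
      · exact key 1 2 3 (by decide) (by decide) y hy2
      · exact key 2 0 1 (by decide) (by decide) y hy0
      · exact key 3 0 1 (by decide) (by decide) y hy0
  have hxM : ∀ y, y ∈ L ⊔ cj z L → x * y * x⁻¹ ∈ cj x L ⊔ cj z (cj x L) := by
    intro y hy
    have h6 := conj_mem_cj (g := x) hy
    rw [cj_sup, ← cj_mul, hxz, cj_mul] at h6
    exact h6
  have hxi : ∀ y, x * y * x⁻¹ = 1 ∨ x * y * x⁻¹ = t → y = 1 ∨ y = t := by
    intro y hy
    have e : y = x⁻¹ * (x * y * x⁻¹) * x := by group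
    rcases hy with h6 | h6
    · left; rw [e, h6]; group
    · right; rw [e, h6, mul_assoc, ← hxt, inv_mul_cancel_left]
  -- (A) and (B)
  have hA : ∀ y, y ∈ L ⊔ cj z L → x * y * x⁻¹ * y⁻¹ = 1 → y = 1 ∨ y = t := by
    intro y hy h6
    refine hMM y hy ?_
    have h7 := hxM y hy
    rwa [mul_inv_eq_one.1 h6] at h7
  have hB : ∀ y, y ∈ L ⊔ cj z L → x * y * x⁻¹ * y⁻¹ * w ≠ 1 := by
    intro y hy h6
    have h7 : x * y * x⁻¹ * y⁻¹ = w := by
      rw [eq_inv_of_mul_eq_one_left h6]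
      exact inv_eq_of_mul_eq_one_right hww
    have h8 : x * y * x⁻¹ = w * y := by
      rw [← h7]; group
    have h9 := hMM (x * y * x⁻¹) (by rw [h8]; exact mul_mem hwM hy) (hxM y hy)
    apply hw1
    rw [← h7]
    rcases hxi y h9 with h10 | h10
    · rw [h10]; group
    · rw [h10, hxt]; group
  have hq01 : q 0 * q 1 ≠ q 1 * q 0 := hq.not_comm
  obtain ⟨a, ha⟩ : ∃ a, a = q 0 := ⟨_, rfl⟩
  obtain ⟨b, hb⟩ : ∃ b, b = q 1 := ⟨_, rfl⟩
  have haL : a ∈ L := ha ▸ hq.mem 0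
  have hbL : b ∈ L := hb ▸ hq.mem 1
  have hab : a * b ≠ b * a := by rw [ha, hb]; exact hq01
  have n1 : ∀ {c}, c ∈ L → c ≠ 1 → c ≠ t → ¬ (cm z c = 1 ∨ cm z c = t) := by
    intro c hc hc1 hct h6
    have e1 : cm z (1 : G) = 1 := by rw [cm]; group
    have h7 := cm_inj h hL hzt (hmt L hL) (one_mem L) hc (by rw [e1, inv_one, mul_one]; exact h6)
    rw [mul_one] at h7
    rcases h7 with h7 | h7
    · exact hc1 (inv_eq_one.1 h7)
    · apply hct
      rw [← inv_inv c, h7]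
      exact inv_eq_of_mul_eq_one_right ht2
  have hat : ∀ {c : G}, c = 1 ∨ c = t → ∀ d ∈ L, c * d = d * c := by
    rintro c (rfl | rfl) d hd
    · rw [one_mul, mul_one]
    · exact (htL d hd).symm
  have na : ¬ (cm z a = 1 ∨ cm z a = t) := n1 haL (fun h6 => hab (hat (Or.inl h6) b hbL))
    (fun h6 => hab (hat (Or.inr h6) b hbL))
  have nb : ¬ (cm z b = 1 ∨ cm z b = t) := n1 hbL (fun h6 => hab (hat (Or.inl h6) a haL).symm)
    (fun h6 => hab (hat (Or.inr h6) a haL).symm)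
  have nab : ¬ (cm z a * cm z b = 1 ∨ cm z a * cm z b = t) := by
    intro h6
    have h7 : (cm z b)⁻¹ = cm z b := S'.EE_inv (hf b hbL)
    rw [← h7] at h6
    rcases cm_inj h hL hzt (hmt L hL) hbL haL h6 with h8 | h8
    · rw [inv_mul_eq_one] at h8
      rw [h8] at hab
      exact hab rfl
    · rw [inv_mul_eq_iff_eq_mul] at h8
      apply hab
      rw [h8, mul_assoc a t a, ← htL a haL]
  obtain ⟨c, hc⟩ : ∃ c : G → G, c = fun y => x * y * x⁻¹ * y⁻¹ := ⟨_, rfl⟩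
  have hcI : ∀ y ∈ S'.EE, c y ∈ S.EE ∧ c y ∈ S'.EE := by
    intro y hy
    rw [hc]
    exact hEI hxE hy
  have hcm : c (cm z a) * c (cm z b) = c (cm z a * cm z b) := by
    rw [hc]
    have h6 := hf a haL
    have h7 := hf b hbL
    have h8 := S'.EE_conj (S.EE_t hxE) (S.EE_z hxE) (fun r hr => RZ_conj_comm h (S.EE_t hxE) hr) h7
    have h9 : (cm z a)⁻¹ * (x * cm z b * x⁻¹) = x * cm z b * x⁻¹ * (cm z a)⁻¹ := S'.EE_comm (inv_mem h6) h8
    have h10 : (cm z a)⁻¹ * (cm z b)⁻¹ = (cm z b)⁻¹ * (cm z a)⁻¹ := S'.EE_comm (inv_mem h6) (inv_mem h7)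
    show x * cm z a * x⁻¹ * (cm z a)⁻¹ * (x * cm z b * x⁻¹ * (cm z b)⁻¹) = _
    calc x * cm z a * x⁻¹ * (cm z a)⁻¹ * (x * cm z b * x⁻¹ * (cm z b)⁻¹)
        = x * cm z a * x⁻¹ * ((cm z a)⁻¹ * (x * cm z b * x⁻¹)) * (cm z b)⁻¹ := by group
      _ = x * cm z a * x⁻¹ * (x * cm z b * x⁻¹ * (cm z a)⁻¹) * (cm z b)⁻¹ := by rw [h9]
      _ = x * (cm z a * cm z b) * x⁻¹ * ((cm z a)⁻¹ * (cm z b)⁻¹) := by group
      _ = _ := by rw [h10]; group
  have hya := cm_mem_sup (z := z) haL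
  have hyb := cm_mem_sup (z := z) hbL
  have hyab := mul_mem hya hyb
  have hc' : ∀ y, c y = x * y * x⁻¹ * y⁻¹ := fun y => by rw [hc]
  obtain ⟨d, hdU, hdC, hd1⟩ := h3 (c (cm z a)) (c (cm z b)) w (hcI _ (hf a haL)).1 (hcI _ (hf b hbL)).1 hwI.1
    (fun h6 => na (hA _ hya (by rw [← hc']; exact h6)))
    (fun h6 => nb (hA _ hyb (by rw [← hc']; exact h6))) hw1
    (fun h6 => nab (hA _ hyab (by rw [← hc', ← hcm]; exact h6)))
    (fun h6 => hB _ hya (by rw [← hc']; exact h6))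
    (fun h6 => hB _ hyb (by rw [← hc']; exact h6))
    (fun h6 => hB _ hyab (by rw [← hc', ← hcm]; exact h6))
    S'.EE (hcI _ (hf a haL)).2 (hcI _ (hf b hbL)).2 hwI.2
  exact hi d hdC hd1 ((Inn.of_RZ ht h (S'.EE_le hdU)) L hL)

end Cfsg.Agent.Cit.Nil.RFour
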