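import Cfsg.Agent.Cit.Nil.RFour.TypeI

/-!
# `r = 4`, `m = 1`: `O₂(C_X(z)) = R_z` ((7.1) of `blueprints/CIT-6b-r4m1-helper449.md`)

* `CT Om z` : (C3) for the members over `z`;
* `inn_of_two` : a 2-group `P` normalised by `C(z)`, `p ∈ P` with `K^p = K` is inner on `K`;
* `mem_RZ_of_inn` : `g ∈ X` inner on all members lies in `R_z` (if `X_z ∩ X = ⟨z⟩`);
* `axis` : `P` respects the axes of the type I neighbours of `z`;
* `exists_fixed` : two type I neighbours which do not commute: `P` fixes a member over `z`;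
* `le_RZ` : `P ≤ R_z`.
-/

set_option autoImplicit false
set_option linter.style.haveILetI false
set_option linter.unusedSectionVars false

namespace Cfsg.Agent.Cit.Nil.RFour

open Subgroup Cfsg Cfsg.Agent.Cit

open RTwo (Q3 Act i11 i12 i21 i22 i_ne1 i_ne2 i_ne12 i_cases i_cases3)

variable {G : Type*} [Group G]

/-- (C3) for the members over `z` -/
def CT (Om : Set (Subgroup G)) (z : G) : Prop :=
  ∀ K, Mem Om z K → ∀ y ∈ K, y * y = z → ∃ g, cj g K = K ∧ g * y * g⁻¹ ≠ y ∧ g * y * g⁻¹ ≠ z * y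

/-- a 2-group `P ≤ C(z)` normalised by `C(z)` -/
structure PZ (z : G) (P : Subgroup G) : Prop where
  two : IsPGroup 2 ↥P
  comm : ∀ p ∈ P, p * z = z * p
  conj : ∀ g, g * z = z * g → ∀ p ∈ P, g * p * g⁻¹ ∈ P

section

variable [Finite G] {Om : Set (Subgroup G)} {K K' L L' M P X : Subgroup G} {z t t' g n x x' y y' u s p : G}

/-- powers -/
theorem act_pow {x : Fin 3 → G} {σ : Equiv.Perm (Fin 3)} (hz : z * z = 1) (hp : p * z = z * p)
    (h : Act z x x p σ) (n : ℕ) : Act z x x (p ^ n) (σ ^ n) := by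
  induction n with
  | zero => rw [pow_zero, pow_zero]; exact Act.one x z
  | succ n ih =>
    rw [pow_succ', pow_succ']
    exact ih.comp hz h hp

theorem perm3_sq (σ : Equiv.Perm (Fin 3)) : σ * σ = 1 ∨ σ * σ * σ = 1 := by
  revert σ; decide

theorem act_sq {x : Fin 3 → G} {σ : Equiv.Perm (Fin 3)} (hx : Q3 K z x) (hP : PZ z P) (hp : p ∈ P)
    (h : Act z x x p σ) : σ * σ = 1 := by
  rcases perm3_sq σ with h1 | h1
  · exact h1
  obtain ⟨n, hn⟩ := hP.two ⟨p, hp⟩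
  have hn' : p ^ 2 ^ n = 1 := by
    have := congrArg Subtype.val hn
    simpa using this
  have h2 := act_pow hx.z2 (hP.comm p hp) h (2 ^ n)
  rw [hn'] at h2
  have h3 : σ ^ 2 ^ n = 1 := h2.unique hx (Act.one x z)
  have h4 : orderOf σ ∣ 2 ^ n := orderOf_dvd_of_pow_eq_one h3
  have h5 : orderOf σ ∣ 3 := orderOf_dvd_of_pow_eq_one (by
    rw [pow_succ, pow_two]; exact h1)
  have h6 : Nat.Coprime 3 (2 ^ n) := Nat.Coprime.pow_right n (by norm_num)
  have h7 : orderOf σ = 1 := Nat.eq_one_of_dvd_coprimes h6 h5 h4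
  rw [orderOf_eq_one_iff.1 h7, one_mul]

set_option maxRecDepth 8000 in
theorem perm3_tr (σ : Equiv.Perm (Fin 3)) (h : σ * σ = 1) (h1 : σ ≠ 1) :
    ∃ i, ∀ τ : Equiv.Perm (Fin 3), τ i ≠ i →
      σ * (τ * σ * τ⁻¹) * (σ * (τ * σ * τ⁻¹)) ≠ 1 := by
  revert σ; decide

/-- `p ∈ P` with `K^p = K` is inner on `K` -/
theorem inn_of_two (h : W4 Om) (hc3 : CT Om z) (hP : PZ z P) (hK : Mem Om z K) (hp : p ∈ P) (hpK : cj p K = K) :
    ∀ k ∈ K, p * k * p⁻¹ = k ∨ p * k * p⁻¹ = z * k := by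
  obtain ⟨x, hx⟩ := h.exists_q3 hK
  have hpz := hP.comm p hp
  obtain ⟨σ, hσ⟩ := hx.exists_act hx hpK hpz
  have h1 := act_sq hx hP hp hσ
  by_cases h2 : σ = 1
  · subst h2
    exact hσ.inner hx hpz
  exfalso
  obtain ⟨i, hi⟩ := perm3_tr σ h1 h2
  obtain ⟨g, hgK, hg1, hg2⟩ := hc3 K hK (x i) (hx.mem i) (hx.sq i)
  have hgz : g * z = z * g := hK.of_cj h hgK
  obtain ⟨τ, hτ⟩ := hx.exists_act hx hgK hgz
  have hτi : τ i ≠ i := by
    intro h3
    rcases hτ i with h4 | h4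
    · rw [h3] at h4; exact hg1 h4
    · rw [h3] at h4; exact hg2 h4
  have hgi : g⁻¹ * z = z * g⁻¹ := by
    rw [inv_mul_eq_iff_eq_mul, ← mul_assoc, hgz, mul_inv_cancel_right]
  have hgiK : cj g⁻¹ K = K := by
    conv_lhs => rw [← hgK]
    exact cj_inv_cj g K
  obtain ⟨ρ, hρ⟩ := hx.exists_act hx hgiK hgi
  have hρτ : ρ = τ⁻¹ := by
    have h3 : Act z x x (g * g⁻¹) (τ * ρ) := hρ.comp hx.z2 hτ hgz
    rw [mul_inv_cancel] at h3
    have h4 : τ * ρ = 1 := h3.unique hx (Act.one x z)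
    exact eq_inv_of_mul_eq_one_right h4
  subst hρτ
  have a1 : Act z x x (p * g⁻¹) (σ * τ⁻¹) := hρ.comp hx.z2 hσ hpz
  have a2 : Act z x x (g * (p * g⁻¹)) (τ * (σ * τ⁻¹)) := a1.comp hx.z2 hτ hgz
  have a3 : Act z x x (p * (g * (p * g⁻¹))) (σ * (τ * (σ * τ⁻¹))) := a2.comp hx.z2 hσ hpz
  have hm : p * (g * (p * g⁻¹)) ∈ P := by
    have : g * p * g⁻¹ ∈ P := hP.conj g hgz p hp
    have e : g * (p * g⁻¹) = g * p * g⁻¹ := by group
    rw [e]
    exact mul_mem hp this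
  have h5 := act_sq hx hP hm a3
  apply hi τ hτi
  rw [mul_assoc τ σ τ⁻¹]
  exact h5

/-- `g ∈ X`, inner on all members over `z` -/
theorem mem_RZ_of_inn (h : W4 Om) (hz : InZ Om z) (hXR : RZ Om z ≤ X)
    (hX : ∀ n ∈ X, n ∈ CX Om z → n = 1 ∨ n = z) (hg : g ∈ X) (hi : Inn Om z g) : g ∈ RZ Om z := by
  obtain ⟨F, f⟩ := hz.exists_fr h
  have h1 : ∀ i, ∃ y, As (F i) g y := fun i => exists_as_of_inn h (f.mem i) hi
  choose y hy using h1
  have hr : y 0 * y 1 * y 2 * y 3 ∈ RZ Om z := (mem_RZ f h).2 ⟨y, fun i => (hy i).1, rfl⟩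
  have hn : g * (y 0 * y 1 * y 2 * y 3)⁻¹ ∈ CX Om z := by
    rw [mem_CX]
    intro K hK
    obtain ⟨i, rfl⟩ := f.cov K hK
    have h2 := (hy i).mul (f.as_prod h (fun i => (hy i).1) i).inv
    rw [mul_inv_cancel] at h2
    exact As.one_iff.1 h2
  rcases hX _ (mul_mem hg (inv_mem (hXR hr))) hn with h3 | h3
  · rw [mul_inv_eq_one.1 h3]; exact hr
  · rw [mul_inv_eq_iff_eq_mul.1 h3]
    exact mul_mem (z_mem_RZ hz h) hr

/-- elements of `K` whose axis is fixed by the quarter turn commute with `y` -/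
theorem TI.comm_of_rot (hti : TI Om z t) (h : W4 Om) (hK : Mem Om z K) (hL : Mem Om t L) (hy : As K t y)
    (hx : As L z x) (hu : u ∈ K) (huu : u * u = z) (hxu : x * u * x⁻¹ = u ∨ x * u * x⁻¹ = z * u) :
    y * u = u * y := by
  by_contra hne
  have h1 := ((hti.symm h).rot h hL hK hx hy).2.2 u hu huu hne
  have hyy := hti.sq_of_as h hK hy
  have hz2 := hK.inZ.z2 h
  have hz1 := hK.inZ.z1 h
  have key : ∀ w : G, w * w = 1 → w = y → False := by
    rintro w hw rfl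
    rw [hyy] at hw
    exact hz1 hw
  have hzy : z * y * (z * y) = z := by
    calc z * y * (z * y) = z * (y * z) * y := by group
      _ = z * (z * y) * y := by rw [hK.comm_z h hy.1]
      _ = (z * z) * (y * y) := by group
      _ = z := by rw [hz2, hyy, one_mul]
  rcases hxu with h2 | h2 <;> rcases h1 with h3 | h3 <;> rw [h2] at h3
  · exact key 1 (one_mul 1) (mul_eq_right.1 h3.symm).symm
  · rw [← mul_assoc] at h3
    have h4 : z * y = 1 := mul_eq_right.1 h3.symm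
    rw [h4, one_mul] at hzy
    exact hz1 hzy.symm
  · exact key z hz2 (mul_right_cancel h3)
  · have h4 : u = y * u := mul_left_cancel h3
    exact key 1 (one_mul 1) (mul_eq_right.1 h4.symm).symm

/-- `P` respects the axes of the type I neighbours of `z` -/
theorem axis (h : W4 Om) (hc3 : CT Om z) (hP : PZ z P) (hti : TI Om z t) (hK : Mem Om z K) (hp : p ∈ P)
    (hy : As K t y) (hy' : As (cj p K) t y') : p * y * p⁻¹ = y' ∨ p * y * p⁻¹ = z * y' := by
  have hpz := hP.comm p hp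
  have hz2 := hK.inZ.z2 h
  have hz1 := hK.inZ.z1 h
  have hK' : Mem Om z (cj p K) := hK.cj_comm h hpz
  obtain ⟨L, hL⟩ := hti.inT
  obtain ⟨x, hx, hxx⟩ := (hti.symm h).exists_as h hL
  have hxz : x * z = z * x := hx.comm.symm
  -- `x` fixes all members over `z`
  have hxK : ∀ M, Mem Om z M → cj x M = M := fun M hM => h.h3 hL hM hx.1 hxx hxz
  obtain ⟨r, hr⟩ : ∃ r, r = p * x * p⁻¹ * x⁻¹ := ⟨_, rfl⟩
  have hrP : r ∈ P := by
    have h1 : x * p⁻¹ * x⁻¹ ∈ P := hP.conj x hxz _ (inv_mem hp)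
    have e : r = p * (x * p⁻¹ * x⁻¹) := by rw [hr]; group
    rw [e]
    exact mul_mem hp h1
  have hpi : p⁻¹ * z = z * p⁻¹ := hP.comm _ (inv_mem hp)
  have hrK : ∀ M, Mem Om z M → cj r M = M := by
    intro M hM
    have hxi : cj x⁻¹ M = M := by
      conv_lhs => rw [← hxK M hM]
      exact cj_inv_cj x M
    rw [hr, cj_mul, hxi, cj_mul, cj_mul, hxK _ (hM.cj_comm h hpi), cj_cj_inv]
  obtain ⟨w, hw⟩ : ∃ w, w = p * y * p⁻¹ := ⟨_, rfl⟩
  have hyy := hti.sq_of_as h hK hy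
  have hwK : w ∈ cj p K := by rw [hw]; exact conj_mem_cj hy.1
  have hww : w * w = z := by
    have e : w * w = p * (y * y) * p⁻¹ := by rw [hw]; group
    rw [e, hyy, hpz, mul_inv_cancel_right]
  have hyx : y * x = x * y := hti.yx h hK hL hy hx
  have hxw : x * w * x⁻¹ = w ∨ x * w * x⁻¹ = z * w := by
    have e : x * w * x⁻¹ = r⁻¹ * w * r⁻¹⁻¹ := by
      have e1 : w = (p * x * p⁻¹) * w * (p * x * p⁻¹)⁻¹ := by
        rw [hw]
        calc p * y * p⁻¹ = p * (y * x * x⁻¹) * p⁻¹ := by group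
          _ = p * (x * y * x⁻¹) * p⁻¹ := by rw [hyx]
          _ = _ := by group
      conv_rhs => rw [e1]
      rw [hr]
      group
    rw [e]
    exact inn_of_two h hc3 hP hK' (inv_mem hrP) (by
      conv_lhs => rw [← hrK _ hK']
      exact cj_inv_cj r _) w hwK
  have h1 := hti.comm_of_rot h hK' hL hy' hx hwK hww hxw
  have hyy' := hti.sq_of_as h hK' hy'
  rw [← hw]
  rcases hK'.of_comm h hy'.1 hyy' hwK h1 with h2 | h2 | h2 | h2
  · rw [h2, one_mul] at hww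
    exact absurd hww.symm hz1
  · rw [h2, hz2] at hww
    exact absurd hww.symm hz1
  · exact Or.inl h2
  · exact Or.inr h2

/-- `t`, `t'` act differently on `K` -/
def Dif (Om : Set (Subgroup G)) (z t t' : G) (K : Subgroup G) : Prop :=
  Mem Om z K ∧ ∃ y y', As K t y ∧ As K t' y' ∧ y * y' ≠ y' * y

theorem sgn_comm {a b : G} (hz : z * z = 1) (ha : z * a = a * z) (hb : z * b = b * z) (x y : G)
    (hx : x = a ∨ x = z * a) (hy : y = b ∨ y = z * b) (hab : a * b = b * a) : x * y = y * x := by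
  have h1 : ∀ g : G, z * (z * g) = g := fun g => by rw [← mul_assoc, hz, one_mul]
  have e1 : a * (z * b) = z * (a * b) := by rw [← mul_assoc, ← ha, mul_assoc]
  have e2 : b * (z * a) = z * (b * a) := by rw [← mul_assoc, ← hb, mul_assoc]
  rcases hx with rfl | rfl <;> rcases hy with rfl | rfl
  · exact hab
  · rw [e1, mul_assoc, hab]
  · rw [e2, mul_assoc, hab]
  · rw [mul_assoc, e1, mul_assoc, e2, hab]

theorem Dif.cj (h : W4 Om) (hc3 : CT Om z) (hP : PZ z P) (hti : TI Om z t) (hti' : TI Om z t') (hp : p ∈ P)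
    (hd : Dif Om z t t' K) : Dif Om z t t' (Cit.cj p K) := by
  obtain ⟨hK, y, y', hy, hy', hne⟩ := hd
  have hpz := hP.comm p hp
  have hK' : Mem Om z (Cit.cj p K) := hK.cj_comm h hpz
  obtain ⟨w, hw, hww⟩ := hti.exists_as h hK'
  obtain ⟨w', hw', hww'⟩ := hti'.exists_as h hK'
  refine ⟨hK', w, w', hw, hw', fun hc => hne ?_⟩
  have h1 := axis h hc3 hP hti hK hp hy hw
  have h2 := axis h hc3 hP hti' hK hp hy' hw'
  have h3 := sgn_comm (hK.inZ.z2 h) (hK'.comm_z h hw.1).symm (hK'.comm_z h hw'.1).symm _ _ h1 h2 hc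
  have h4 : p * (y * y') * p⁻¹ = p * (y' * y) * p⁻¹ := by
    calc p * (y * y') * p⁻¹ = p * y * p⁻¹ * (p * y' * p⁻¹) := by group
      _ = p * y' * p⁻¹ * (p * y * p⁻¹) := h3
      _ = _ := by group
  exact mul_left_cancel (mul_right_cancel h4)

/-- the number of members on which `t`, `t'` act differently is odd -/
theorem odd_dif (h : W4 Om) (hti : TI Om z t) (hti' : TI Om z t') (hne : t * t' ≠ t' * t) :
    ¬ 2 ∣ Nat.card {K : Subgroup G // Dif Om z t t' K} := by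
  obtain ⟨F, f⟩ := hti.inZ.exists_fr h
  obtain ⟨k, hk, hkt⟩ := (mem_RZ f h).1 (hti.mem_RZ h)
  obtain ⟨l, hl, hlt⟩ := (mem_RZ f h).1 (hti'.mem_RZ h)
  have hz2 := hti.inZ.z2 h
  have ak : ∀ i, As (F i) t (k i) := fun i => by rw [hkt]; exact f.as_prod h hk i
  have al : ∀ i, As (F i) t' (l i) := fun i => by rw [hlt]; exact f.as_prod h hl i
  classical
  have hD : ∀ i, Dif Om z t t' (F i) ↔ k i * l i ≠ l i * k i := by
    intro i
    constructor
    · rintro ⟨-, y, y', hy, hy', hn⟩ hc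
      exact hn (sgn_comm hz2 ((f.mem i).comm_z h (hk i)).symm ((f.mem i).comm_z h (hl i)).symm _ _
        ((f.mem i).as_unique h (ak i) hy) ((f.mem i).as_unique h (al i) hy') hc)
    · intro hn
      exact ⟨f.mem i, k i, l i, ak i, al i, hn⟩
  -- the equivalence
  have e : {i : Fin 4 // k i * l i ≠ l i * k i} ≃ {K : Subgroup G // Dif Om z t t' K} := by
    refine Equiv.ofBijective (fun i => ⟨F i.1, (hD i.1).2 i.2⟩) ⟨fun i j hij => ?_, fun K => ?_⟩
    · exact Subtype.ext (f.inj (congrArg Subtype.val hij))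
    · obtain ⟨i, hi⟩ := f.cov K.1 K.2.1
      refine ⟨⟨i, (hD i).1 (hi ▸ K.2)⟩, Subtype.ext hi⟩
  rw [← Nat.card_congr e, Nat.card_eq_fintype_card, Fintype.card_subtype, Finset.card_filter,
    Fin.sum_univ_four]
  intro h2
  apply hne
  have hc : ∀ {i j : Fin 4} {a b : G}, i ≠ j → a ∈ F i → b ∈ F j → a * b = b * a := fun hij ha hb =>
    (f.mem _).comm (f.mem _) h (f.ne hij) ha hb
  have hzk : ∀ i, z * k i = k i * z := fun i => ((f.mem i).comm_z h (hk i)).symm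
  have hzl : ∀ i, z * l i = l i * z := fun i => ((f.mem i).comm_z h (hl i)).symm
  obtain ⟨m, hm⟩ : ∃ m : Fin 4 → ℕ, ∀ i, m i = if k i * l i ≠ l i * k i then 1 else 0 := ⟨_, fun _ => rfl⟩
  rw [← hm 0, ← hm 1, ← hm 2, ← hm 3] at h2
  have hs : ∀ i, l i * k i = z ^ m i * (k i * l i) := by
    intro i
    rw [hm]
    split_ifs with hi
    · rw [pow_one]
      have hkk := hti.sq_of_as h (f.mem i) (ak i)
      have hll := hti'.sq_of_as h (f.mem i) (al i)
      have h3 := (f.mem i).anti h (hk i) hkk (hl i) hll hi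
      rw [mul_inv_eq_iff_eq_mul] at h3
      rw [h3, mul_assoc]
    · rw [pow_zero, one_mul]
      push Not at hi
      exact hi.symm
  have hze : ∀ (m : ℕ) (g : G), z * g = g * z → z ^ m * g = g * z ^ m := fun m g hg =>
    ((show Commute z g from hg).pow_left m).eq
  have split : ∀ a b : Fin 4 → G, (∀ i, a i ∈ F i) → (∀ i, b i ∈ F i) →
      a 0 * a 1 * a 2 * a 3 * (b 0 * b 1 * b 2 * b 3) = (a 0 * b 0) * (a 1 * b 1) * (a 2 * b 2) * (a 3 * b 3) := by
    intro a b ha hb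
    have c1 : a 3 * b 0 = b 0 * a 3 := hc (by decide) (ha 3) (hb 0)
    have c2 : a 2 * b 0 = b 0 * a 2 := hc (by decide) (ha 2) (hb 0)
    have c3 : a 1 * b 0 = b 0 * a 1 := hc (by decide) (ha 1) (hb 0)
    have c4 : a 3 * b 1 = b 1 * a 3 := hc (by decide) (ha 3) (hb 1)
    have c5 : a 2 * b 1 = b 1 * a 2 := hc (by decide) (ha 2) (hb 1)
    have c6 : a 3 * b 2 = b 2 * a 3 := hc (by decide) (ha 3) (hb 2)
    calc a 0 * a 1 * a 2 * a 3 * (b 0 * b 1 * b 2 * b 3)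
        = a 0 * a 1 * a 2 * (a 3 * b 0) * b 1 * b 2 * b 3 := by group
      _ = a 0 * a 1 * (a 2 * b 0) * a 3 * b 1 * b 2 * b 3 := by rw [c1]; group
      _ = a 0 * (a 1 * b 0) * a 2 * a 3 * b 1 * b 2 * b 3 := by rw [c2]; group
      _ = a 0 * b 0 * a 1 * a 2 * (a 3 * b 1) * b 2 * b 3 := by rw [c3]; group
      _ = a 0 * b 0 * a 1 * (a 2 * b 1) * a 3 * b 2 * b 3 := by rw [c4]; group
      _ = a 0 * b 0 * a 1 * b 1 * a 2 * (a 3 * b 2) * b 3 := by rw [c5]; group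
      _ = (a 0 * b 0) * (a 1 * b 1) * (a 2 * b 2) * (a 3 * b 3) := by rw [c6]; group
  have h5 : t' * t = z ^ (m 0 + m 1 + m 2 + m 3) * (t * t') := by
    rw [hkt, hlt, split l k hl hk, split k l hk hl, hs 0, hs 1, hs 2, hs 3]
    have hzkl : ∀ i, z * (k i * l i) = k i * l i * z := by
      intro i
      rw [← mul_assoc, hzk, mul_assoc, hzl, mul_assoc]
    generalize m 0 = m0
    generalize m 1 = m1
    generalize m 2 = m2
    generalize m 3 = m3
    have q0 := hzkl 0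
    have q1 := hzkl 1
    have q2 := hzkl 2
    generalize k 0 * l 0 = c0 at q0 ⊢
    generalize k 1 * l 1 = c1 at q1 ⊢
    generalize k 2 * l 2 = c2 at q2 ⊢
    generalize k 3 * l 3 = c3
    have r0 : ∀ m : ℕ, c0 * z ^ m = z ^ m * c0 := fun m => (hze m c0 q0).symm
    have r1 : ∀ m : ℕ, c1 * z ^ m = z ^ m * c1 := fun m => (hze m c1 q1).symm
    have r2 : ∀ m : ℕ, c2 * z ^ m = z ^ m * c2 := fun m => (hze m c2 q2).symm
    rw [pow_add, pow_add, pow_add]
    calc z ^ m0 * c0 * (z ^ m1 * c1) * (z ^ m2 * c2) * (z ^ m3 * c3)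
        = z ^ m0 * (c0 * z ^ m1) * c1 * z ^ m2 * c2 * z ^ m3 * c3 := by group
      _ = z ^ m0 * z ^ m1 * c0 * (c1 * z ^ m2) * c2 * z ^ m3 * c3 := by rw [r0]; group
      _ = z ^ m0 * z ^ m1 * (c0 * z ^ m2) * c1 * c2 * z ^ m3 * c3 := by rw [r1]; group
      _ = z ^ m0 * z ^ m1 * z ^ m2 * c0 * c1 * (c2 * z ^ m3) * c3 := by rw [r0]; group
      _ = z ^ m0 * z ^ m1 * z ^ m2 * c0 * (c1 * z ^ m3) * c2 * c3 := by rw [r2]; group
      _ = z ^ m0 * z ^ m1 * z ^ m2 * (c0 * z ^ m3) * c1 * c2 * c3 := by rw [r1]; group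
      _ = _ := by rw [r0]; group
  obtain ⟨q, hq⟩ := h2
  rw [hq, pow_mul, pow_two, hz2, one_pow, one_mul] at h5
  exact h5.symm

/-- two type I neighbours of `z` which do not commute: `P` fixes a member over `z` -/
theorem exists_fixed (h : W4 Om) (hc3 : CT Om z) (hP : PZ z P) (hti : TI Om z t) (hti' : TI Om z t')
    (hne : t * t' ≠ t' * t) : ∃ K, Mem Om z K ∧ ∀ p ∈ P, cj p K = K := by
  letI : MulAction ↥P {K : Subgroup G // Dif Om z t t' K} :=
    { smul := fun p K => ⟨cj p.1 K.1, K.2.cj h hc3 hP hti hti' p.2⟩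
      one_smul := fun K => Subtype.ext (cj_one K.1)
      mul_smul := fun a b K => Subtype.ext (cj_mul a.1 b.1 K.1) }
  haveI : Fact (Nat.Prime 2) := ⟨Nat.prime_two⟩
  obtain ⟨K, hK⟩ := hP.two.nonempty_fixed_point_of_prime_not_dvd_card {K : Subgroup G // Dif Om z t t' K}
    (odd_dif h hti hti' hne)
  refine ⟨K.1, K.2.1, fun p hp => ?_⟩
  exact congrArg Subtype.val (hK ⟨p, hp⟩)

/-- `C(z)` is transitive on the members over `z`, so `P` fixes all of them -/
theorem fixes_all (h : W4 Om) (htr : ∀ K L, Mem Om z K → Mem Om z L → ∃ g, cj g K = L) (hP : PZ z P)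
    (hK : Mem Om z K) (hf : ∀ p ∈ P, cj p K = K) (hL : Mem Om z L) (hp : p ∈ P) : cj p L = L := by
  obtain ⟨g, rfl⟩ := htr K L hK hL
  have hgz : g * z = z * g := by
    have h1 := (hK.cj h g).2.symm.trans hL.2
    rwa [mul_inv_eq_iff_eq_mul] at h1
  have hgi : g⁻¹ * z = z * g⁻¹ := by
    rw [inv_mul_eq_iff_eq_mul, ← mul_assoc, hgz, mul_inv_cancel_right]
  have h1 := hP.conj g⁻¹ hgi p hp
  have h2 := hf _ h1
  calc cj p (cj g K) = cj g (cj (g⁻¹ * p * g⁻¹⁻¹) K) := by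
        rw [← cj_mul, ← cj_mul]
        congr 1
        group
    _ = cj g K := by rw [h2]

/-- **(7.1)** a 2-subgroup `P ≤ C_X(z)` normalised by `C(z)` lies in `R_z` -/
theorem le_RZ (h : W4 Om) (hc3 : CT Om z) (htr : ∀ K L, Mem Om z K → Mem Om z L → ∃ g, cj g K = L)
    (hXR : RZ Om z ≤ X) (hX : ∀ n ∈ X, n ∈ CX Om z → n = 1 ∨ n = z) (hti : TI Om z t) (hti' : TI Om z t')
    (hne : t * t' ≠ t' * t) (hP : PZ z P) (hPX : P ≤ X) : P ≤ RZ Om z := by
  obtain ⟨K, hK, hf⟩ := exists_fixed h hc3 hP hti hti' hne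
  intro p hp
  refine mem_RZ_of_inn h hti.inZ hXR hX (hPX hp) fun L hL => ?_
  exact inn_of_two h hc3 hP hL hp (fixes_all h htr hP hK hf hL hp)

/-- `R_z` is one of the groups `P` -/
theorem PZ_RZ (h : W4 Om) (hz : InZ Om z) : PZ z (RZ Om z) where
  two := by
    obtain ⟨F, f⟩ := hz.exists_fr h
    have hz2 := hz.z2 h
    rintro ⟨g, hg⟩
    obtain ⟨k, hk, rfl⟩ := (mem_RZ f h).1 hg
    have h4 : ∀ i, k i ^ 4 = 1 := by
      intro i
      have e : k i ^ 4 = (k i * k i) * (k i * k i) := by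
        simp only [pow_succ, pow_zero, one_mul, mul_assoc]
      rw [e]
      rcases (f.mem i).sq_cases h (hk i) with h1 | h1 | h1
      · rw [h1]; group
      · rw [h1, hz2, one_mul]
      · rw [h1, hz2]
    have hc : ∀ {i j : Fin 4}, i ≠ j → Commute (k i) (k j) := fun hij =>
      (f.mem _).comm (f.mem _) h (f.ne hij) (hk _) (hk _)
    refine ⟨2, Subtype.ext ?_⟩
    show (k 0 * k 1 * k 2 * k 3) ^ 2 ^ 2 = 1
    have c1 : Commute (k 0 * k 1 * k 2) (k 3) :=
      ((hc (by decide)).mul_left (hc (by decide))).mul_left (hc (by decide))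
    have c2 : Commute (k 0 * k 1) (k 2) := (hc (by decide)).mul_left (hc (by decide))
    have c3 : Commute (k 0) (k 1) := hc (by decide)
    rw [c1.mul_pow, c2.mul_pow, c3.mul_pow]
    show k 0 ^ 4 * k 1 ^ 4 * k 2 ^ 4 * k 3 ^ 4 = 1
    rw [h4, h4, h4, h4]
    group
  comm p hp := RZ_le_centralizer h hp
  conj g hg p hp := RZ_conj_comm h hg hp

end

end Cfsg.Agent.Cit.Nil.RFour
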