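import Cfsg.Agent.Cit.Nil.RFour.End
import Cfsg.Agent.TypeD4Three.FromConf
import Cfsg.Agent.TypeD4Three.Main
import Cfsg.Agent.TypeO8Plus.Main

/-!
# `r = 4`, `m = 1`: the two recognition theorems of S1763

`rec83 : Rec83`, `recO : RecO`.
-/

set_option autoImplicit false

namespace Cfsg.Agent.Cit.Nil.RFour

universe u

theorem rec83 : Rec83.{u} := by
  intro G _ _ _ hG Q A z a p φ h9 hc
  obtain ⟨inp⟩ := Cfsg.Agent.TypeD4Three.FromConf.exists_input h9 φ hc
  exact Cfsg.Agent.TypeD4Three.Main.recognize hG p.lz inp p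

theorem recO : RecO.{u} := by
  intro G _ _ _ _ Q A z a p φ h9 hc
  exact Cfsg.Agent.TypeO8Plus.Main.recognize' p h9 φ hc

end Cfsg.Agent.Cit.Nil.RFour
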