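import Cfsg.Agent.Cit.Nil.RFour.World
import Cfsg.Agent.Cit.Nil.RFour.FStar
import Cfsg.Agent.Cit.Nil.RFour.EndRec

/-!
# `r = 4`, `m = 1`, Case 1: the plug for `Asm.main_of`

* `one_end` : Case 1 with no external input (`rec83`, `recO` from `EndRec`).
-/

set_option autoImplicit false
set_option linter.style.haveILetI false

namespace Cfsg.Agent.Cit.Nil.RFour

open Subgroup Cfsg Cfsg.Agent.Cit

universe u

/-- (C3) at a member over `z`: 614's form from 449's form -/
theorem CT.of_c3' {G : Type*} [Group G] {Om : Set (Subgroup G)} (c3 : C3' Om) (z : G) : CT Om z := by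
  intro K hK y hy hyy
  obtain ⟨g, -, h2, h3, h4⟩ := c3 z K hK y hy hyy
  exact ⟨g, h2, h3, h4⟩

/-- **Case 1** -/
theorem one_end {G : Type u} [Group G] [Finite G] {Om : Set (Subgroup G)} {X : Subgroup G} (h : W4 Om)
    (hc : OneCls Om) (c3 : C3' Om) (f : ROne.FSimp X) (hX : ∀ L ∈ Om, L ≤ X)
    (hcx : ∀ z, InZ Om z → ∀ n ∈ CX Om z, n = 1 ∨ n = z) (z t t' : G) (hti : TI Om z t) (hti' : TI Om z t')
    (hne : t * t' ≠ t' * t) :
    (∃ (F : Type) (_ : Field F) (_ : Fintype F), Fintype.card F = 3 ∧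
      Nonempty (X ≃* Cfsg.POmega F (Cfsg.quadFormPlus 4 F))) ∨
    (∃ (F : Type) (_ : Field F) (_ : Fintype F), Fintype.card F = 2 ∧
      Nonempty (X ≃* Cfsg.POmega F (Cfsg.quadFormPlus 4 F))) := by
  haveI := f.sim
  have hXc : ¬ IsMulCommutative X := by
    intro h1
    refine f.na fun x hx y hy => ?_
    have h2 := h1.is_comm.comm ⟨x, hx⟩ ⟨y, hy⟩
    exact congrArg Subtype.val h2
  exact recog h hX hXc rec83 recO (fun n _ hn => hcx z hti.inZ n hn) hti hti' hne (CT.of_c3' c3 z)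
    (fun K K' hK hK' => hc K hK.1 K' hK'.1)

end Cfsg.Agent.Cit.Nil.RFour
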