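import Cfsg.Agent.Cit.Nil.RFour.Asm
import Cfsg.Agent.Cit.Nil.RFour.OneEnd
import Cfsg.Agent.Cit.Nil.RFour.Exc

/-!
# S1309, (C3), `r = 4`, `m = 1`: the leaf

`leafR4One` : `LeafR4One` from the external inputs `LIn` (S1169, Bender's theorem, S1173).
-/

set_option autoImplicit false
set_option linter.style.haveILetI false

namespace Cfsg.Agent.Cit.Nil.RFour

open Subgroup Cfsg Cfsg.Agent.Cit

universe u

/-- **the leaf `r = 4`, `m = 1`** -/
theorem leafR4One (i : LIn.{u}) : LeafR4One.{u} := by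
  intro G _ _ K w hf h4 hm
  exact main_of i w hf h4 hm exc fun h hc c3 f hX hcx z t t' hti hti' hne =>
    one_end h hc c3 f hX hcx z t t' hti hti' hne

/-- **the leaf `r = 4`** from the part `m ≥ 2` (with S1311 and `AssemblyNil.UnbalStmt`) -/
theorem leafR4 (i : LIn.{u}) (h1311 : ∀ (G : Type u) [Group G] [Finite G], AssemblyNil.FS G → AssemblyNil.St1311 G)
    (hU : AssemblyNil.UnbalStmt.{u})
    (h2 : ∀ (G : Type u) [Group G] [Finite G] (K : Subgroup G), AssemblyNil.W3 G K →
      (∀ t : G, orderOf t = 2 → centralizerPPrimeCore 2 t = ⊥) → (AssemblyNil.ovr K).ncard = 4 → ¬ MOne (cls K) →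
      AssemblyNil.Concl ↥(generalizedFittingSubgroup G)) : AssemblyNil.LeafR4.{u} :=
  leafR4_of h1311 hU (leafR4One i) h2

end Cfsg.Agent.Cit.Nil.RFour
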