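import Cfsg.Agent.Cit.Nil.RFour.SC

/-!
# `r = 4`, `m = 1`: `R_z` is a 2-group, contained in the Sylow 2-subgroups which contain a member over `z`

* `W4.two_RZ`, `W4.RZ_le_sylow`.
-/

set_option autoImplicit false
set_option linter.style.haveILetI false
set_option linter.unusedSectionVars false

namespace Cfsg.Agent.Cit.Nil.RFour

open Subgroup Cfsg Cfsg.Agent.Cit

open RTwo (Q3 Act i11 i12 i21 i22 i_ne1 i_ne2 i_ne12 i_cases i_cases3)

variable {G : Type*} [Group G] [Finite G] {Om : Set (Subgroup G)} {K L : Subgroup G} {X : Subgroup G} {z g s : G}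

theorem W4.two_RZ (h : W4 Om) (hz : InZ Om z) : IsPGroup 2 (RZ Om z) := by
  intro r
  obtain ⟨K, hK⟩ := hz
  -- `r⁴ = 1`
  obtain ⟨F, f⟩ := hK.inZ.exists_fr h
  have key : ∀ r ∈ RZ Om z, r * r = 1 ∨ r * r = z := by
    intro r hr
    have h1 : r * r ∈ RZ Om z := mul_mem hr hr
    refine RZ_center h hK.inZ h1 fun L hL => ?_
    obtain ⟨y, hy⟩ := exists_as_of_mem h hL hr
    have h2 := hy.mul hy
    rcases hL.sq_cases h hy.1 with h3 | h3 | h3
    · rw [h3, one_mul] at h2; exact h2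
    · rw [h3, hK.inZ.z2 h] at h2; exact h2
    · rw [h3] at h2
      refine ⟨one_mem _, fun k hk => ?_⟩
      rw [h2.2 k hk, ← hL.comm_z h hk, mul_inv_cancel_right]
      group
  refine ⟨2, Subtype.ext ?_⟩
  have h1 : ((r ^ 2 ^ 2 : RZ Om z) : G) = (r * r : G) * (r * r) := by
    rw [Subgroup.coe_pow, show (2 : ℕ) ^ 2 = 4 by norm_num]
    simp only [pow_succ, pow_zero, one_mul, mul_assoc]
  rw [h1]
  rcases key r r.2 with h2 | h2
  · rw [h2, one_mul]; rfl
  · rw [h2, hK.inZ.z2 h]; rfl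

theorem W4.RZ_le_sylow (h : W4 Om) (S : Sylow 2 G) (hK : Mem Om z K) (hKS : K ≤ (S : Subgroup G)) :
    RZ Om z ≤ (S : Subgroup G) := by
  have hn : (S : Subgroup G) ≤ normalizer (RZ Om z : Set G) := by
    intro s hs
    have hc := h.central hK S.isPGroup' hKS hs
    have hc' : s⁻¹ * z = z * s⁻¹ := by rw [inv_mul_eq_iff_eq_mul, ← mul_assoc, hc, mul_inv_cancel_right]
    rw [mem_normalizer_iff]
    intro r
    constructor
    · exact fun hr => RZ_conj_comm h hc hr
    · intro hr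
      have h1 := RZ_conj_comm h hc' hr
      have h2 : s⁻¹ * (s * r * s⁻¹) * s⁻¹⁻¹ = r := by group
      rwa [h2] at h1
  have h1 : IsPGroup 2 ((S : Subgroup G) ⊔ RZ Om z : Subgroup G) :=
    OneBasic.isPGroup_sup_of_normalizes S.isPGroup' (h.two_RZ hK.inZ) hn
  have h2 := S.is_maximal' h1 le_sup_left
  rw [← h2]
  exact le_sup_right

end Cfsg.Agent.Cit.Nil.RFour
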