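import Cfsg.Prelude.Def_ClassificationK
import Cfsg.Agent.LargeExtra.Enum9.TenConf
import Cfsg.Agent.LargeExtra.KillNine.Final
import Cfsg.Agent.LargeExtra.Tri.CaseTwo

/-!
# `r = 4`, `m = 1`: the configurations of S1763 without elements of order 5 and 7

`p : Pair Q z A a`, `|Q| = 2 ^ 9`, `Irr p`, `|D̃| ≠ 2`, and the group `H` induced by `C(z)` on `Q / ⟨z⟩` has no elements
of order 5, 7: the configuration is `confPO83` or `confOplus` (`exists_conf`).
-/

set_option autoImplicit false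
set_option linter.unusedSectionVars false

namespace Cfsg.Agent.Cit.Nil.RFour.Conf

open Cfsg.Agent.Co2Type.Quad Cfsg.Agent.LargeExtra.Base Cfsg.Agent.LargeExtra.Nine
open Cfsg.Agent.LargeExtra.KillNine Cfsg.Agent.LargeExtra.KillNine.Codes Cfsg.Agent.LargeExtra.SiegFam.Inst

variable {G : Type*} [Group G] {Q A : Subgroup G} {z a : G}

/-- the powers of a code -/
def powL (L : List ℕ) : ℕ → List ℕ
  | 0 => idL
  | n + 1 => mulL (powL L n) L

theorem acts_pow {h : Large Q z} {φ : Coord h} {L : List ℕ} {f : h.V ≃ₗ[ZMod 2] h.V} (hf : Acts φ L f) (n : ℕ) :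
    Acts φ (powL L n) (f ^ n) := by
  induction n with
  | zero => rw [pow_zero]; exact Acts.one
  | succ n ih => rw [pow_succ']; exact Acts.mul ih hf

/-- a word of order `n` -/
theorem false_of_word {p : Pair Q z A a} {φ : Coord p.lz} {n : ℕ} (hH : ∀ f ∈ p.H, f ^ n = 1 → f = 1)
    {L M : List ℕ} (hL : In φ p.H L) (hM : In φ p.H M) (hn : powL (mulL L M) n = idL) {k : ℕ} (hk : k < 256)
    (hk' : ap (mulL L M) k < 256) (hne : ap (mulL L M) k ≠ k) : False := by
  obtain ⟨f, hf, hfa⟩ := hL.mul hM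
  have h1 := acts_pow hfa n
  rw [hn] at h1
  have h2 := hH f hf (Acts.ext h1 Acts.one)
  subst h2
  have h3 := hfa (φ.e.symm (vec k))
  have h4 : φ.e ((1 : p.lz.V ≃ₗ[ZMod 2] p.lz.V) (φ.e.symm (vec k))) = vec k := φ.e.apply_symm_apply _
  rw [h4, LinearEquiv.apply_symm_apply, lin_vec] at h3
  exact hne (vec_inj _ hk _ hk' h3).symm

theorem in_X {p : Pair Q z A a} {φ : Coord p.lz} {c : Conf} (hc : IsConf p φ c) {L : List ℕ} (hL : L ∈ c.X) :
    In φ p.H L := by
  obtain ⟨f, hf, h1⟩ := hc.X L hL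
  exact ⟨f, p.X_le_H hf, h1⟩

theorem in_N {p : Pair Q z A a} {φ : Coord p.lz} {c : Conf} (hc : IsConf p φ c) {L : List ℕ} (hL : L ∈ c.N) :
    In φ p.H L := hc.N L hL

theorem false_ominus {p : Pair Q z A a} {φ : Coord p.lz} (h5 : ∀ f ∈ p.H, f ^ 5 = 1 → f = 1)
    (hc : IsConf p φ confOminus) : False :=
  false_of_word h5 (in_N hc (L := [225,210,56,52,16,32,128,64]) (by decide))
    (in_X hc (L := [1,2,4,9,144,36,66,128]) (by decide)) (by decide +kernel) (k := 1) (by decide) (by decide +kernel)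
    (by decide +kernel)

theorem false_HN {p : Pair Q z A a} {φ : Coord p.lz} (h5 : ∀ f ∈ p.H, f ^ 5 = 1 → f = 1)
    (hc : IsConf p φ confHN) : False :=
  false_of_word h5 (in_N hc (L := [73,10,20,8,16,32,64,176]) (by decide))
    (in_X hc (L := [1,2,4,9,144,36,66,128]) (by decide)) (by decide +kernel) (k := 1) (by decide) (by decide +kernel)
    (by decide +kernel)

theorem false_D4 {p : Pair Q z A a} {φ : Coord p.lz} (h7 : ∀ f ∈ p.H, f ^ 7 = 1 → f = 1)
    (hc : IsConf p φ confD4) : False :=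
  false_of_word h7 (in_N hc (L := [245,208,190,112,16,72,80,66]) (by decide))
    (in_X hc (L := [1,2,4,9,153,36,66,129]) (by decide)) (by decide +kernel) (k := 1) (by decide) (by decide +kernel)
    (by decide +kernel)

theorem false_Th {p : Pair Q z A a} {φ : Coord p.lz} (h7 : ∀ f ∈ p.H, f ^ 7 = 1 → f = 1)
    (hc : IsConf p φ confTh) : False :=
  false_of_word h7 (in_N hc (L := [245,208,190,112,16,72,80,66]) (by decide))
    (in_X hc (L := [1,2,4,9,153,36,66,129]) (by decide)) (by decide +kernel) (k := 1) (by decide) (by decide +kernel)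
    (by decide +kernel)

/-- **the configurations without elements of order 5 and 7** -/
theorem exists_conf [Finite G] (hG : ∀ H : Subgroup G, H.index ≠ 2) (p : Pair Q z A a) (hQ : Nat.card Q = 2 ^ 9)
    (hirr : Irr p) (hD : Nat.card p.D ≠ 2) (h5 : ∀ f ∈ p.H, f ^ 5 = 1 → f = 1) (h7 : ∀ f ∈ p.H, f ^ 7 = 1 → f = 1) :
    ∃ φ : Coord p.lz, IsConf p φ confPO83 ∨ IsConf p φ confOplus := by
  rcases LargeExtra.Tri.CaseTwo.case_two hG p hQ hirr with h1 | ⟨-, x, hx⟩
  · exact absurd h1 hD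
  · obtain ⟨φ, h⟩ := LargeExtra.Enum9.TenConf.exists_conf p hQ hirr hx
    refine ⟨φ, ?_⟩
    rcases h with h | h | h | h | h | h | h | h | h | h
    · exact Or.inl h
    · exact Or.inr h
    · exact (false_ominus h5 h).elim
    · exact (false_D4 h7 h).elim
    · exact (false_HN h5 h).elim
    · exact (false_Th h7 h).elim
    · exact (Final.killK2 p φ h).elim
    · exact (Final.killK3 p φ h).elim
    · exact (Final.killK4 p φ h).elim
    · exact (Final.killK5 p φ h).elim

end Cfsg.Agent.Cit.Nil.RFour.Conf
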