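import Cfsg.Agent.Cit.Nil.RFour.Ext
import Cfsg.Agent.Cit.Nil.RFour.OTwo

/-!
# `r = 4`, `m = 1`: the type I neighbours generate `R_z` (Case 1)

* `TI.comm_rot_iff` : `x ∈ R_z`, `l ∈ L` (over `t`) inducing `z`: `x` commutes with `l x l⁻¹` iff it commutes with `t`;
* `RZ_le_of_TI` : if two type I neighbours of `z` do not commute, (C3) holds and the members over `z` are conjugate then
  `R_z` is generated by the type I neighbours of `z`;
* `pow_mem_RZ` : `g ^ 144 ∈ R_z` for `g ∈ C_X(z)`, if `CX Om z ∩ X = {1, z}`.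
-/

set_option autoImplicit false
set_option linter.style.haveILetI false
set_option linter.unusedSectionVars false

namespace Cfsg.Agent.Cit.Nil.RFour

open Subgroup Cfsg Cfsg.Agent.Cit Cfsg.Agent.Co2Type.Quad

open RTwo (Q3 Act)

variable {G : Type*} [Group G] [Finite G] {Om : Set (Subgroup G)} {F : Fin 4 → Subgroup G} {K L : Subgroup G}
  {z t t' x l g : G} {k m n : Fin 4 → G}

/-- the action of `l` (inducing `z` on the members over `t`) on an element of a member over `z` -/
theorem TI.rot_cases (hti : TI Om z t) (h : W4 Om) (hK : Mem Om z K) (hL : Mem Om t L) (hl : As L z l) {y : G}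
    (hy : As K t y) {b : G} (hb : b ∈ K) :
    (y * b = b * y ∧ l * b * l⁻¹ = b) ∨
      (b * b = z ∧ y * b ≠ b * y ∧ (l * b * l⁻¹ = y * b ∨ l * b * l⁻¹ = z * (y * b))) := by
  obtain ⟨h1, h2, h3⟩ := (hti.symm h).rot h hL hK hl hy
  have hyy := hti.sq_of_as h hK hy
  have hlz : l * z = z * l := hl.comm.symm
  by_cases hc : y * b = b * y
  · left
    refine ⟨hc, ?_⟩
    rcases hK.of_comm h hy.1 hyy hb hc with rfl | rfl | rfl | rfl
    · group
    · rw [hlz, mul_inv_cancel_right]
    · rw [h2, mul_inv_cancel_right]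
    · rw [mul_inv_eq_iff_eq_mul]
      calc l * (z * y) = (l * z) * y := by group
        _ = z * (l * y) := by rw [hlz]; group
        _ = z * y * l := by rw [h2]; group
  · right
    have hbb : b * b = z := by
      rcases hK.sq_cases h hb with rfl | rfl | h4
      · exact absurd (by group) hc
      · exact absurd (hK.comm_z h hy.1) hc
      · exact h4
    exact ⟨hbb, hc, h3 b hb hbb hc⟩

/-- `x ∈ R_z` commutes with `l x l⁻¹` iff it commutes with `t` -/
theorem TI.comm_rot_iff (hti : TI Om z t) (h : W4 Om) (hL : Mem Om t L) (hl : As L z l) (hx : x ∈ RZ Om z) :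
    x * (l * x * l⁻¹) = l * x * l⁻¹ * x ↔ x * t = t * x := by
  obtain ⟨F, f⟩ := hti.inZ.exists_fr h
  obtain ⟨k, hk, rfl⟩ := f.exists_pd h hx
  obtain ⟨y, hy, hty⟩ := f.exists_pd h (hti.mem_RZ h)
  have hzz := hti.inZ.z2 h
  have ha : ∀ i, As (F i) t (y i) := fun i => by
    rw [hty]; exact f.as_prod h hy i
  rw [pd_conj]
  have hk' : ∀ i, l * k i * l⁻¹ ∈ F i := by
    intro i
    have h1 := ((hti.symm h).rot h hL (f.mem i) hl (ha i)).1
    rw [← h1]
    exact conj_mem_cj (hk i)
  have key : ∀ i, k i * (l * k i * l⁻¹) = l * k i * l⁻¹ * k i ↔ k i * y i = y i * k i := by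
    intro i
    rcases hti.rot_cases h (f.mem i) hL hl (ha i) (hk i) with ⟨h1, h2⟩ | ⟨h1, h2, h3⟩
    · rw [h2]
      exact ⟨fun _ => h1.symm, fun _ => rfl⟩
    · refine ⟨fun h4 => absurd ?_ h2, fun h4 => absurd h4.symm h2⟩
      rcases h3 with h3 | h3
      · rw [h3, ← mul_assoc] at h4
        exact (mul_right_cancel h4).symm
      · rw [h3] at h4
        have h5 : k i * (z * (y i * k i)) = z * (k i * y i) * k i := by
          rw [← mul_assoc, (f.mem i).comm_z h (hk i)]; group
        rw [h5] at h4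
        have h6 : z * (y i * k i) * k i = z * (y i * k i) * k i := rfl
        have h7 := mul_right_cancel h4
        exact (mul_left_cancel h7).symm
  have h1 := f.comm_iff h hk hk' hy key
  rw [h1, ← hty]

/-! ### Generation -/

omit [Finite G] in
theorem mem_of_pd {W : Subgroup G} (hk : pd k ∈ W) {j : Fin 4} (hi : ∀ i, i ≠ j → k i ∈ W) : k j ∈ W := by
  unfold pd at hk
  fin_cases j
  · have h1 := hi 1 (by decide)
    have h2 := hi 2 (by decide)
    have h3 := hi 3 (by decide)
    have h4 := mul_mem (mul_mem (mul_mem hk (inv_mem h3)) (inv_mem h2)) (inv_mem h1)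
    have h5 : k 0 * k 1 * k 2 * k 3 * (k 3)⁻¹ * (k 2)⁻¹ * (k 1)⁻¹ = k 0 := by group
    rwa [h5] at h4
  · have h1 := hi 0 (by decide)
    have h2 := hi 2 (by decide)
    have h3 := hi 3 (by decide)
    have h4 := mul_mem (inv_mem h1) (mul_mem (mul_mem hk (inv_mem h3)) (inv_mem h2))
    have h5 : (k 0)⁻¹ * (k 0 * k 1 * k 2 * k 3 * (k 3)⁻¹ * (k 2)⁻¹) = k 1 := by group
    rwa [h5] at h4
  · have h1 := hi 0 (by decide)
    have h2 := hi 1 (by decide)
    have h3 := hi 3 (by decide)
    have h4 := mul_mem (inv_mem (mul_mem h1 h2)) (mul_mem hk (inv_mem h3))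
    have h5 : (k 0 * k 1)⁻¹ * (k 0 * k 1 * k 2 * k 3 * (k 3)⁻¹) = k 2 := by group
    rwa [h5] at h4
  · have h1 := hi 0 (by decide)
    have h2 := hi 1 (by decide)
    have h3 := hi 2 (by decide)
    have h4 := mul_mem (inv_mem (mul_mem (mul_mem h1 h2) h3)) hk
    have h5 : (k 0 * k 1 * k 2)⁻¹ * (k 0 * k 1 * k 2 * k 3) = k 3 := by group
    rwa [h5] at h4

/-- **`R_z` is generated by the type I neighbours of `z`** in Case 1 -/
theorem RZ_le_of_TI (h : W4 Om) (hti : TI Om z t) (hti' : TI Om z t') (hne : t * t' ≠ t' * t)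
    (hc3 : CT Om z)
    (htr : ∀ K K', Mem Om z K → Mem Om z K' → ∃ g, cj g K = K') {D : Subgroup G} (hD : ∀ t, TI Om z t → t ∈ D) :
    RZ Om z ≤ D := by
  obtain ⟨W, hW⟩ : ∃ W : Subgroup G, W = closure {t | TI Om z t} := ⟨_, rfl⟩
  have hWD : W ≤ D := by
    rw [hW, closure_le]
    exact fun t ht => hD t ht
  have hTW : ∀ t, TI Om z t → t ∈ W := fun t ht => by rw [hW]; exact subset_closure ht
  -- invariance
  have hWn : ∀ g, g * z = z * g → ∀ w ∈ W, g * w * g⁻¹ ∈ W := by
    intro g hg w hw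
    have h1 : W ≤ W.comap (MulAut.conj g).toMonoidHom := by
      conv_lhs => rw [hW]
      rw [closure_le]
      intro s hs
      have h2 := TI.conj hs h g
      rw [hg, mul_inv_cancel_right] at h2
      exact hTW _ h2
    exact h1 hw
  refine le_trans ?_ hWD
  have hzz := hti.inZ.z2 h
  obtain ⟨F, f⟩ := hti.inZ.exists_fr h
  obtain ⟨a, ha, hta⟩ := f.exists_pd h (hti.mem_RZ h)
  obtain ⟨b, hb, htb⟩ := f.exists_pd h (hti'.mem_RZ h)
  have haa : ∀ i, As (F i) t (a i) := fun i => by rw [hta]; exact f.as_prod h ha i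
  have hbb : ∀ i, As (F i) t' (b i) := fun i => by rw [htb]; exact f.as_prod h hb i
  have ha2 : ∀ i, a i * a i = z := fun i => hti.sq_of_as h (f.mem i) (haa i)
  have hzW : z ∈ W := by
    have h1 := mul_mem (hTW _ (hti.mul_right h)) (inv_mem (hTW _ hti))
    rwa [mul_inv_cancel_right] at h1
  obtain ⟨L, hL⟩ := hti.inT
  obtain ⟨l, hl, -⟩ := (hti.symm h).exists_as h hL
  have hlz : l * z = z * l := hl.comm.symm
  have hl' : ∀ i, l * b i * l⁻¹ ∈ F i := by
    intro i
    have h1 := ((hti.symm h).rot h hL (f.mem i) hl (haa i)).1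
    rw [← h1]
    exact conj_mem_cj (hb i)
  -- the element `t t' (l t' l⁻¹)`
  obtain ⟨c, hc⟩ : ∃ c : Fin 4 → G, c = fun i => a i * b i * (l * b i * l⁻¹) := ⟨_, rfl⟩
  have hci : ∀ i, c i = a i * b i * (l * b i * l⁻¹) := fun i => by rw [hc]
  have hcF : ∀ i, c i ∈ F i := fun i => by rw [hci]; exact mul_mem (mul_mem (ha i) (hb i)) (hl' i)
  have hcW : pd c ∈ W := by
    have h1 : pd c = t * t' * (l * t' * l⁻¹) := by
      rw [hta, htb, pd_conj, f.pd_mul h ha hb, f.pd_mul h (fun i => mul_mem (ha i) (hb i)) hl', hc]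
    rw [h1]
    exact mul_mem (mul_mem (hTW _ hti) (hTW _ hti')) (hWn l hlz _ (hTW _ hti'))
  have hdW : pd (fun i => a i * c i) ∈ W := by
    rw [← f.pd_mul h ha hcF, ← hta]
    exact mul_mem (hTW _ hti) hcW
  have h2 : ∀ i, (a i * b i = b i * a i ∧ c i = z * a i) ∨ (a i * b i ≠ b i * a i ∧ (c i = 1 ∨ c i = z)) := by
    intro i
    have hbi := hti'.sq_of_as h (f.mem i) (hbb i)
    rcases hti.rot_cases h (f.mem i) hL hl (haa i) (hb i) with ⟨h1, h2⟩ | ⟨h1, h2, h3⟩
    · left
      refine ⟨h1, ?_⟩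
      rw [hci, h2, mul_assoc, hbi, (f.mem i).comm_z h (ha i)]
    · right
      refine ⟨h2, ?_⟩
      have h4 : a i * b i * (a i * b i) = z := by
        have hab : a i * b i ∈ F i := mul_mem (ha i) (hb i)
        rcases (f.mem i).sq_cases h hab with h5 | h5 | h5
        · exfalso
          apply h2
          rw [eq_inv_of_mul_eq_one_left h5]
          group
        · exfalso
          apply h2
          have h6 : a i = z * (b i)⁻¹ := by rw [← h5]; group
          rw [h6, mul_assoc, inv_mul_cancel, mul_one, ← mul_assoc, (f.mem i).comm_z h (hb i)]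
          group
        · exact h5
      rcases h3 with h3 | h3
      · right; rw [hci, h3, h4]
      · left
        rw [hci, h3]
        calc a i * b i * (z * (a i * b i)) = (a i * b i * z) * (a i * b i) := by group
          _ = (z * (a i * b i)) * (a i * b i) := by rw [(f.mem i).comm_z h (mul_mem (ha i) (hb i))]
          _ = z * (a i * b i * (a i * b i)) := by group
          _ = 1 := by rw [h4, hzz]
  -- one of the `a j` is in `W`
  have haW : ∃ j, a j ∈ W := by
    rw [hta, htb] at hne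
    rcases f.odd h ha hb hne with ⟨j, h3, h4⟩ | ⟨j, h3, h4⟩
    · refine ⟨j, ?_⟩
      have h5 : a j * c j ∈ W := mem_of_pd (k := fun i => a i * c i) hdW fun i hi => by
        rcases h2 i with ⟨-, h6⟩ | ⟨h6, -⟩
        · rw [h6, ← mul_assoc, (f.mem i).comm_z h (ha i), mul_assoc, ha2, hzz]
          exact one_mem _
        · exact absurd (h4 i hi) h6
      rcases h2 j with ⟨h6, -⟩ | ⟨-, h6⟩
      · exact absurd h6 h3
      · rcases h6 with h6 | h6
        · rwa [h6, mul_one] at h5
        · rw [h6] at h5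
          have h7 := mul_mem h5 hzW
          rwa [mul_assoc, hzz, mul_one] at h7
    · refine ⟨j, ?_⟩
      have h5 : c j ∈ W := mem_of_pd hcW fun i hi => by
        rcases h2 i with ⟨h6, -⟩ | ⟨-, h6⟩
        · exact absurd h6 (h4 i hi)
        · rcases h6 with h6 | h6 <;> rw [h6]
          · exact one_mem _
          · exact hzW
      rcases h2 j with ⟨-, h6⟩ | ⟨h6, -⟩
      · rw [h6] at h5
        have h7 := mul_mem hzW h5
        rwa [← mul_assoc, hzz, one_mul] at h7
      · exact absurd h3 h6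
  obtain ⟨j, hj⟩ := haW
  -- (C3)
  have hFW : F j ≤ W := by
    obtain ⟨g, hg, h3, h4⟩ := hc3 _ (f.mem j) (a j) (ha j) (ha2 j)
    have hgz := (f.mem j).of_cj h hg
    have h5 := hWn g hgz _ hj
    have h6 : g * a j * g⁻¹ ∈ F j := by
      have := conj_mem_cj (g := g) (ha j)
      rwa [hg] at this
    have h7 : g * a j * g⁻¹ * (g * a j * g⁻¹) = z := by
      calc g * a j * g⁻¹ * (g * a j * g⁻¹) = g * (a j * a j) * g⁻¹ := by group
        _ = z := by rw [ha2, hgz, mul_inv_cancel_right]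
    have h8 : a j * (g * a j * g⁻¹) ≠ g * a j * g⁻¹ * a j := by
      intro h9
      rcases (f.mem j).of_comm h (ha j) (ha2 j) h6 h9 with h10 | h10 | h10 | h10
      · rw [h10, one_mul] at h7
        exact hti.inZ.z1 h h7.symm
      · rw [h10, hzz] at h7
        exact hti.inZ.z1 h h7.symm
      · exact h3 h10
      · exact h4 h10
    obtain ⟨q, hq, h9, h10⟩ := (f.mem j).exists_q2 h (ha j) (ha2 j) h6 h7 h8
    exact hq.le_of_mem (i := 0) (j := 1) (by decide) (by rw [h9]; exact hj) (by rw [h10]; exact h5)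
  refine RZ_le fun M hM => ?_
  obtain ⟨g, hg⟩ := htr _ _ (f.mem j) hM
  have hgz : g * z = z * g := by
    have h3 := (f.mem j).cj h g
    rw [hg] at h3
    have h4 : g * z * g⁻¹ = z := h3.2.symm.trans hM.2
    rwa [mul_inv_eq_iff_eq_mul] at h4
  rw [← hg]
  rintro _ ⟨x, hx, rfl⟩
  exact hWn g hgz _ (hFW hx)

/-! ### Exponents -/

omit [Finite G] in
theorem cj_pow_eq (g : G) (K : Subgroup G) (n : ℕ) (hK : cj g K = K) : cj (g ^ n) K = K := by
  induction n with
  | zero => rw [pow_zero, cj_one]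
  | succ n ih => rw [pow_succ, cj_mul, hK, ih]

/-- `g ^ 24` fixes all members over `z` -/
theorem cj_pow_eq_self (h : W4 Om) (hz : InZ Om z) (hg : g * z = z * g) {K : Subgroup G} (hK : Mem Om z K) :
    cj (g ^ 24) K = K := by
  obtain ⟨F, f⟩ := hz.exists_fr h
  have h1 : ∀ i, ∃ j, F j = cj g (F i) := fun i => f.cov _ ((f.mem i).cj_comm h hg)
  choose s hs using h1
  have hinj : Function.Injective s := by
    intro i j hij
    have h2 := (hs i).symm.trans ((congrArg F hij).trans (hs j))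
    exact f.inj (cj_inj.1 h2)
  have hbij := (Finite.injective_iff_bijective.1 hinj)
  obtain ⟨σ, hσ⟩ : ∃ σ : Equiv.Perm (Fin 4), ∀ i, σ i = s i := ⟨Equiv.ofBijective s hbij, fun _ => rfl⟩
  have h2 : ∀ n i, cj (g ^ n) (F i) = F ((σ ^ n) i) := by
    intro n
    induction n with
    | zero => intro i; rw [pow_zero, cj_one, pow_zero, Equiv.Perm.one_apply]
    | succ n ih =>
      intro i
      rw [pow_succ, cj_mul, ← hs i, ih, pow_succ, Equiv.Perm.mul_apply, hσ]
  have h3 : ∀ σ : Equiv.Perm (Fin 4), σ ^ 24 = 1 := by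
    intro σ
    have h4 : Fintype.card (Equiv.Perm (Fin 4)) = 24 := by rw [Fintype.card_perm, Fintype.card_fin]; rfl
    rw [← h4]
    exact pow_card_eq_one
  obtain ⟨i, rfl⟩ := f.cov K hK
  rw [h2, h3, Equiv.Perm.one_apply]

/-- **`g ^ 144 ∈ R_z`** for `g ∈ C_X(z)` -/
theorem pow_mem_RZ (h : W4 Om) (hz : InZ Om z) {X : Subgroup G} (hXR : RZ Om z ≤ X)
    (hX : ∀ n ∈ X, n ∈ CX Om z → n = 1 ∨ n = z) (hgX : g ∈ X) (hg : g * z = z * g) : g ^ 144 ∈ RZ Om z := by
  refine mem_RZ_of_inn h hz hXR hX (pow_mem hgX _) fun K hK => ?_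
  obtain ⟨x, q⟩ := h.exists_q3 hK
  have h1 := cj_pow_eq_self h hz hg hK
  have hcm : ∀ n, g ^ n * z = z * g ^ n := fun n => ((show Commute g z from hg).pow_left n).eq
  obtain ⟨σ, hσ⟩ := q.exists_act q h1 (hcm 24)
  have h2 := act_pow q.z2 (hcm 24) hσ 6
  have h3 : σ ^ 6 = 1 := by
    have h4 : Fintype.card (Equiv.Perm (Fin 3)) = 6 := by rw [Fintype.card_perm, Fintype.card_fin]; rfl
    rw [← h4]
    exact pow_card_eq_one
  rw [h3, ← pow_mul] at h2
  exact h2.inner q (hcm 144)

end Cfsg.Agent.Cit.Nil.RFour
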