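import Cfsg.Agent.Cit.Nil.RFour.Conf
import Cfsg.Agent.Cit.Nil.RFour.Gen

/-!
# `r = 4`, `m = 1`: the end ((7.2) of `blueprints/CIT-6b-r4m1-helper449.md`)

`X` simple, all members are in `X`, `C_X(R_z) = ⟨z⟩`, two type I neighbours of `z` do not commute, (C3), the members
over `z` are conjugate.

* `exists_pair` : `Pair R_z z R_t t` in `X`;
* `irr`, `card_D`, `pow_H` : the hypotheses of `Conf.exists_conf`;
* `recog` : `X` is `PΩ₈⁺(3)` or `Ω₈⁺(2)`, from the two recognition theorems `Rec83`, `RecO` of S1763.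
-/

set_option autoImplicit false
set_option linter.style.haveILetI false
set_option linter.unusedSectionVars false

namespace Cfsg.Agent.Cit.Nil.RFour

open Subgroup Cfsg Cfsg.Agent.Cit Cfsg.Agent.Co2Type.Quad Cfsg.Agent.LargeExtra.Base Cfsg.Agent.LargeExtra.Nine

universe u

/-- S1763, recognition of `PΩ₈⁺(3)` -/
def Rec83 : Prop :=
  ∀ (G : Type u) [Group G] [Finite G] [IsSimpleGroup G], ¬ IsMulCommutative G →
    ∀ (Q A : Subgroup G) (z a : G) (p : Pair Q z A a) (φ : Coord p.lz), Nat.card Q = 2 ^ 9 → IsConf p φ confPO83 →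
    ∃ (F : Type) (_ : Field F) (_ : Fintype F), Fintype.card F = 3 ∧
      Nonempty (G ≃* Cfsg.POmega F (Cfsg.quadFormPlus 4 F))

/-- S1763, recognition of `Ω₈⁺(2)` -/
def RecO : Prop :=
  ∀ (G : Type u) [Group G] [Finite G] [IsSimpleGroup G], ¬ IsMulCommutative G →
    ∀ (Q A : Subgroup G) (z a : G) (p : Pair Q z A a) (φ : Coord p.lz), Nat.card Q = 2 ^ 9 → IsConf p φ confOplus →
    ∃ (F : Type) (_ : Field F) (_ : Fintype F), Fintype.card F = 2 ∧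
      Nonempty (G ≃* Cfsg.POmega F (Cfsg.quadFormPlus 4 F))

variable {G : Type u} [Group G] [Finite G] {Om : Set (Subgroup G)} {X K L : Subgroup G} {z t t' x l g : G}

/-- `z` and its type I neighbour `t` are conjugate in every subgroup containing the members -/
theorem TI.exists_conj (hti : TI Om z t) (h : W4 Om) (hX : ∀ K ∈ Om, K ≤ X) : ∃ g ∈ X, g * z * g⁻¹ = t := by
  obtain ⟨K, hK⟩ := hti.inZ
  obtain ⟨L, hL⟩ := hti.inT
  obtain ⟨y, hy, hyy⟩ := hti.exists_as h hK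
  obtain ⟨w, hw, hww⟩ := (hti.symm h).exists_as h hL
  obtain ⟨v, hv, hvv, hyv⟩ := hK.exists_nc h hy.1 hyy
  obtain ⟨u, hu, huu, hwu⟩ := hL.exists_nc h hw.1 hww
  have h1 := (hti.symm h).conj_z h hK hy hv hvv hyv
  have h2 := hti.conj_z h hL hw hu huu hwu
  refine ⟨v⁻¹ * u, mul_mem (inv_mem (hX K hK.1 hv)) (hX L hL.1 hu), ?_⟩
  calc v⁻¹ * u * z * (v⁻¹ * u)⁻¹ = v⁻¹ * (u * z * u⁻¹) * v := by group
    _ = v⁻¹ * (t * z) * v := by rw [h2, hti.comm]
    _ = v⁻¹ * (v * t * v⁻¹) * v := by rw [h1]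
    _ = t := by group

section

variable (h : W4 Om) (hX : ∀ K ∈ Om, K ≤ X) (hcx : ∀ n ∈ X, n ∈ CX Om z → n = 1 ∨ n = z)
include h hX

theorem RZ_le_X : RZ Om z ≤ X := RZ_le fun K hK => hX K hK.1

/-- **the pair** -/
theorem TI.exists_pair (hti : TI Om z t) (hcx : ∀ n ∈ X, n ∈ CX Om z → n = 1 ∨ n = z) :
    ∃ (zX : X) (A : Subgroup X) (a : X), (zX : G) = z ∧ (a : G) = t ∧
      (∀ w ∈ RZ Om t, ∀ hw : w ∈ X, (⟨w, hw⟩ : X) ∈ A) ∧ Pair ((RZ Om z).subgroupOf X) zX A a := by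
  obtain ⟨g, hg, hgt⟩ := hti.exists_conj h hX
  have hl := large hti.inZ h (RZ_le_X h hX) hcx
  have h1 : (⟨g, hg⟩ : X) * ⟨z, RZ_le_X h hX (z_mem_RZ hti.inZ h)⟩ * (⟨g, hg⟩ : X)⁻¹ ∈ (RZ Om z).subgroupOf X := by
    change g * z * g⁻¹ ∈ RZ Om z
    rw [hgt]; exact hti.mem_RZ h
  have h2 : (⟨g, hg⟩ : X) * ⟨z, RZ_le_X h hX (z_mem_RZ hti.inZ h)⟩ * (⟨g, hg⟩ : X)⁻¹ ≠
      ⟨z, RZ_le_X h hX (z_mem_RZ hti.inZ h)⟩ := by
    intro h3
    have h4 : g * z * g⁻¹ = z := congrArg Subtype.val h3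
    rw [hgt] at h4
    exact hti.ne h4.symm
  refine ⟨_, _, _, rfl, ?_, ?_, pair_of_conj hl h1 h2⟩
  · exact hgt
  · intro w hw hwX
    have h3 := RZ_conj h g⁻¹ hw
    have h4 : g⁻¹ * t * g⁻¹⁻¹ = z := by rw [← hgt]; group
    rw [h4, inv_inv] at h3
    refine ⟨⟨g⁻¹ * w * g, mul_mem (mul_mem (inv_mem hg) hwX) hg⟩, h3, ?_⟩
    refine Subtype.ext ?_
    change g * (g⁻¹ * w * g) * g⁻¹ = w
    group

variable {A : Subgroup X} {a zX : X}

/-- **`Irr`** -/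
theorem irr (hzX : (zX : G) = z) (hti : TI Om z t) (hti' : TI Om z t') (hne : t * t' ≠ t' * t) (hc3 : CT Om z)
    (htr : ∀ K K', Mem Om z K → Mem Om z K' → ∃ g, cj g K = K')
    (p : Pair ((RZ Om z).subgroupOf X) zX A a) : LargeExtra.SiegFam.Inst.Irr p := by
  intro U hq hH
  have hz := hti.inZ
  rw [Submodule.eq_bot_iff]
  intro v hv
  obtain ⟨x, rfl⟩ := p.lz.pr_surjective v
  -- the lifts of the elements of `U`
  obtain ⟨D, hD⟩ : ∃ D : Subgroup G, D = centralizer {y : G | ∃ w : (RZ Om z).subgroupOf X, p.lz.pr w ∈ U ∧ ((w : X) : G) = y} :=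
    ⟨_, rfl⟩
  have key : RZ Om z ≤ D := by
    refine RZ_le_of_TI h hti hti' hne hc3 htr fun s hs => ?_
    rw [hD, mem_centralizer_iff]
    rintro _ ⟨w, hw, rfl⟩
    obtain ⟨L, hL⟩ := hs.inT
    obtain ⟨l, hl, -⟩ := (hs.symm h).exists_as h hL
    have hlX : l ∈ X := hX L hL.1 hl.1
    have hlz : l * z = z * l := hl.comm.symm
    have hwR : ((w : X) : G) ∈ RZ Om z := w.2
    rw [← hs.comm_rot_iff h hL hl hwR]
    -- `y = l w l⁻¹`
    have hcl : (⟨l, hlX⟩ : X) ∈ centralizer ({zX} : Set X) := by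
      rw [mem_centralizer_singleton_iff]
      refine Subtype.ext ?_
      change l * (zX : G) = zX * l
      rw [hzX, hlz]
    have h1 := hH _ ⟨⟨⟨l, hlX⟩, hcl⟩, rfl⟩ _ hw
    rw [p.lz.act_pr] at h1
    have h2 := U.add_mem hw h1
    rw [← p.lz.pr_mul] at h2
    have e0 := p.lz.q_eq_zero.1 (hq _ hw)
    have e1 := p.lz.q_eq_zero.1 (hq _ h1)
    have e2 := p.lz.q_eq_zero.1 (hq _ h2)
    have hcoe : (((p.lz.conjQ ⟨⟨l, hlX⟩, hcl⟩ w : (RZ Om z).subgroupOf X) : X) : G) = l * (w : X) * l⁻¹ :=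
      congrArg Subtype.val (p.lz.conjQ_coe _ w)
    obtain ⟨y, hy⟩ : ∃ y, y = p.lz.conjQ ⟨⟨l, hlX⟩, hcl⟩ w := ⟨_, rfl⟩
    rw [← hy] at e1 e2 hcoe
    have f0 : ((w : X) : G) * (w : X) = 1 := congrArg Subtype.val e0
    have f1 : ((y : X) : G) * (y : X) = 1 := congrArg Subtype.val e1
    have f2 : ((w : X) : G) * (y : X) * ((w : X) * (y : X)) = 1 := congrArg Subtype.val e2
    rw [← hcoe]
    obtain ⟨b, hb⟩ : ∃ b : G, b = ((w : X) : G) := ⟨_, rfl⟩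
    obtain ⟨c, hc⟩ : ∃ c : G, c = ((y : X) : G) := ⟨_, rfl⟩
    rw [← hb, ← hc] at f2 ⊢
    rw [← hb] at f0
    rw [← hc] at f1
    have h5 : b * c = (b * c)⁻¹ := eq_inv_of_mul_eq_one_left f2
    have h6 : b⁻¹ = b := inv_eq_of_mul_eq_one_right f0
    have h7 : c⁻¹ = c := inv_eq_of_mul_eq_one_right f1
    rw [h5, mul_inv_rev, h6, h7]
  have h3 : ((x : X) : G) = 1 ∨ ((x : X) : G) = z := by
    refine RZ_cent hz h x.2 fun y hy => ?_
    have h4 := key hy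
    rw [hD, mem_centralizer_iff] at h4
    exact h4 _ ⟨x, hv, rfl⟩
  rw [p.lz.pr_eq_zero]
  exact h3.imp (fun h4 => Subtype.ext h4) fun h4 => Subtype.ext (h4.trans hzX.symm)

/-- **`|D̃| ≠ 2`** -/
theorem card_D (hzX : (zX : G) = z) (hti : TI Om z t) (hat : (a : G) = t)
    (hA : ∀ w ∈ RZ Om t, ∀ hw : w ∈ X, (⟨w, hw⟩ : X) ∈ A) (p : Pair ((RZ Om z).subgroupOf X) zX A a) :
    Nat.card p.D ≠ 2 := by
  intro hc
  obtain ⟨L, hL⟩ := hti.inT
  obtain ⟨L', hL', hne⟩ := hL.other h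
  obtain ⟨M, hM, hn1, hn2⟩ := hL.third hL' h
  obtain ⟨x, hx, hxx⟩ := (hti.symm h).exists_as h hL
  obtain ⟨x', hx', hxx'⟩ := (hti.symm h).exists_as h hL'
  obtain ⟨m, hm, hmm⟩ := (hti.symm h).exists_as h hM
  have hwR := hti.xx_mem h hL hL' hne hx hx'
  have hwX : x * x' ∈ X := RZ_le_X h hX hwR
  have hwA : x * x' ∈ RZ Om t := mul_mem (hL.le_RZ hx.1) (hL'.le_RZ hx'.1)
  have hwM : As M (x * x') 1 := by
    have h1 := (hM.as_one hL h hn1 hx.1).mul (hM.as_one hL' h hn2 hx'.1)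
    rwa [one_mul] at h1
  have hwL : As L (x * x') x := by
    have h1 := (As.self hx.1).mul (hL.as_one hL' h hne hx'.1)
    rwa [mul_one] at h1
  obtain ⟨w, hw⟩ : ∃ w : (RZ Om z).subgroupOf X, w = ⟨⟨x * x', hwX⟩, hwR⟩ := ⟨_, rfl⟩
  have hwc : ((w : X) : G) = x * x' := by rw [hw]
  have hwD : p.lz.pr w ∈ p.D := by
    rw [p.pr_mem_D, hw]
    exact hA _ hwA hwX
  -- `D = {0, va}`
  have key : p.lz.pr w = 0 ∨ p.lz.pr w = p.va := by
    obtain ⟨d1, d2, -, hall⟩ := Nat.card_eq_two_iff.1 hc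
    have h1 : ∀ d : p.D, d = d1 ∨ d = d2 := fun d => by
      have h2 : d ∈ ({d1, d2} : Set p.D) := by rw [hall]; exact Set.mem_univ d
      exact h2
    have h0 : (⟨p.va, p.va_mem_D⟩ : p.D) ≠ 0 := fun h2 => p.va_ne (congrArg Subtype.val h2)
    rcases h1 ⟨_, hwD⟩ with h2 | h2 <;> rcases h1 0 with h3 | h3 <;> rcases h1 ⟨p.va, p.va_mem_D⟩ with h4 | h4
    · exact absurd (h4.trans h3.symm) h0
    · exact Or.inl (congrArg Subtype.val (h2.trans h3.symm))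
    · exact Or.inr (congrArg Subtype.val (h2.trans h4.symm))
    · exact absurd (h4.trans h3.symm) h0
    · exact absurd (h4.trans h3.symm) h0
    · exact Or.inr (congrArg Subtype.val (h2.trans h4.symm))
    · exact Or.inl (congrArg Subtype.val (h2.trans h3.symm))
    · exact absurd (h4.trans h3.symm) h0
  rcases key with h1 | h1
  · rw [p.lz.pr_eq_zero] at h1
    refine hti.xx_not_cent h hL hL' hne hx hx' fun K hK => ?_
    rcases h1 with h2 | h2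
    · have h3 : x * x' = 1 := by rw [← hwc, h2]; rfl
      rw [h3]; exact As.self (one_mem _)
    · have h3 : x * x' = z := by rw [← hwc, h2, hzX]
      rw [h3]; exact hK.as_z h
  · have h2 : p.lz.pr w = p.lz.pr ⟨a, p.a_mem⟩ := h1
    rw [p.lz.pr_eq_pr] at h2
    rcases h2 with h3 | h3
    · have h4 : x * x' = t := by rw [← hwc, h3, hat]
      rw [h4] at hwL
      exact hL.not_as_one h hwL hxx (hL.as_z h)
    · have h4 : x * x' = t * z := by
        rw [← hwc, h3]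
        change (a : G) * (zX : G) = t * z
        rw [hat, hzX]
      rw [h4] at hwM
      have h5 := (hM.as_z h).mul hm
      rw [one_mul] at h5
      exact hM.not_as_one h h5 hmm hwM

/-- **the exponent of `H`** -/
theorem pow_H (hz : InZ Om z) (hcx : ∀ n ∈ X, n ∈ CX Om z → n = 1 ∨ n = z) (hzX : (zX : G) = z)
    (p : Pair ((RZ Om z).subgroupOf X) zX A a) {f : p.lz.V ≃ₗ[ZMod 2] p.lz.V} (hf : f ∈ p.H) : f ^ 144 = 1 := by
  obtain ⟨c, rfl⟩ := hf
  rw [← map_pow]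
  refine p.lz.act_mem _ ?_
  have h1 : ((c : X) : G) * z = z * (c : X) := by
    have h2 := congrArg Subtype.val (mem_centralizer_singleton_iff.1 c.2)
    change ((c : X) : G) * (zX : G) = zX * (c : X) at h2
    rwa [hzX] at h2
  exact pow_mem_RZ h hz (RZ_le_X h hX) hcx (c : X).2 h1

omit [Finite G] h hX in
theorem eq_one_of_pow {M : Type*} [Group M] {f : M} {a b : ℕ} (h1 : f ^ a = 1) (h2 : f ^ b = 1)
    (hab : Nat.Coprime a b) : f = 1 :=
  orderOf_eq_one_iff.1 (Nat.eq_one_of_dvd_coprimes hab (orderOf_dvd_of_pow_eq_one h1) (orderOf_dvd_of_pow_eq_one h2))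

/-- **the end** -/
theorem recog [IsSimpleGroup X] (hXc : ¬ IsMulCommutative X) (h83 : Rec83.{u}) (hO : RecO.{u})
    (hcx : ∀ n ∈ X, n ∈ CX Om z → n = 1 ∨ n = z) (hti : TI Om z t) (hti' : TI Om z t') (hne : t * t' ≠ t' * t)
    (hc3 : CT Om z) (htr : ∀ K K', Mem Om z K → Mem Om z K' → ∃ g, cj g K = K') :
    (∃ (F : Type) (_ : Field F) (_ : Fintype F), Fintype.card F = 3 ∧
      Nonempty (X ≃* Cfsg.POmega F (Cfsg.quadFormPlus 4 F))) ∨
    (∃ (F : Type) (_ : Field F) (_ : Fintype F), Fintype.card F = 2 ∧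
      Nonempty (X ≃* Cfsg.POmega F (Cfsg.quadFormPlus 4 F))) := by
  obtain ⟨zX, A, a, hzX, hat, hA, p⟩ := hti.exists_pair h hX hcx
  have h9 : Nat.card ((RZ Om z).subgroupOf X) = 2 ^ 9 := by
    rw [← card_RZ hti.inZ h]
    exact Nat.card_congr (subgroupOfEquivOfLe (RZ_le_X h hX)).toEquiv
  have hG : ∀ H : Subgroup X, H.index ≠ 2 := by
    intro H h2
    have hn : H.Normal := Subgroup.normal_of_index_eq_two h2
    rcases hn.eq_bot_or_eq_top with h3 | h3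
    · rw [h3, Subgroup.index_bot] at h2
      have : Fact (Nat.Prime 2) := ⟨Nat.prime_two⟩
      have hc : IsCyclic X := isCyclic_of_prime_card h2
      exact hXc hc.isMulCommutative
    · rw [h3, Subgroup.index_top] at h2
      exact absurd h2 (by norm_num)
  have h144 : ∀ f ∈ p.H, f ^ 144 = 1 := fun f hf => pow_H h hX hti.inZ hcx hzX p hf
  have h5 : ∀ f ∈ p.H, f ^ 5 = 1 → f = 1 := fun f hf h1 => eq_one_of_pow h1 (h144 f hf) (by norm_num)
  have h7 : ∀ f ∈ p.H, f ^ 7 = 1 → f = 1 := fun f hf h1 => eq_one_of_pow h1 (h144 f hf) (by norm_num)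
  have hirr := irr h hX hzX hti hti' hne hc3 htr p
  have hD := card_D h hX hzX hti hat hA p
  obtain ⟨φ, h1 | h1⟩ := Conf.exists_conf hG p h9 hirr hD h5 h7
  · exact Or.inl (h83 X hXc _ _ _ _ p φ h9 h1)
  · exact Or.inr (hO X hXc _ _ _ _ p φ h9 h1)

end

end Cfsg.Agent.Cit.Nil.RFour
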