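import Cfsg.Agent.Cit.Nil.RFour.TypeI
import Cfsg.Agent.Co2Type.Quad

/-!
# `r = 4`, `m = 1`: `R_z` is extraspecial of order `2 ^ 9` (section 7 of `blueprints/CIT-6b-r4m1-helper449.md`)

* `pd k = k 0 k 1 k 2 k 3`, `Fr.pd_mul`, `Fr.comm_iff`, `Fr.odd` : commutators of products;
* `large` : `Large (RZ Om z) z` in `X`, if `CX Om z ∩ X = {1, z}`;
* `card_RZ` : `|R_z| = 2 ^ 9`.
-/

set_option autoImplicit false
set_option linter.style.haveILetI false
set_option linter.unusedSectionVars false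

namespace Cfsg.Agent.Cit.Nil.RFour

open Subgroup Cfsg Cfsg.Agent.Cit Cfsg.Agent.Co2Type.Quad

open RTwo (Q3 Act)

variable {G : Type*} [Group G]

/-- the product of four elements -/
def pd (k : Fin 4 → G) : G := k 0 * k 1 * k 2 * k 3

theorem pd_conj (g : G) (k : Fin 4 → G) : g * pd k * g⁻¹ = pd (fun i => g * k i * g⁻¹) := by
  unfold pd; group

variable [Finite G] {Om : Set (Subgroup G)} {F : Fin 4 → Subgroup G} {K L : Subgroup G} {z t x l : G}
  {k m n : Fin 4 → G}

/-- a product of signs -/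
theorem pd_sign (hz : z * z = 1) (hk : ∀ i, k i = 1 ∨ k i = z) : pd k = 1 ∨ pd k = z := by
  unfold pd
  rcases hk 0 with h0 | h0 <;> rcases hk 1 with h1 | h1 <;> rcases hk 2 with h2 | h2 <;> rcases hk 3 with h3 | h3 <;>
    simp [h0, h1, h2, h3, hz]

theorem Fr.pd_mem (f : Fr Om z F) (h : W4 Om) (hk : ∀ i, k i ∈ F i) : pd k ∈ RZ Om z := (mem_RZ f h).2 ⟨k, hk, rfl⟩

theorem Fr.exists_pd (f : Fr Om z F) (h : W4 Om) (hx : x ∈ RZ Om z) : ∃ k : Fin 4 → G, (∀ i, k i ∈ F i) ∧ x = pd k :=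
  (mem_RZ f h).1 hx

theorem Fr.pd_mul (f : Fr Om z F) (h : W4 Om) (hk : ∀ i, k i ∈ F i) (hm : ∀ i, m i ∈ F i) :
    pd k * pd m = pd (fun i => k i * m i) := by
  have hc : ∀ {i j : Fin 4} {a b : G}, i ≠ j → a ∈ F i → b ∈ F j → a * b = b * a := fun hij ha hb =>
    (f.mem _).comm (f.mem _) h (f.ne hij) ha hb
  have c1 : k 3 * m 0 = m 0 * k 3 := hc (by decide) (hk 3) (hm 0)
  have c2 : k 2 * m 0 = m 0 * k 2 := hc (by decide) (hk 2) (hm 0)
  have c3 : k 1 * m 0 = m 0 * k 1 := hc (by decide) (hk 1) (hm 0)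
  have c4 : k 3 * m 1 = m 1 * k 3 := hc (by decide) (hk 3) (hm 1)
  have c5 : k 2 * m 1 = m 1 * k 2 := hc (by decide) (hk 2) (hm 1)
  have c6 : k 3 * m 2 = m 2 * k 3 := hc (by decide) (hk 3) (hm 2)
  unfold pd
  calc k 0 * k 1 * k 2 * k 3 * (m 0 * m 1 * m 2 * m 3)
      = k 0 * k 1 * k 2 * (k 3 * m 0) * m 1 * m 2 * m 3 := by group
    _ = k 0 * k 1 * (k 2 * m 0) * k 3 * m 1 * m 2 * m 3 := by rw [c1]; group
    _ = k 0 * (k 1 * m 0) * k 2 * k 3 * m 1 * m 2 * m 3 := by rw [c2]; group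
    _ = k 0 * m 0 * k 1 * k 2 * (k 3 * m 1) * m 2 * m 3 := by rw [c3]; group
    _ = k 0 * m 0 * k 1 * (k 2 * m 1) * k 3 * m 2 * m 3 := by rw [c4]; group
    _ = k 0 * m 0 * k 1 * m 1 * k 2 * (k 3 * m 2) * m 3 := by rw [c5]; group
    _ = (k 0 * m 0) * (k 1 * m 1) * (k 2 * m 2) * (k 3 * m 3) := by rw [c6]; group

/-- the sign of the commutator of two elements of a member -/
theorem Mem.comm_cases (hK : Mem Om z K) (h : W4 Om) {a b : G} (ha : a ∈ K) (hb : b ∈ K) :
    a * b = b * a ∨ a * b = z * (b * a) := by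
  rcases hK.comm_or h hb ha with h1 | h1
  · left; rwa [mul_inv_eq_iff_eq_mul] at h1
  · right; rw [mul_inv_eq_iff_eq_mul, mul_assoc] at h1; exact h1

open Classical in
/-- the sign of the commutator -/
noncomputable def sg (z a b : G) : G := if a * b = b * a then 1 else z

theorem Mem.sg_mul (hK : Mem Om z K) (h : W4 Om) {a b : G} (ha : a ∈ K) (hb : b ∈ K) :
    a * b = sg z a b * (b * a) := by
  unfold sg
  split_ifs with h1
  · rw [one_mul, h1]
  · exact (hK.comm_cases h ha hb).resolve_left h1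

theorem sg_cases (a b : G) : sg z a b = 1 ∨ sg z a b = z := by
  unfold sg; split_ifs
  · exact Or.inl rfl
  · exact Or.inr rfl

theorem Fr.pd_comm (f : Fr Om z F) (h : W4 Om) (hk : ∀ i, k i ∈ F i) (hm : ∀ i, m i ∈ F i) :
    pd k * pd m = pd (fun i => sg z (k i) (m i)) * (pd m * pd k) := by
  have hs : ∀ i, sg z (k i) (m i) ∈ F i := by
    intro i
    rcases sg_cases (z := z) (k i) (m i) with h1 | h1 <;> rw [h1]
    · exact one_mem _
    · exact (f.mem i).zmem h
  rw [f.pd_mul h hk hm, f.pd_mul h hm hk, f.pd_mul h hs fun i => mul_mem (hm i) (hk i)]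
  congr 1
  funext i
  exact (f.mem i).sg_mul h (hk i) (hm i)

theorem Fr.comm_iff_sign (f : Fr Om z F) (h : W4 Om) (hk : ∀ i, k i ∈ F i) (hm : ∀ i, m i ∈ F i) :
    pd k * pd m = pd m * pd k ↔ pd (fun i => sg z (k i) (m i)) = 1 := by
  have h1 := f.pd_comm h hk hm
  constructor
  · intro h2
    rw [h2] at h1
    exact mul_eq_right.1 h1.symm
  · intro h2
    rw [h1, h2, one_mul]

/-- the commutator depends only on the commutators of the components -/
theorem Fr.comm_iff (f : Fr Om z F) (h : W4 Om) (hk : ∀ i, k i ∈ F i) (hm : ∀ i, m i ∈ F i) (hn : ∀ i, n i ∈ F i)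
    (hc : ∀ i, k i * m i = m i * k i ↔ k i * n i = n i * k i) : pd k * pd m = pd m * pd k ↔ pd k * pd n = pd n * pd k := by
  rw [f.comm_iff_sign h hk hm, f.comm_iff_sign h hk hn]
  have h1 : (fun i => sg z (k i) (m i)) = fun i => sg z (k i) (n i) := by
    funext i
    unfold sg
    by_cases h2 : k i * m i = m i * k i
    · rw [if_pos h2, if_pos ((hc i).1 h2)]
    · rw [if_neg h2, if_neg fun h3 => h2 ((hc i).2 h3)]
  rw [h1]

/-- two non-commuting products: the number of non-commuting components is 1 or 3 -/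
theorem Fr.odd (f : Fr Om z F) (h : W4 Om) (hk : ∀ i, k i ∈ F i) (hm : ∀ i, m i ∈ F i)
    (hne : pd k * pd m ≠ pd m * pd k) :
    (∃ j, k j * m j ≠ m j * k j ∧ ∀ i, i ≠ j → k i * m i = m i * k i) ∨
      ∃ j, k j * m j = m j * k j ∧ ∀ i, i ≠ j → k i * m i ≠ m i * k i := by
  have hzz := f.inZ.z2 h
  rw [Ne, f.comm_iff_sign h hk hm] at hne
  unfold pd sg at hne
  have hall : ∀ p : Fin 4 → Prop, p 0 → p 1 → p 2 → p 3 → ∀ i, p i := by
    intro p h0 h1 h2 h3 i; fin_cases i <;> assumption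
  by_cases h0 : k 0 * m 0 = m 0 * k 0 <;> by_cases h1 : k 1 * m 1 = m 1 * k 1 <;>
    by_cases h2 : k 2 * m 2 = m 2 * k 2 <;> by_cases h3 : k 3 * m 3 = m 3 * k 3 <;>
    simp only [h0, h1, h2, h3, if_true, if_false, one_mul, mul_one, hzz, not_true_eq_false] at hne
  all_goals first
    | exact Or.inl ⟨0, h0, hall _ (fun e => absurd rfl e) (fun _ => h1) (fun _ => h2) (fun _ => h3)⟩
    | exact Or.inl ⟨1, h1, hall _ (fun _ => h0) (fun e => absurd rfl e) (fun _ => h2) (fun _ => h3)⟩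
    | exact Or.inl ⟨2, h2, hall _ (fun _ => h0) (fun _ => h1) (fun e => absurd rfl e) (fun _ => h3)⟩
    | exact Or.inl ⟨3, h3, hall _ (fun _ => h0) (fun _ => h1) (fun _ => h2) (fun e => absurd rfl e)⟩
    | exact Or.inr ⟨0, h0, hall _ (fun e => absurd rfl e) (fun _ => h1) (fun _ => h2) (fun _ => h3)⟩
    | exact Or.inr ⟨1, h1, hall _ (fun _ => h0) (fun e => absurd rfl e) (fun _ => h2) (fun _ => h3)⟩
    | exact Or.inr ⟨2, h2, hall _ (fun _ => h0) (fun _ => h1) (fun e => absurd rfl e) (fun _ => h3)⟩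
    | exact Or.inr ⟨3, h3, hall _ (fun _ => h0) (fun _ => h1) (fun _ => h2) (fun e => absurd rfl e)⟩

/-! ### `Large` -/

theorem Mem.as_one_of_center (hK : Mem Om z K) (h : W4 Om) {g y : G} (ha : As K g y) (hy : y = 1 ∨ y = z) :
    As K g 1 := by
  rcases hy with rfl | rfl
  · exact ha
  · refine ⟨one_mem _, fun k hk => ?_⟩
    rw [ha.2 k hk, ← hK.comm_z h hk, mul_inv_cancel_right, one_mul, inv_one, mul_one]

theorem Mem.sq_center (hK : Mem Om z K) (h : W4 Om) {y : G} (hy : y ∈ K) : y * y = 1 ∨ y * y = z := by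
  rcases hK.sq_cases h hy with rfl | rfl | h1
  · left; exact mul_one 1
  · left; exact hK.inZ.z2 h
  · exact Or.inr h1

theorem RZ_sq (hz : InZ Om z) (h : W4 Om) (hx : x ∈ RZ Om z) : x * x = 1 ∨ x * x = z := by
  refine RZ_center h hz (mul_mem hx hx) fun K hK => ?_
  obtain ⟨y, hy⟩ := exists_as_of_mem h hK hx
  exact hK.as_one_of_center h (hy.mul hy) (hK.sq_center h hy.1)

theorem RZ_comm (hz : InZ Om z) (h : W4 Om) (hx : x ∈ RZ Om z) {y : G} (hy : y ∈ RZ Om z) :
    x * y = y * x ∨ x * y = y * x * z := by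
  have hc : x * y * (y * x)⁻¹ = 1 ∨ x * y * (y * x)⁻¹ = z := by
    refine RZ_center h hz (mul_mem (mul_mem hx hy) (inv_mem (mul_mem hy hx))) fun K hK => ?_
    obtain ⟨a, ha⟩ := exists_as_of_mem h hK hx
    obtain ⟨b, hb⟩ := exists_as_of_mem h hK hy
    refine hK.as_one_of_center h ((ha.mul hb).mul (hb.mul ha).inv) ?_
    rcases hK.comm_cases h ha.1 hb.1 with h1 | h1
    · left; rw [h1, mul_inv_cancel]
    · right; rw [h1, mul_inv_cancel_right]
  rcases hc with h1 | h1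
  · left; rwa [mul_inv_eq_one] at h1
  · right
    rw [mul_inv_eq_iff_eq_mul] at h1
    rw [h1, RZ_le_centralizer h (mul_mem hy hx)]

theorem RZ_cent (hz : InZ Om z) (h : W4 Om) (hx : x ∈ RZ Om z) (hc : ∀ y ∈ RZ Om z, x * y = y * x) :
    x = 1 ∨ x = z :=
  RZ_center h hz hx fun _ hK => As.one_iff.2 fun k hk => hc k (hK.le_RZ hk)

/-- **`R_z` is extraspecial with `C_X(R_z) ≤ R_z`** -/
theorem large (hz : InZ Om z) (h : W4 Om) {X : Subgroup G} (hXR : RZ Om z ≤ X)
    (hX : ∀ n ∈ X, n ∈ CX Om z → n = 1 ∨ n = z) :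
    Large ((RZ Om z).subgroupOf X) (⟨z, hXR (z_mem_RZ hz h)⟩ : X) where
  z_mem := z_mem_RZ hz h
  z_ne := fun h1 => hz.z1 h (congrArg Subtype.val h1)
  z_sq := Subtype.ext (hz.z2 h)
  comm_z x hx := Subtype.ext (RZ_le_centralizer h hx)
  conj_mem g hg x hx := RZ_conj_comm h (congrArg Subtype.val hg) hx
  sq x hx := (RZ_sq hz h hx).imp (fun h1 => Subtype.ext h1) fun h1 => Subtype.ext h1
  comm x hx y hy := (RZ_comm hz h hx hy).imp (fun h1 => Subtype.ext h1) fun h1 => Subtype.ext h1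
  cent x hx hc := (RZ_cent hz h hx fun y hy =>
    congrArg Subtype.val (hc ⟨y, hXR hy⟩ hy)).imp (fun h1 => Subtype.ext h1) fun h1 => Subtype.ext h1
  self g _ hc := by
    have h1 : (g : G) ∈ CX Om z := mem_CX.2 fun K hK k hk =>
      congrArg Subtype.val (hc ⟨k, hXR (hK.le_RZ hk)⟩ (hK.le_RZ hk))
    change (g : G) ∈ RZ Om z
    rcases hX g g.2 h1 with h2 | h2 <;> rw [h2]
    · exact one_mem _
    · exact z_mem_RZ hz h

/-! ### The order -/

omit [Finite G] in
theorem card_mul_relIndex {H K : Subgroup G} (h : H ≤ K) : Nat.card H * H.relIndex K = Nat.card K := by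
  rw [Subgroup.relIndex, ← Nat.card_congr (Subgroup.subgroupOfEquivOfLe h).toEquiv]
  exact Subgroup.card_mul_index _

omit [Finite G] in
/-- `|K H| |K ∩ H| = |K| |H|` -/
theorem card_sup_mul {K H : Subgroup G} (h : H ≤ normalizer (K : Set G)) :
    Nat.card (K ⊔ H : Subgroup G) * Nat.card (K ⊓ H : Subgroup G) = Nat.card K * Nat.card H := by
  have hKn : (K.subgroupOf (K ⊔ H)).Normal :=
    normal_subgroupOf_of_le_normalizer (sup_le le_normalizer h)
  have h1 := relIndex_sup_left (H.subgroupOf (K ⊔ H)) (K.subgroupOf (K ⊔ H))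
  rw [← Subgroup.subgroupOf_sup le_sup_left le_sup_right, Subgroup.subgroupOf_self,
    Subgroup.relIndex_subgroupOf le_sup_right, relIndex_top_right] at h1
  have h2 : Nat.card K * K.relIndex H = Nat.card (K ⊔ H : Subgroup G) := by
    rw [← h1]
    exact card_mul_relIndex le_sup_left
  have h3 : Nat.card (K ⊓ H : Subgroup G) * K.relIndex H = Nat.card H := by
    rw [← Subgroup.inf_relIndex_right K H]
    exact card_mul_relIndex inf_le_right
  calc _ = Nat.card (K ⊔ H : Subgroup G) * Nat.card (K ⊓ H : Subgroup G) := rfl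
    _ = Nat.card K * (Nat.card (K ⊓ H : Subgroup G) * K.relIndex H) := by rw [← h2]; ring
    _ = _ := by rw [h3]

/-- **`|R_z| = 2 ^ 9`** -/
theorem card_RZ (hz : InZ Om z) (h : W4 Om) : Nat.card (RZ Om z) = 2 ^ 9 := by
  obtain ⟨F, f⟩ := hz.exists_fr h
  have hzz := hz.z2 h
  have hz1 := hz.z1 h
  have h8 : ∀ i, Nat.card (F i) = 8 := fun i => h.card _ (f.mem i).1
  have hZ : Nat.card (zpowers z) = 2 := by rw [Nat.card_zpowers, hz.orderOf h]
  have hzi : ∀ i, zpowers z ≤ F i := fun i => by rw [zpowers_le]; exact (f.mem i).zmem h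
  -- a product intersects the next member in `⟨z⟩`
  have step : ∀ (A : Subgroup G) (j : Fin 4), z ∈ A → (∀ a ∈ A, ∀ b ∈ F j, a * b = b * a) →
      Nat.card (A ⊔ F j : Subgroup G) * 2 = Nat.card A * 8 := by
    intro A j hzA hA
    have h1 : F j ≤ normalizer (A : Set G) := by
      intro b hb
      rw [mem_normalizer_iff]
      intro a
      constructor
      · intro ha
        rw [← hA a ha b hb, mul_inv_cancel_right]; exact ha
      · intro ha
        have h2 := hA _ ha b hb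
        have h3 : b * a * b⁻¹ * b = b * a := by group
        rw [h3] at h2
        have h4 := mul_left_cancel h2
        rw [h4]; exact ha
    have h2 := card_sup_mul h1
    have h3 : A ⊓ F j = zpowers z := by
      refine le_antisymm ?_ (le_inf (by rw [zpowers_le]; exact hzA) (hzi j))
      rintro a ⟨ha, hb⟩
      have h4 : As (F j) a 1 := As.one_iff.2 fun k hk => hA a ha k hk
      rcases (f.mem j).as_center h (As.self hb) h4 with rfl | rfl
      · exact one_mem _
      · exact mem_zpowers a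
    rw [h3, hZ, h8] at h2
    exact h2
  have hcm : ∀ {i j : Fin 4}, i ≠ j → ∀ a ∈ F i, ∀ b ∈ F j, a * b = b * a := fun hij a ha b hb =>
    (f.mem _).comm (f.mem _) h (f.ne hij) ha hb
  have sup : ∀ (A B C : Subgroup G), (∀ a ∈ A, ∀ b ∈ C, a * b = b * a) → (∀ a ∈ B, ∀ b ∈ C, a * b = b * a) →
      ∀ a ∈ (A ⊔ B : Subgroup G), ∀ b ∈ C, a * b = b * a := by
    intro A B C hA hB a ha b hb
    have h1 : A ⊔ B ≤ centralizer (C : Set G) := by
      refine sup_le ?_ ?_
      · intro a ha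
        rw [mem_centralizer_iff]
        exact fun b hb => (hA a ha b hb).symm
      · intro a ha
        rw [mem_centralizer_iff]
        exact fun b hb => (hB a ha b hb).symm
    exact (mem_centralizer_iff.1 (h1 ha) b hb).symm
  have s1 := step (F 0) 1 ((f.mem 0).zmem h) (hcm (by decide))
  have s2 := step (F 0 ⊔ F 1) 2 (le_sup_left (a := F 0) ((f.mem 0).zmem h)) (sup _ _ _ (hcm (by decide)) (hcm (by decide)))
  have s3 := step (F 0 ⊔ F 1 ⊔ F 2) 3 (le_sup_left (a := F 0 ⊔ F 1) (le_sup_left (a := F 0) ((f.mem 0).zmem h)))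
    (sup _ _ _ (sup _ _ _ (hcm (by decide)) (hcm (by decide))) (hcm (by decide)))
  rw [h8] at s1
  have e : RZ Om z = F 0 ⊔ F 1 ⊔ F 2 ⊔ F 3 := by
    refine le_antisymm (RZ_le fun M hM => ?_) ?_
    · obtain ⟨i, rfl⟩ := f.cov M hM
      fin_cases i
      · exact le_sup_left.trans (le_sup_left.trans le_sup_left)
      · exact le_sup_right.trans (le_sup_left.trans le_sup_left)
      · exact le_sup_right.trans le_sup_left
      · exact le_sup_right
    · exact sup_le (sup_le (sup_le (f.mem 0).le_RZ (f.mem 1).le_RZ) (f.mem 2).le_RZ) (f.mem 3).le_RZ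
  rw [e]
  omega

end Cfsg.Agent.Cit.Nil.RFour
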