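import Cfsg.Agent.Cit.Nil.RFour.TS
import Cfsg.Agent.Cit.Nil.RFour.World
import Cfsg.Agent.Cit.Nil.SCW

/-!
# `r = 4`, `m = 1`: SC (section 5 of `blueprints/CIT-6b-r4m1-helper449.md`)

* `W4.wd` : the world of `Cit.Nil.SC`;
* `W4.central` : `z` is central in every 2-subgroup containing a member over `z`;
* `W4.exists_sylow` : every Sylow 2-subgroup contains two members;
* `W4.false_of_closed` : no strongly closed commutative subgroup in `G0 = F*(G)`;
* `W4.sc` : **SC** : `N z ≤ C(z)` equivariant, `N z = N t` for commuting pairs: `N z = 1`;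
* `W4.N0_eq_of_comm` : `N0 z = N0 t` for all commuting pairs of `Z` (3.4);
* `CX_eq` : (5.1) from `CX_cases` and `N z = 1`;
* `W4.N0_eq_bot`, `W4.exists_ti_of_bot`, `W4.CX_eq_zpowers` : (5.1).
-/

set_option autoImplicit false
set_option linter.unusedSectionVars false

namespace Cfsg.Agent.Cit.Nil.RFour

open Subgroup Cfsg Cfsg.Agent.Cit
open Cfsg.Agent.Cit.Nil.ROne (FSimp)

variable {G : Type*} [Group G] [Finite G] {Om : Set (Subgroup G)} {G0 K L A : Subgroup G} {N : G → Subgroup G}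
  {z t g : G}

theorem W4.wd (h : W4 Om) (hne : Om.Nonempty) : SC.Wd Om where
  hyp := h.hyp
  two _ hK := h.isPGroup hK
  one := h.one
  dbl K hK := by
    obtain ⟨L, hL, h1⟩ := Mem.other (z := zz K) (K := K) ⟨hK, rfl⟩ h
    exact ⟨L, hL.1, h1.symm, hL.2⟩
  ne := hne

/-- `z` is central in `S ≥ K`, `K` a member over `z` -/
theorem W4.central (h : W4 Om) (hK : Mem Om z K) {S : Subgroup G} (hS : IsPGroup 2 S) (hKS : K ≤ S) {s : G}
    (hs : s ∈ S) : s * z = z * s := by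
  obtain ⟨hK, rfl⟩ := hK
  exact (h.wd ⟨K, hK⟩).central hS hK hKS hs

/-- two members in a common 2-group are over the same `z` -/
theorem W4.eq_of_le (h : W4 Om) (hK : Mem Om z K) (hL : Mem Om t L) {S : Subgroup G} (hS : IsPGroup 2 S)
    (hKS : K ≤ S) (hLS : L ≤ S) : z = t := by
  obtain ⟨hK, rfl⟩ := hK
  obtain ⟨hL, rfl⟩ := hL
  exact (h.wd ⟨K, hK⟩).zz_eq hS hK hL hKS hLS

/-- every Sylow 2-subgroup contains two members over the same `z` -/
theorem W4.exists_sylow (h : W4 Om) (hne : Om.Nonempty) (S : Sylow 2 G) :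
    ∃ z K L, Mem Om z K ∧ Mem Om z L ∧ K ≠ L ∧ K ≤ S ∧ L ≤ S := by
  obtain ⟨K, hK, L, hL, h1, h2, h3, h4⟩ := (h.wd hne).exists_two S
  exact ⟨zz K, K, L, ⟨hK, rfl⟩, ⟨hL, h2⟩, h1, h3, h4⟩

/-- **no strongly closed commutative subgroup in `G0`** -/
theorem W4.false_of_closed (h : W4 Om) (hne : Om.Nonempty) (f : FSimp G0) (hle : ∀ K ∈ Om, K ≤ G0)
    (gold : Cit.ROne.Gold G0) (hB : CloEnd.Bend G0) (S : Sylow 2 G) (hA : A ≠ ⊥) (hAG : A ≤ G0)
    (hc : ∀ x ∈ A, ∀ y ∈ A, x * y = y * x) (hsc : IsStronglyClosed A (S : Subgroup G)) : False :=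
  (h.wd hne).false_of_closed f hle gold hB S hA hAG hc hsc

/-- **SC** -/
theorem W4.sc (h : W4 Om) (f : FSimp G0) (hle : ∀ K ∈ Om, K ≤ G0) (gold : Cit.ROne.Gold G0)
    (hB : CloEnd.Bend G0)
    (h1173 : ∀ (S : Sylow 2 G) (T : Subgroup G), IsStronglyClosed T (S : Subgroup G) →
      ((⨅ n : ℕ, derivedSeries ↥(centralizer (T : Set G)) n).map (centralizer (T : Set G)).subtype).Normal)
    (cores : CF Om)
    (eqv : ∀ z, InZ Om z → ∀ g : G, N (g * z * g⁻¹) = cj g (N z))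
    (cent : ∀ z, InZ Om z → ∀ n ∈ N z, n * z = z * n)
    (comm : ∀ z t, InZ Om z → InZ Om t → z ≠ t → z * t = t * z → N z = N t) (hz : InZ Om z) : N z = ⊥ := by
  have key : ∀ K ∈ Om, InZ Om (zz K) := fun K hK => ⟨K, hK, rfl⟩
  obtain ⟨K, hK, rfl⟩ := hz
  refine (h.wd ⟨K, hK⟩).eq_bot f hle gold hB h1173 (fun K hK => cores _ (key K hK))
    (fun K hK g => eqv _ (key K hK) g) (fun K hK n hn => cent _ (key K hK) n hn) (fun K hK L hL hc => ?_) hK
  by_cases hne : zz K = zz L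
  · rw [hne]
  · exact comm _ _ (key K hK) (key L hL) hne hc

/-- (5.1) -/
theorem CX_eq (h : W4 Om) (hz : InZ Om z) (hN : N z = ⊥) (hcx : ∀ n ∈ CX Om z, n ∈ N z ∨ z * n ∈ N z) {n : G}
    (hn : n ∈ CX Om z) : n = 1 ∨ n = z := by
  rcases hcx n hn with h1 | h1
  · rw [hN, mem_bot] at h1; exact Or.inl h1
  · rw [hN, mem_bot] at h1
    right
    rw [← hz.inv h]
    exact eq_inv_of_mul_eq_one_right h1

/-- `N0 z = N0 t` for all commuting `z, t ∈ Z` -/
theorem W4.N0_eq_of_comm (h : W4 Om) (hexc : Exc Om) (hz : InZ Om z) (ht : InZ Om t) (hzt : z * t = t * z) :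
    N0 Om z = N0 Om t := by
  by_cases hne : z = t
  · rw [hne]
  rcases exists_common h hexc hz ht hne hzt with h1 | ⟨e, h1, h2⟩
  · exact h1.N0_eq h
  · rw [h1.N0_eq h, h2.N0_eq h]

/-- **`N0 z = 1`** -/
theorem W4.N0_eq_bot (h : W4 Om) (hexc : Exc Om) (f : FSimp G0) (hle : ∀ K ∈ Om, K ≤ G0)
    (gold : Cit.ROne.Gold G0) (hB : CloEnd.Bend G0)
    (h1173 : ∀ (S : Sylow 2 G) (T : Subgroup G), IsStronglyClosed T (S : Subgroup G) →
      ((⨅ n : ℕ, derivedSeries ↥(centralizer (T : Set G)) n).map (centralizer (T : Set G)).subtype).Normal)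
    (cores : CF Om) (hz : InZ Om z) : N0 Om z = ⊥ :=
  h.sc (N := N0 Om) f hle gold hB h1173 cores (fun _ _ g => N0_conj h g)
    (fun _ hz _ hn => mem_centralizer_singleton_iff.1 (N0_le h hz hn))
    (fun _ _ hz ht _ hzt => h.N0_eq_of_comm hexc hz ht hzt) hz

/-- every `z ∈ Z` has a type I neighbour -/
theorem W4.exists_ti_of_bot (h : W4 Om) (hz : InZ Om z) (hN : N0 Om z = ⊥) : ∃ t, TI Om z t := by
  by_contra hcon
  push Not at hcon
  have h1 : z ∈ N0 Om z := mem_N0.2 ⟨z_mem_CX h, fun t ht => absurd ht (hcon t)⟩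
  rw [hN, mem_bot] at h1
  exact hz.z1 h h1

/-- **(5.1)** -/
theorem W4.CX_eq_zpowers (h : W4 Om) (hz : InZ Om z) (hN : N0 Om z = ⊥) : CX Om z = zpowers z := by
  obtain ⟨t, hti⟩ := h.exists_ti_of_bot hz hN
  refine le_antisymm (fun n hn => ?_) (by rw [zpowers_le]; exact z_mem_CX h)
  rcases hti.N0_or h hn with h1 | h1
  · rw [hN, mem_bot] at h1
    rw [h1]; exact one_mem _
  · rw [hN, mem_bot] at h1
    have h2 : n = z⁻¹ := eq_inv_of_mul_eq_one_right h1
    rw [h2]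
    exact inv_mem (mem_zpowers z)

end Cfsg.Agent.Cit.Nil.RFour
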