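import Cfsg.Agent.Cit.Nil.RTwo.QLem

/-!
# S1309, (6b), (C3), `r = 4`, `m = 1`, section 3: preparations which do not use the world `W4`

* `Q3.transp` : an involution normalising `K`, not inner on `K`, inverts one axis and interchanges the others;
* `AA` : the elementary abelian group `{a | a² = 1, a t ∈ t^R}` (if `z t ∈ t^R`);
* `two_mul_card` : counting by centralisers.
-/

set_option autoImplicit false

namespace Cfsg.Agent.Cit.Nil.RFour.TSBase

open Subgroup Cfsg Cfsg.Agent.Cit Cfsg.Agent.Cit.Nil.RTwo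

variable {G : Type*} [Group G]

section Q3

variable {K : Subgroup G} {z t : G} {x : Fin 3 → G}

theorem perm_transp : ∀ σ : Equiv.Perm (Fin 3), σ * σ = 1 → σ ≠ 1 →
    ∃ i, σ (i + 1) = i + 2 ∧ σ (i + 2) = i + 1 := by decide

theorem perm_comm : ∀ σ τ : Equiv.Perm (Fin 3), σ * σ = 1 → τ * τ = 1 → σ * τ = τ * σ →
    σ = 1 ∨ τ = 1 ∨ σ * τ = 1 := by decide

/-- an involution normalising `K`, not inner on `K` -/
theorem transp (q : Q3 K z x) (ht2 : t * t = 1) (hg : cj t K = K) (htz : t * z = z * t)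
    (hni : ¬ ∀ k ∈ K, t * k * t⁻¹ = k ∨ t * k * t⁻¹ = z * k) :
    ∃ i, t * x i * t⁻¹ = z * x i ∧ (t * x (i + 1) * t⁻¹ = x (i + 2) ∨ t * x (i + 1) * t⁻¹ = z * x (i + 2)) := by
  obtain ⟨σ, hσ⟩ := q.exists_act q hg htz
  have h1 : σ ≠ 1 := by
    rintro rfl
    exact hni (hσ.inner q htz)
  have h2 : σ * σ = 1 := by
    have h3 := hσ.comp q.z2 hσ htz
    rw [ht2] at h3
    exact h3.unique q (Act.one x z)
  obtain ⟨i, hi1, hi2⟩ := perm_transp σ h2 h1
  have e1 := hσ (i + 1)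
  rw [hi1] at e1
  refine ⟨i, ?_, e1⟩
  have htt : ∀ g : G, t * (t * g * t⁻¹) * t⁻¹ = g := by
    intro g
    calc t * (t * g * t⁻¹) * t⁻¹ = (t * t) * g * (t * t)⁻¹ := by group
      _ = g := by rw [ht2]; group
  have hzc : ∀ g : G, t * (z * g) * t⁻¹ = z * (t * g * t⁻¹) := by
    intro g
    calc t * (z * g) * t⁻¹ = (t * z) * g * t⁻¹ := by group
      _ = (z * t) * g * t⁻¹ := by rw [htz]
      _ = _ := by group
  -- `t x_{i+2} t⁻¹`
  have e2 : (t * x (i + 1) * t⁻¹ = x (i + 2) ∧ t * x (i + 2) * t⁻¹ = x (i + 1)) ∨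
      (t * x (i + 1) * t⁻¹ = z * x (i + 2) ∧ t * x (i + 2) * t⁻¹ = z * x (i + 1)) := by
    rcases e1 with e1 | e1
    · left
      refine ⟨e1, ?_⟩
      rw [← e1, htt]
    · right
      refine ⟨e1, ?_⟩
      have h3 := htt (x (i + 1))
      rw [e1, hzc] at h3
      calc t * x (i + 2) * t⁻¹ = z * (z * (t * x (i + 2) * t⁻¹)) := (q.zzx _).symm
        _ = z * x (i + 1) := by rw [h3]
  have h4 : t * x i * t⁻¹ = (t * x (i + 1) * t⁻¹) * (t * x (i + 2) * t⁻¹) := by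
    rw [← q.mul12 i]; group
  rw [h4]
  rcases e2 with ⟨h5, h6⟩ | ⟨h5, h6⟩
  · rw [h5, h6, q.mul21]
  · rw [h5, h6]
    calc z * x (i + 2) * (z * x (i + 1)) = z * (x (i + 2) * z) * x (i + 1) := by group
      _ = z * (z * x (i + 2)) * x (i + 1) := by rw [q.zc]
      _ = x (i + 2) * x (i + 1) := by rw [q.zzx]
      _ = _ := q.mul21 i

/-- the conjugates of `t` under a normalised member -/
theorem conj_axis (q : Q3 K z x) {i : Fin 3} (h0 : t * x i * t⁻¹ = z * x i) :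
    x i * t * (x i)⁻¹ = z * t := by
  have h1 : t * (x i)⁻¹ * t⁻¹ = x i := by
    calc t * (x i)⁻¹ * t⁻¹ = (t * x i * t⁻¹)⁻¹ := by group
      _ = (x i)⁻¹ * z⁻¹ := by rw [h0]; group
      _ = z * x i * z := by rw [q.inv, q.zinv]
      _ = x i := by rw [mul_assoc, ← q.zc, q.zzx]
  calc x i * t * (x i)⁻¹ = x i * (t * (x i)⁻¹ * t⁻¹) * t := by group
    _ = z * t := by rw [h1, q.sq]

theorem conj_other (q : Q3 K z x) {i : Fin 3}
    (h0 : t * x (i + 1) * t⁻¹ = x (i + 2) ∨ t * x (i + 1) * t⁻¹ = z * x (i + 2)) :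
    x (i + 1) * t * (x (i + 1))⁻¹ = x i * t ∨ x (i + 1) * t * (x (i + 1))⁻¹ = z * x i * t := by
  have h1 : x (i + 1) * t * (x (i + 1))⁻¹ = x (i + 1) * (t * x (i + 1) * t⁻¹)⁻¹ * t := by group
  rw [h1]
  rcases h0 with h0 | h0
  · right
    rw [h0, q.inv, ← mul_assoc, ← q.zc, mul_assoc z, q.mul12]
  · left
    rw [h0, mul_inv_rev, q.inv, q.zinv]
    calc x (i + 1) * (z * x (i + 2) * z) * t = x (i + 1) * (z * (x (i + 2) * z)) * t := by group
      _ = x (i + 1) * (z * (z * x (i + 2))) * t := by rw [q.zc (i + 2)]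
      _ = _ := by rw [q.zzx, q.mul12]

end Q3

/-! ### The group `{a | a² = 1, a t ∈ t^R}` -/

section AA

variable {R : Subgroup G} {z t k : G}

/-- hypotheses for `AA` -/
structure Pre (R : Subgroup G) (z t k : G) : Prop where
  t2 : t * t = 1
  z2 : z * z = 1
  tz : t * z = z * t
  zr : ∀ r ∈ R, r * z = z * r
  rr : ∀ r ∈ R, ∀ s ∈ R, r * s * r⁻¹ = s ∨ r * s * r⁻¹ = z * s
  tn : ∀ r ∈ R, t * r * t⁻¹ ∈ R
  hk : k ∈ R
  kt : k * t * k⁻¹ = z * t

theorem Pre.mem (p : Pre R z t k) {a w : G} (hw : w ∈ R) (h : w * t * w⁻¹ = a * t) : a ∈ R := by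
  have h1 : a = w * (t * w⁻¹ * t⁻¹) := by
    calc a = (a * t) * t⁻¹ := by group
      _ = (w * t * w⁻¹) * t⁻¹ := by rw [h]
      _ = _ := by group
  rw [h1]
  exact mul_mem hw (p.tn _ (inv_mem hw))

theorem Pre.inverts (p : Pre R z t k) {a w : G} (h : w * t * w⁻¹ = a * t) : t * a * t⁻¹ = a⁻¹ := by
  have h1 : (a * t) * (a * t) = 1 := by
    rw [← h]
    calc w * t * w⁻¹ * (w * t * w⁻¹) = w * (t * t) * w⁻¹ := by group
      _ = 1 := by rw [p.t2]; group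
  have hti : t⁻¹ = t := inv_eq_of_mul_eq_one_right p.t2
  have h2 : a * (t * a * t⁻¹) = 1 := by
    rw [hti]
    calc a * (t * a * t) = (a * t) * (a * t) := by group
      _ = 1 := h1
  exact eq_inv_of_mul_eq_one_right h2

theorem Pre.zmul (p : Pre R z t k) {a w : G} (hw : w ∈ R) (h : w * t * w⁻¹ = a * t) :
    ∃ w' ∈ R, w' * t * w'⁻¹ = z * a * t := by
  refine ⟨w * k, mul_mem hw p.hk, ?_⟩
  calc w * k * t * (w * k)⁻¹ = w * (k * t * k⁻¹) * w⁻¹ := by group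
    _ = (w * z) * t * w⁻¹ := by rw [p.kt]; group
    _ = (z * w) * t * w⁻¹ := by rw [p.zr w hw]
    _ = z * (w * t * w⁻¹) := by group
    _ = _ := by rw [h]; group

theorem Pre.mul (p : Pre R z t k) {a b v w : G} (hv : v ∈ R) (hw : w ∈ R) (ha : v * t * v⁻¹ = a * t)
    (hb : w * t * w⁻¹ = b * t) : ∃ u ∈ R, u * t * u⁻¹ = b * a * t := by
  have h1 : v * w * t * (v * w)⁻¹ = (v * b * v⁻¹) * a * t := by
    calc v * w * t * (v * w)⁻¹ = v * (w * t * w⁻¹) * v⁻¹ := by group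
      _ = v * (b * t) * v⁻¹ := by rw [hb]
      _ = (v * b * v⁻¹) * (v * t * v⁻¹) := by group
      _ = _ := by rw [ha]; group
  have hvw : v * w ∈ R := mul_mem hv hw
  rcases p.rr v hv b (p.mem hw hb) with h2 | h2
  · exact ⟨v * w, hvw, by rw [h1, h2]⟩
  · rw [h2] at h1
    obtain ⟨u, hu, hu2⟩ := p.zmul hvw (a := z * b * a) h1
    refine ⟨u, hu, ?_⟩
    rw [hu2]
    calc z * (z * b * a) * t = (z * z) * b * a * t := by group
      _ = _ := by rw [p.z2, one_mul]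

theorem Pre.comm (p : Pre R z t k) {a b v w : G} (hv : v ∈ R) (hw : w ∈ R) (ha : v * t * v⁻¹ = a * t)
    (hb : w * t * w⁻¹ = b * t) : a * b = b * a := by
  obtain ⟨u, -, hu⟩ := p.mul hv hw ha hb
  have h1 := p.inverts hu
  have h2 : t * (b * a) * t⁻¹ = b⁻¹ * a⁻¹ := by
    calc t * (b * a) * t⁻¹ = (t * b * t⁻¹) * (t * a * t⁻¹) := by group
      _ = _ := by rw [p.inverts hb, p.inverts ha]
  rw [h2, mul_inv_rev] at h1
  have h3 : (a * b)⁻¹ = (b * a)⁻¹ := by rw [mul_inv_rev, mul_inv_rev, h1]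
  exact inv_injective h3

/-- `{a | a² = 1, a t ∈ t^R}` -/
def AA (p : Pre R z t k) : Subgroup G where
  carrier := {a | a * a = 1 ∧ ∃ w ∈ R, w * t * w⁻¹ = a * t}
  one_mem' := ⟨mul_one 1, 1, one_mem _, by group⟩
  mul_mem' := by
    rintro a b ⟨ha, v, hv, hva⟩ ⟨hb, w, hw, hwb⟩
    have hab := p.comm hv hw hva hwb
    refine ⟨?_, ?_⟩
    · calc a * b * (a * b) = a * (b * a) * b := by group
        _ = a * (a * b) * b := by rw [hab]
        _ = (a * a) * (b * b) := by group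
        _ = 1 := by rw [ha, hb, one_mul]
    · rw [hab]
      exact p.mul hv hw hva hwb
  inv_mem' := by
    rintro a ⟨ha, h⟩
    have h1 : a⁻¹ = a := inv_eq_of_mul_eq_one_right ha
    rw [h1]
    exact ⟨ha, h⟩

theorem mem_AA {p : Pre R z t k} {a : G} : a ∈ AA p ↔ a * a = 1 ∧ ∃ w ∈ R, w * t * w⁻¹ = a * t := Iff.rfl

theorem AA_le (p : Pre R z t k) {a : G} (ha : a ∈ AA p) : a ∈ R := by
  obtain ⟨-, w, hw, h⟩ := ha
  exact p.mem hw h

theorem AA_comm (p : Pre R z t k) {a : G} (ha : a ∈ AA p) : a * t = t * a := by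
  obtain ⟨h2, w, hw, h⟩ := ha
  have h1 := p.inverts h
  have h3 : a⁻¹ = a := inv_eq_of_mul_eq_one_right h2
  rw [h3, mul_inv_eq_iff_eq_mul] at h1
  exact h1.symm

theorem z_mem_AA (p : Pre R z t k) : z ∈ AA p := ⟨p.z2, k, p.hk, p.kt⟩

/-- counting with centralisers -/
theorem two_mul_card [Finite G] (H : Subgroup G) {m g : G} (hg : g ∈ H) (hm : g * m ≠ m * g) :
    2 * Nat.card ↥(H ⊓ centralizer {m} : Subgroup G) ≤ Nat.card H := by
  have h1 : (H ⊓ centralizer {m} : Subgroup G) < H := by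
    refine lt_of_le_of_ne inf_le_left fun h2 => hm ?_
    have h3 : g ∈ (H ⊓ centralizer {m} : Subgroup G) := by rw [h2]; exact hg
    have h4 := mem_centralizer_singleton_iff.1 h3.2
    exact h4
  obtain ⟨c, hc⟩ := card_dvd_of_le h1.le
  have hpos : 0 < Nat.card ↥(H ⊓ centralizer {m} : Subgroup G) := Nat.card_pos
  have hlt : Nat.card ↥(H ⊓ centralizer {m} : Subgroup G) < Nat.card H := by
    refine lt_of_le_of_ne (card_le_of_le h1.le) fun h2 => h1.ne ?_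
    exact eq_of_le_of_card_ge h1.le h2.ge
  rw [hc] at hlt ⊢
  have hc2 : 2 ≤ c := by
    rcases c with _ | _ | c
    · simp at hlt
    · simp at hlt
    · omega
  rw [mul_comm]
  exact Nat.mul_le_mul_left _ hc2

/-- three steps -/
theorem card_ge [Finite G] (H : Subgroup G) {z m₁ m₂ m₃ g₁ g₂ g₃ : G} (hz : z ∈ H) (hz1 : z ≠ 1)
    (z1 : z * m₁ = m₁ * z) (z2 : z * m₂ = m₂ * z) (z3 : z * m₃ = m₃ * z)
    (h1 : g₁ ∈ H) (n1 : g₁ * m₁ ≠ m₁ * g₁)
    (h2 : g₂ ∈ H) (c21 : g₂ * m₁ = m₁ * g₂) (n2 : g₂ * m₂ ≠ m₂ * g₂)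
    (h3 : g₃ ∈ H) (c31 : g₃ * m₁ = m₁ * g₃) (c32 : g₃ * m₂ = m₂ * g₃) (n3 : g₃ * m₃ ≠ m₃ * g₃) :
    16 ≤ Nat.card H := by
  have a1 := two_mul_card H h1 n1
  have a2 := two_mul_card (H ⊓ centralizer {m₁}) (m := m₂) (g := g₂)
    ⟨h2, mem_centralizer_singleton_iff.2 c21⟩ n2
  have a3 := two_mul_card (H ⊓ centralizer {m₁} ⊓ centralizer {m₂}) (m := m₃) (g := g₃)
    ⟨⟨h3, mem_centralizer_singleton_iff.2 c31⟩, mem_centralizer_singleton_iff.2 c32⟩ n3
  have a4 : 2 ≤ Nat.card ↥(H ⊓ centralizer {m₁} ⊓ centralizer {m₂} ⊓ centralizer {m₃} : Subgroup G) := by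
    have hmem : z ∈ (H ⊓ centralizer {m₁} ⊓ centralizer {m₂} ⊓ centralizer {m₃} : Subgroup G) :=
      ⟨⟨⟨hz, mem_centralizer_singleton_iff.2 z1⟩, mem_centralizer_singleton_iff.2 z2⟩,
        mem_centralizer_singleton_iff.2 z3⟩
    have : 1 < Nat.card ↥(H ⊓ centralizer {m₁} ⊓ centralizer {m₂} ⊓ centralizer {m₃} : Subgroup G) := by
      rw [Finite.one_lt_card_iff_nontrivial]
      exact ⟨⟨⟨z, hmem⟩, 1, fun h => hz1 (by simpa using congrArg Subtype.val h)⟩⟩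
    omega
  omega

end AA

end Cfsg.Agent.Cit.Nil.RFour.TSBase
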