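import Cfsg.Agent.Cit.Nil.RFour.TypeI
import Cfsg.Agent.Cit.Nil.RFour.TSBase

/-!
# S1309, (6b), (C3), `r = 4`, `m = 1`: pairs which are not of type I (section 3, (3.0)-(3.2), (3.4))

* `lemma16` : (3.1);
* `exists_conj` : (3.2): `t` fixes a member over `z` ⟹ `∃ w ∈ R_z, TI t (w t w⁻¹)`;
* `exists_common` : (3.4): every commuting pair of `Z` is of type I or has a common type I neighbour
  (input: `Exc` = (3.3)).
-/

set_option autoImplicit false
set_option linter.unusedSectionVars false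

namespace Cfsg.Agent.Cit.Nil.RFour

open Subgroup Cfsg Cfsg.Agent.Cit

open RTwo (Q3 Act)

variable {G : Type*} [Group G] [Finite G] {Om : Set (Subgroup G)} {K L M : Subgroup G} {t z : G}

theorem perm_fix : ∀ σ : Equiv.Perm (Fin 4), σ * σ = 1 → σ 0 = 0 → ∃ i, i ≠ 0 ∧ σ i = i := by decide

theorem perm_two : ∀ σ : Equiv.Perm (Fin 4), σ * σ = 1 → σ 0 = 0 → σ 1 = 1 → (σ 2 = 2 ∧ σ 3 = 3) ∨ σ 2 = 3 := by
  decide

/-- **(3.1)** -/
theorem lemma16 (h : W4 Om) (ht : InZ Om t) {A : Subgroup G} (hA : ∀ a ∈ A, a * a = 1)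
    (hAt : ∀ a ∈ A, a * t = t * a) (hAZ : ∀ a ∈ A, InZ Om (a * t)) (hc : 9 ≤ Nat.card A) :
    ∃ a ∈ A, TI Om t (a * t) := by
  obtain ⟨F, f⟩ := ht.exists_fr h
  have h1 : ∀ a : A, ∃ i, F i = cj (a : G) (F 0) := fun a => f.cov _ ((f.mem 0).cj_comm h (hAt a a.2))
  choose φ hφ using h1
  have : Fintype A := Fintype.ofFinite A
  obtain ⟨i, hi⟩ := Fintype.exists_lt_card_fiber_of_mul_lt_card (n := 2) φ (by
    rw [Fintype.card_fin, ← Nat.card_eq_fintype_card]; omega)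
  obtain ⟨a, ha, b, hb, c, hc', hab, hac, hbc⟩ := Finset.two_lt_card.1 hi
  simp only [Finset.mem_filter, Finset.mem_univ, true_and] at ha hb hc'
  -- `u = a⁻¹ b`, `v = a⁻¹ c`
  have hfix : ∀ b : A, φ b = i → cj ((a : G)⁻¹ * b) (F 0) = F 0 := by
    intro b hb
    rw [cj_mul, ← hφ b, hb, ← ha, hφ a, cj_inv_cj]
  obtain ⟨u, hu⟩ : ∃ u : G, u = (a : G)⁻¹ * b := ⟨_, rfl⟩
  obtain ⟨v, hv⟩ : ∃ v : G, v = (a : G)⁻¹ * c := ⟨_, rfl⟩
  have huA : u ∈ A := by rw [hu]; exact mul_mem (inv_mem a.2) b.2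
  have hvA : v ∈ A := by rw [hv]; exact mul_mem (inv_mem a.2) c.2
  have hu1 : u ≠ 1 := by
    intro h1
    rw [hu, inv_mul_eq_one] at h1
    exact hab (Subtype.ext h1)
  have hv1 : v ≠ 1 := by
    intro h1
    rw [hv, inv_mul_eq_one] at h1
    exact hac (Subtype.ext h1)
  have huv : u * v ≠ 1 := by
    intro h1
    have h2 : u = v := by
      have h3 := eq_inv_of_mul_eq_one_left h1
      rw [h3, inv_eq_of_mul_eq_one_right (hA v hvA)]
    rw [hu, hv] at h2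
    exact hbc (Subtype.ext (mul_left_cancel h2))
  have hufix : cj u (F 0) = F 0 := by rw [hu]; exact hfix b hb
  have hvfix : cj v (F 0) = F 0 := by rw [hv]; exact hfix c hc'
  have hcomm : u * v = v * u := by
    have h1 := hA _ (mul_mem huA hvA)
    have h2 : (u * v)⁻¹ = u * v := inv_eq_of_mul_eq_one_right h1
    rw [mul_inv_rev, inv_eq_of_mul_eq_one_right (hA u huA), inv_eq_of_mul_eq_one_right (hA v hvA)] at h2
    exact h2.symm
  obtain ⟨x, q⟩ := h.exists_q3 (f.mem 0)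
  obtain ⟨σ, hσ⟩ := q.exists_act q hufix (hAt u huA)
  obtain ⟨τ, hτ⟩ := q.exists_act q hvfix (hAt v hvA)
  have hσ2 : σ * σ = 1 := by
    have h3 := hσ.comp q.z2 hσ (hAt u huA)
    rw [hA u huA] at h3
    exact h3.unique q (Act.one x t)
  have hτ2 : τ * τ = 1 := by
    have h3 := hτ.comp q.z2 hτ (hAt v hvA)
    rw [hA v hvA] at h3
    exact h3.unique q (Act.one x t)
  have h3 : Act t x x (u * v) (σ * τ) := hτ.comp q.z2 hσ (hAt u huA)
  have h4 : Act t x x (v * u) (τ * σ) := hσ.comp q.z2 hτ (hAt v hvA)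
  have hστ : σ * τ = τ * σ := by
    rw [← hcomm] at h4
    exact h3.unique q h4
  -- an element `w ≠ 1` of `A` inner on `F 0`
  have key : ∀ w ∈ A, w ≠ 1 → Act t x x w 1 → ∃ a ∈ A, TI Om t (a * t) := by
    intro w hw hw1 hact
    refine ⟨w, hw, TI.of_one h (f.mem 0) (hAZ w hw) (fun h5 => hw1 (mul_eq_right.1 h5.symm)) ?_⟩
    intro k hk
    have h6 : w * t * k * (w * t)⁻¹ = w * k * w⁻¹ := by
      calc w * t * k * (w * t)⁻¹ = w * (t * k) * t⁻¹ * w⁻¹ := by group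
        _ = w * (k * t) * t⁻¹ * w⁻¹ := by rw [(f.mem 0).comm_z h hk]
        _ = _ := by group
    rw [h6]
    exact hact.inner q (hAt w hw) k hk
  rcases TSBase.perm_comm σ τ hσ2 hτ2 hστ with h5 | h5 | h5
  · exact key u huA hu1 (h5 ▸ hσ)
  · exact key v hvA hv1 (h5 ▸ hτ)
  · exact key (u * v) (mul_mem huA hvA) huv (h5 ▸ h3)

/-- `r s r⁻¹ ∈ {s, z s}` for `r, s ∈ R_z` -/
theorem RZ_rr (h : W4 Om) (hz : InZ Om z) {r s : G} (hr : r ∈ RZ Om z) (hs : s ∈ RZ Om z) :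
    r * s * r⁻¹ = s ∨ r * s * r⁻¹ = z * s := by
  obtain ⟨F, f⟩ := hz.exists_fr h
  obtain ⟨k, hk, rfl⟩ := (mem_RZ f h).1 hs
  have hz2 := hz.z2 h
  have hi := Inn.of_RZ hz h hr
  have key : ∀ a b : G, a * z = z * a → (r * a * r⁻¹ = a ∨ r * a * r⁻¹ = z * a) →
      (r * b * r⁻¹ = b ∨ r * b * r⁻¹ = z * b) → (r * (a * b) * r⁻¹ = a * b ∨ r * (a * b) * r⁻¹ = z * (a * b)) := by
    intro a b haz ha hb
    have h1 : r * (a * b) * r⁻¹ = (r * a * r⁻¹) * (r * b * r⁻¹) := by group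
    rw [h1]
    rcases ha with ha | ha <;> rcases hb with hb | hb <;> rw [ha, hb]
    · exact Or.inl rfl
    · right
      rw [← mul_assoc, haz, mul_assoc]
    · right
      rw [mul_assoc]
    · left
      calc z * a * (z * b) = z * (a * z) * b := by group
        _ = z * (z * a) * b := by rw [haz]
        _ = (z * z) * (a * b) := by group
        _ = _ := by rw [hz2, one_mul]
  have hc : ∀ i, k i * z = z * k i := fun i => (f.mem i).comm_z h (hk i)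
  have hp : ∀ i, r * k i * r⁻¹ = k i ∨ r * k i * r⁻¹ = z * k i := fun i => hi _ (f.mem i) _ (hk i)
  have c01 : k 0 * k 1 * z = z * (k 0 * k 1) := by rw [mul_assoc, hc 1, ← mul_assoc, hc 0, mul_assoc]
  have c012 : k 0 * k 1 * k 2 * z = z * (k 0 * k 1 * k 2) := by rw [mul_assoc, hc 2, ← mul_assoc, c01, mul_assoc]
  exact key _ _ c012 (key _ _ c01 (key _ _ (hc 0) (hp 0) (hp 1)) (hp 2)) (hp 3)

/-- the axis of a member normalised by `t` -/
theorem exists_axis (h : W4 Om) (ht : InZ Om t) (hne : z ≠ t) (hzt : z * t = t * z) (hn : ¬ TI Om z t)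
    (hM : Mem Om z M) (hfix : cj t M = M) :
    ∃ k b, k ∈ M ∧ b ∈ M ∧ k * k = z ∧ k * b ≠ b * k ∧ k * t * k⁻¹ = z * t ∧ b * t * b⁻¹ = k * t := by
  obtain ⟨x, q⟩ := h.exists_q3 hM
  obtain ⟨i, h1, h2⟩ := TSBase.transp q (ht.z2 h) hfix hzt.symm (fun hi => hn (TI.of_one h hM ht hne hi))
  have h3 := TSBase.conj_axis q h1
  have hanti : x i * x (i + 1) ≠ x (i + 1) * x i := by
    intro h4
    have h5 := q.sw (RTwo.i_ne1 i)
    rw [h4] at h5
    exact q.zne _ h5.symm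
  rcases TSBase.conj_other q h2 with h4 | h4
  · exact ⟨x i, x (i + 1), q.mem _, q.mem _, q.sq i, hanti, h3, h4⟩
  · refine ⟨z * x i, x (i + 1), mul_mem q.zmem (q.mem _), q.mem _, ?_, ?_, ?_, h4⟩
    · calc z * x i * (z * x i) = z * (x i * z) * x i := by group
        _ = z * (z * x i) * x i := by rw [q.zc]
        _ = z := by rw [q.zzx, q.sq]
    · intro h5
      apply hanti
      rw [mul_assoc, ← mul_assoc (x (i + 1)), ← q.zc, mul_assoc] at h5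
      exact mul_left_cancel h5
    · calc z * x i * t * (z * x i)⁻¹ = z * (x i * t * (x i)⁻¹) * z⁻¹ := by group
        _ = z * (z * t) * z⁻¹ := by rw [h3]
        _ = z * (t * z) * z⁻¹ := by rw [hzt]
        _ = _ := by group

/-- **(3.2)** -/
theorem exists_conj (h : W4 Om) (hz : InZ Om z) (ht : InZ Om t) (hne : z ≠ t) (hzt : z * t = t * z)
    (hn : ¬ TI Om z t) (hK : Mem Om z K) (hfix : cj t K = K) : ∃ w ∈ RZ Om z, TI Om t (w * t * w⁻¹) := by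
  have ht2 := ht.z2 h
  have hz2 := hz.z2 h
  -- a second member normalised by `t`
  obtain ⟨K', hK', hKK', hfix'⟩ : ∃ K', Mem Om z K' ∧ K ≠ K' ∧ cj t K' = K' := by
    obtain ⟨F, f, rfl⟩ := hK.exists_fr1 h
    have h1 : ∀ i, ∃ j, F j = cj t (F i) := fun i => f.cov _ ((f.mem i).cj_comm h hzt.symm)
    choose τ hτ using h1
    have hττ : ∀ i, τ (τ i) = i := by
      intro i
      apply f.inj
      rw [hτ, hτ, ← cj_mul, ht2, cj_one]
    have h0 : τ 0 = 0 := f.inj (by rw [hτ, hfix])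
    obtain ⟨i, hi0, hi⟩ := perm_fix ⟨τ, τ, hττ, hττ⟩ (Equiv.ext hττ) h0
    change τ i = i at hi
    exact ⟨F i, f.mem i, f.ne hi0.symm, by rw [← hτ, hi]⟩
  obtain ⟨F, f, rfl, rfl⟩ := hK.exists_fr2 hK' h hKK'
  have h1 : ∀ i, ∃ j, F j = cj t (F i) := fun i => f.cov _ ((f.mem i).cj_comm h hzt.symm)
  choose τ hτ using h1
  have hττ : ∀ i, τ (τ i) = i := by
    intro i
    apply f.inj
    rw [hτ, hτ, ← cj_mul, ht2, cj_one]
  have h0 : τ 0 = 0 := f.inj (by rw [hτ, hfix])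
  have h1' : τ 1 = 1 := f.inj (by rw [hτ, hfix'])
  obtain ⟨k₀, b₀, hk₀, hb₀, sq₀, n₀, kt₀, bt₀⟩ := exists_axis h ht hne hzt hn (f.mem 0) hfix
  obtain ⟨k₁, b₁, hk₁, hb₁, sq₁, n₁, kt₁, bt₁⟩ := exists_axis h ht hne hzt hn (f.mem 1) hfix'
  have p : TSBase.Pre (RZ Om z) z t k₀ :=
    { t2 := ht2
      z2 := hz2
      tz := hzt.symm
      zr := fun r hr => RZ_le_centralizer h hr
      rr := fun r hr s hs => RZ_rr h hz hr hs
      tn := fun r hr => RZ_conj_comm h hzt.symm hr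
      hk := (f.mem 0).le_RZ hk₀
      kt := kt₀ }
  have hcm : ∀ {i j : Fin 4} {a b : G}, i ≠ j → a ∈ F i → b ∈ F j → a * b = b * a := fun hij ha hb =>
    (f.mem _).comm (f.mem _) h (f.ne hij) ha hb
  -- products of two axes
  have hprod : ∀ {i j : Fin 4} {k b k' b' : G}, i ≠ j → k ∈ F i → b ∈ F i → k' ∈ F j → b' ∈ F j → k * k = z →
      k' * k' = z → b * t * b⁻¹ = k * t → b' * t * b'⁻¹ = k' * t → k * k' ∈ TSBase.AA p := by
    intro i j k b k' b' hij hk hb hk' hb' hsq hsq' hbt hbt'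
    refine ⟨?_, b' * b, mul_mem ((f.mem _).le_RZ hb') ((f.mem _).le_RZ hb), ?_⟩
    · calc k * k' * (k * k') = k * (k' * k) * k' := by group
        _ = k * (k * k') * k' := by rw [hcm hij hk hk']
        _ = (k * k) * (k' * k') := by group
        _ = 1 := by rw [hsq, hsq', hz2]
    · calc b' * b * t * (b' * b)⁻¹ = b' * (b * t * b⁻¹) * b'⁻¹ := by group
        _ = (b' * k) * t * b'⁻¹ := by rw [hbt]; group
        _ = (k * b') * t * b'⁻¹ := by rw [hcm hij hk hb']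
        _ = k * (b' * t * b'⁻¹) := by group
        _ = _ := by rw [hbt', mul_assoc]
  -- `k k'` does not commute with `b`
  have hnc : ∀ {i j : Fin 4} {k b k' : G}, i ≠ j → k ∈ F i → b ∈ F i → k' ∈ F j → k * b ≠ b * k →
      k * k' * b ≠ b * (k * k') := by
    intro i j k b k' hij hk hb hk' hkb h2
    apply hkb
    rw [mul_assoc, ← hcm hij hb hk', ← mul_assoc, ← mul_assoc] at h2
    exact mul_right_cancel h2
  have hcc : ∀ {i j l : Fin 4} {k k' m : G}, i ≠ l → j ≠ l → k ∈ F i → k' ∈ F j → m ∈ F l →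
      k * k' * m = m * (k * k') := by
    intro i j l k k' m hil hjl hk hk' hm
    rw [mul_assoc, hcm hjl hk' hm, ← mul_assoc, hcm hil hk hm, mul_assoc]
  have hzm : ∀ {i : Fin 4} {m : G}, m ∈ F i → z * m = m * z := fun hm => ((f.mem _).comm_z h hm).symm
  have hcard : 16 ≤ Nat.card (TSBase.AA p) := by
    have hdec := perm_two ⟨τ, τ, hττ, hττ⟩ (Equiv.ext hττ) h0 h1'
    change (τ 2 = 2 ∧ τ 3 = 3) ∨ τ 2 = 3 at hdec
    rcases hdec with ⟨h2, h3⟩ | h2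
    · -- all members are normalised
      obtain ⟨k₂, b₂, hk₂, hb₂, sq₂, n₂, kt₂, bt₂⟩ := exists_axis h ht hne hzt hn (f.mem 2) (by rw [← hτ, h2])
      obtain ⟨k₃, b₃, hk₃, hb₃, sq₃, n₃, kt₃, bt₃⟩ := exists_axis h ht hne hzt hn (f.mem 3) (by rw [← hτ, h3])
      exact TSBase.card_ge (TSBase.AA p) (TSBase.z_mem_AA p) (hz.z1 h) (hzm hb₀) (hzm hb₁) (hzm hb₂)
        (g₁ := k₀ * k₁) (g₂ := k₁ * k₂) (g₃ := k₂ * k₃)
        (hprod (by decide) hk₀ hb₀ hk₁ hb₁ sq₀ sq₁ bt₀ bt₁) (hnc (by decide) hk₀ hb₀ hk₁ n₀)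
        (hprod (by decide) hk₁ hb₁ hk₂ hb₂ sq₁ sq₂ bt₁ bt₂) (hcc (by decide) (by decide) hk₁ hk₂ hb₀)
        (hnc (by decide) hk₁ hb₁ hk₂ n₁)
        (hprod (by decide) hk₂ hb₂ hk₃ hb₃ sq₂ sq₃ bt₂ bt₃) (hcc (by decide) (by decide) hk₂ hk₃ hb₀)
        (hcc (by decide) (by decide) hk₂ hk₃ hb₁) (hnc (by decide) hk₂ hb₂ hk₃ n₂)
    · -- `F 2` and `F 3` are interchanged
      obtain ⟨x, q⟩ := h.exists_q3 (f.mem 2)
      have hF3 : F 3 = cj t (F 2) := by rw [← hτ, h2]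
      have hm3 : ∀ b ∈ F 2, (t * b * t⁻¹)⁻¹ ∈ F 3 := by
        intro b hb
        rw [hF3]; exact inv_mem (conj_mem_cj hb)
      have hA : ∀ b ∈ F 2, b * b = z → b * (t * b * t⁻¹)⁻¹ ∈ TSBase.AA p := by
        intro b hb hbb
        refine ⟨?_, b, (f.mem 2).le_RZ hb, by group⟩
        have h3 : (t * b * t⁻¹)⁻¹ * (t * b * t⁻¹)⁻¹ = z := by
          calc (t * b * t⁻¹)⁻¹ * (t * b * t⁻¹)⁻¹ = t * (b * b)⁻¹ * t⁻¹ := by group
            _ = (t * z) * t⁻¹ := by rw [hbb, hz.inv h]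
            _ = (z * t) * t⁻¹ := by rw [hzt]
            _ = z := by group
        calc b * (t * b * t⁻¹)⁻¹ * (b * (t * b * t⁻¹)⁻¹)
            = b * ((t * b * t⁻¹)⁻¹ * b) * (t * b * t⁻¹)⁻¹ := by group
          _ = b * (b * (t * b * t⁻¹)⁻¹) * (t * b * t⁻¹)⁻¹ := by
            rw [hcm (show (3 : Fin 4) ≠ 2 by decide) (hm3 b hb) hb]
          _ = (b * b) * ((t * b * t⁻¹)⁻¹ * (t * b * t⁻¹)⁻¹) := by group
          _ = 1 := by rw [hbb, h3, hz2]
      have hx : x 0 * x 1 ≠ x 1 * x 0 := q.not_comm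
      exact TSBase.card_ge (TSBase.AA p) (TSBase.z_mem_AA p) (hz.z1 h) (hzm hb₀) (hzm (q.mem 1)) (hzm (q.mem 0))
        (g₁ := k₀ * k₁) (g₂ := x 0 * (t * x 0 * t⁻¹)⁻¹) (g₃ := x 1 * (t * x 1 * t⁻¹)⁻¹)
        (hprod (by decide) hk₀ hb₀ hk₁ hb₁ sq₀ sq₁ bt₀ bt₁) (hnc (by decide) hk₀ hb₀ hk₁ n₀)
        (hA _ (q.mem 0) (q.sq 0)) (hcc (by decide) (by decide) (q.mem 0) (hm3 _ (q.mem 0)) hb₀)
        (hnc (by decide) (q.mem 0) (q.mem 1) (hm3 _ (q.mem 0)) hx)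
        (hA _ (q.mem 1) (q.sq 1)) (hcc (by decide) (by decide) (q.mem 1) (hm3 _ (q.mem 1)) hb₀)
        (by
          rw [mul_assoc, hcm (show (3 : Fin 4) ≠ 2 by decide) (hm3 _ (q.mem 1)) (q.mem 1)])
        (hnc (by decide) (q.mem 1) (q.mem 0) (hm3 _ (q.mem 1)) hx.symm)
  obtain ⟨a, ⟨-, w, hw, hwa⟩, hti⟩ := lemma16 h ht (A := TSBase.AA p) (fun a ha => ha.1)
    (fun a ha => TSBase.AA_comm p ha)
    (fun a ha => by
      obtain ⟨-, w, -, hw⟩ := ha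
      rw [← hw]; exact ht.conj h w) (by omega)
  exact ⟨w, hw, by rw [hwa]; exact hti⟩

/-! ### (3.4) -/

/-- (3.3) -/
def Exc (Om : Set (Subgroup G)) : Prop := ∀ z t : G, InZ Om z → InZ Om t → z ≠ t → z * t = t * z → ¬ TI Om z t →
  (∀ K, Mem Om z K → cj t K ≠ K) → (∀ L, Mem Om t L → cj z L ≠ L) → ∃ w ∈ RZ Om z, TI Om t (w * t * w⁻¹)

/-- the common neighbour in terms of a conjugate -/
theorem common_of (h : W4 Om) (hz : InZ Om z) (hzt : z * t = t * z) (hn : ¬ TI Om z t) {w : G}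
    (hw : w ∈ RZ Om z) (hti : TI Om t (w * t * w⁻¹)) : ∃ e, TI Om z e ∧ TI Om t e := by
  have h1 := hti.inZ_mul h
  have h2 := hti.mul_right h
  refine ⟨t * (w * t * w⁻¹), TI.of_mem_RZ h hz h1 ?_ ?_, h2⟩
  · intro h3
    apply hn
    rw [← h3] at h2
    exact h2.symm h
  · have h4 : t * (w * t * w⁻¹) = (t * w * t⁻¹) * (t * t) * w⁻¹ := by group
    rw [h4, hti.inZ.z2 h, mul_one]
    exact mul_mem (RZ_conj_comm h hzt.symm hw) (inv_mem hw)

/-- **(3.4)** -/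
theorem exists_common (h : W4 Om) (hexc : Exc Om) (hz : InZ Om z) (ht : InZ Om t) (hne : z ≠ t)
    (hzt : z * t = t * z) : TI Om z t ∨ ∃ e, TI Om z e ∧ TI Om t e := by
  by_cases hn : TI Om z t
  · exact Or.inl hn
  right
  by_cases h1 : ∃ K, Mem Om z K ∧ cj t K = K
  · obtain ⟨K, hK, hfix⟩ := h1
    obtain ⟨w, hw, hti⟩ := exists_conj h hz ht hne hzt hn hK hfix
    exact common_of h hz hzt hn hw hti
  have hn' : ¬ TI Om t z := fun h2 => hn (h2.symm h)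
  by_cases h2 : ∃ L, Mem Om t L ∧ cj z L = L
  · obtain ⟨L, hL, hfix⟩ := h2
    obtain ⟨w, hw, hti⟩ := exists_conj h ht hz hne.symm hzt.symm hn' hL hfix
    obtain ⟨e, he1, he2⟩ := common_of h ht hzt.symm hn' hw hti
    exact ⟨e, he2, he1⟩
  push Not at h1 h2
  obtain ⟨w, hw, hti⟩ := hexc z t hz ht hne hzt hn h1 h2
  exact common_of h hz hzt hn hw hti

end Cfsg.Agent.Cit.Nil.RFour
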