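import Cfsg.Agent.Cit.Nil.RFour.CaseTwo
import Cfsg.Agent.Cit.Nil.RFour.TS

/-!
# `r = 4`, `m = 1`, CASE 2 in the form used in `Asm.lean`
-/

set_option autoImplicit false
set_option linter.unusedSectionVars false

namespace Cfsg.Agent.Cit.Nil.RFour

open Subgroup Cfsg Cfsg.Agent.Cit

variable {G : Type*} [Group G] [Finite G] {Om : Set (Subgroup G)} {X : Subgroup G}

theorem Two.mk' (h : W4 Om) (hc : ∀ K ∈ Om, ∀ L ∈ Om, ∃ g, cj g K = L) (exc : Exc Om)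
    (c2 : ∀ z t t', TI Om z t → TI Om z t' → t * t' = t' * t) : Two Om where
  w := h
  comm := c2
  adj z t hz ht hne hzt := exists_common h exc hz ht hne hzt
  cls := hc

/-- **CASE 2** -/
theorem case_two (h : W4 Om) (hne : Om.Nonempty) (hc : ∀ K ∈ Om, ∀ L ∈ Om, ∃ g, cj g K = L) (exc : Exc Om)
    (c2 : ∀ z t t', TI Om z t → TI Om z t' → t * t' = t' * t) (hle : ∀ L ∈ Om, L ≤ X) :
    ∃ (S : Sylow 2 G) (A : Subgroup G), A ≠ ⊥ ∧ A ≤ X ∧ (∀ x ∈ A, ∀ y ∈ A, x * y = y * x) ∧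
      IsStronglyClosed A (S : Subgroup G) := by
  obtain ⟨K, hK⟩ := hne
  haveI : Fact (Nat.Prime 2) := ⟨Nat.prime_two⟩
  obtain ⟨S, hS⟩ := (h.isPGroup hK).exists_le_sylow
  have w := Two.mk' h hc exc c2
  obtain ⟨h1, h2, h3⟩ := w.exists_closed S (z := zz K) ⟨hK, rfl⟩ hS
  refine ⟨S, _, h3, ?_, h2, h1⟩
  rw [AZ, closure_le]
  rintro s ⟨⟨L, hL⟩, -⟩
  exact hle L hL.1 (hL.zmem h)

end Cfsg.Agent.Cit.Nil.RFour
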