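import Cfsg.Agent.Cit.Nil.RFour.CaseTwo
import Cfsg.Agent.Cit.Nil.RFour.Gen

/-!
# `r = 4`, `m = 1`: two type I neighbours which do not commute

`h : W4 Om`, the members over `z` are conjugate, `t`, `t'` type I neighbours of `z` with `t t' ≠ t' t`.

* `Fc.m` : the words are closed under third points;
* `exists_pair` : for `K ≠ L` over `z` there are type I neighbours `s`, `s'` with the same axis on `K` and different
  axes on `L`;
* `exists_ax` : for `K ≠ L` over `z`, `y ∈ K`, `x ∈ L` of order 4, some type I neighbour acts on `K` as `y` and on `L` as `x`;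
* `TI.exists_fix` : an involution (or `g² ∈ ⟨z⟩`) of `C(z)` fixes a type I neighbour up to `z`.
-/

set_option autoImplicit false
set_option linter.style.haveILetI false
set_option linter.unusedSectionVars false

namespace Cfsg.Agent.Cit.Nil.RFour

open Subgroup Cfsg Cfsg.Agent.Cit

open RTwo (Q3 Act)

/-! ### Ternary words -/

/-- `c + (a - b)` -/
def trw (a b c : Fin 4 → Fin 3) : Fin 4 → Fin 3 := fun i => -(b i + -(a i + c i))

theorem trw_eq {a b c : Fin 4 → Fin 3} {i : Fin 4} (h : a i = b i) : trw a b c i = c i := by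
  have key : ∀ a c : Fin 3, -(a + -(a + c)) = c := by decide
  unfold trw
  rw [← h]
  exact key _ _

theorem trw_reach {a b c : Fin 4 → Fin 3} {i : Fin 4} (h : a i ≠ b i) (p : Fin 3) :
    c i = p ∨ trw a b c i = p ∨ trw a b (trw a b c) i = p := by
  have key : ∀ a b c p : Fin 3, a ≠ b → c = p ∨ -(b + -(a + c)) = p ∨ -(b + -(a + -(b + -(a + c)))) = p := by
    decide
  exact key _ _ _ _ h

/-- projection onto two places -/
theorem proj_all {C : (Fin 4 → Fin 3) → Prop} (m : ∀ a b, C a → C b → C (fun i => -(a i + b i)))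
    {i j : Fin 4} {a b a' b' : Fin 4 → Fin 3} (ha : C a) (hb : C b) (hi : a i = b i) (hj : a j ≠ b j)
    (ha' : C a') (hb' : C b') (hi' : a' i ≠ b' i) (p q : Fin 3) :
    ∃ c, C c ∧ c i = p ∧ c j = q := by
  have tr : ∀ {a b c}, C a → C b → C c → C (trw a b c) := fun ha hb hc => m _ _ hb (m _ _ ha hc)
  -- the place `i`
  obtain ⟨c, hc, hcp⟩ : ∃ c, C c ∧ c i = p := by
    rcases trw_reach (c := a) hi' p with h1 | h1 | h1
    · exact ⟨_, ha, h1⟩
    · exact ⟨_, tr ha' hb' ha, h1⟩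
    · exact ⟨_, tr ha' hb' (tr ha' hb' ha), h1⟩
  rcases trw_reach (c := c) hj q with h1 | h1 | h1
  · exact ⟨_, hc, hcp, h1⟩
  · exact ⟨_, tr ha hb hc, by rw [trw_eq hi, hcp], h1⟩
  · exact ⟨_, tr ha hb (tr ha hb hc), by rw [trw_eq hi, trw_eq hi, hcp], h1⟩

variable {G : Type*} [Group G] [Finite G] {Om : Set (Subgroup G)} {K K' L L' M : Subgroup G}
  {z t t' g n x x' y y' u s s' p q v : G} {F : Fin 4 → Subgroup G} {c : Fin 4 → Fin 3 → G} {a b : Fin 4 → Fin 3}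

/-- the words are closed under third points -/
theorem Fc.m (f : Fc Om z F c) (h : W4 Om) (ha : InZ Om (PP c a)) (hb : InZ Om (PP c b)) :
    InZ Om (PP c (fun i => -(a i + b i))) := by
  have h1 := (f.ti_P h).2 ha
  obtain ⟨L, hL⟩ := ha
  obtain ⟨x, hx, -⟩ := (h1.symm h).exists_as h hL
  have h2 := ((f.ti_P h).2 hb).inT.conj h x
  exact f.inZ_of h h2 (f.refl_P h h1 hL hx (Or.inl rfl) (a := b))

/-- two words at odd distance -/
theorem Fc.odd_words (f : Fc Om z F c) (h : W4 Om) (hne : t * t' ≠ t' * t)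
    (ha : t = PP c a ∨ t = z * PP c a) (hb : t' = PP c b ∨ t' = z * PP c b) :
    (∃ j, a j ≠ b j ∧ ∀ i, i ≠ j → a i = b i) ∨ ∃ j, a j = b j ∧ ∀ i, i ≠ j → a i ≠ b i := by
  have hPP : PP c a * PP c b ≠ PP c b * PP c a := fun h1 => hne
    (sgn_comm (f.f.inZ.z2 h) (f.P_comm_z h a) (f.P_comm_z h b) _ _ ha hb h1)
  have hcm : ∀ i, c i (a i) * c i (b i) = c i (b i) * c i (a i) ↔ a i = b i := by
    intro i
    constructor
    · intro h1
      by_contra h2
      have h3 := (f.q i).anti h2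
      rw [h1, mul_assoc] at h3
      exact (f.q i).zne _ h3.symm
    · intro h1; rw [h1]
  have h1 := f.f.odd h (k := fun i => c i (a i)) (m := fun i => c i (b i)) (fun i => (f.q i).mem _)
    (fun i => (f.q i).mem _) hPP
  rcases h1 with ⟨j, h1, h2⟩ | ⟨j, h1, h2⟩
  · exact Or.inl ⟨j, fun h3 => h1 ((hcm j).2 h3), fun i hi => (hcm i).1 (h2 i hi)⟩
  · exact Or.inr ⟨j, (hcm j).1 h1, fun i hi h3 => h2 i hi ((hcm i).2 h3)⟩

/-- two neighbours with the same axis on `K` and different axes on `L` -/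
theorem exists_pair (h : W4 Om) (htr : ∀ K L, Mem Om z K → Mem Om z L → ∃ g, cj g K = L) (hti : TI Om z t)
    (hti' : TI Om z t') (hne : t * t' ≠ t' * t) (hK : Mem Om z K) (hL : Mem Om z L) (hKL : K ≠ L) :
    ∃ s s', TI Om z s ∧ TI Om z s' ∧ Same K s s' ∧ ¬ Same L s s' := by
  obtain ⟨F, c, f⟩ := exists_fc hti.inZ h
  obtain ⟨a, -, ha⟩ := f.exists_of_ti h hti
  obtain ⟨b, -, hb⟩ := f.exists_of_ti h hti'
  have move : ∀ {i : Fin 4} {M : Subgroup G}, Mem Om z M → ∃ g, cj g (F i) = M ∧ g * z = z * g := by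
    intro i M hM
    obtain ⟨g, hg⟩ := htr _ _ (f.f.mem i) hM
    refine ⟨g, hg, ?_⟩
    have h1 := (f.f.mem i).cj h g
    rw [hg] at h1
    have h2 : g * z * g⁻¹ = z := h1.2.symm.trans hM.2
    rwa [mul_inv_eq_iff_eq_mul] at h2
  have hcj : ∀ {g : G}, g * z = z * g → ∀ {s}, TI Om z s → TI Om z (g * s * g⁻¹) := by
    intro g hg s hs
    have h1 := hs.conj h g
    rwa [hg, mul_inv_cancel_right] at h1
  have back : ∀ {g : G} {i : Fin 4} {M : Subgroup G}, cj g (F i) = M → g * z = z * g → ∀ {N : Subgroup G},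
      Mem Om z N → N ≠ M → ∃ k, k ≠ i ∧ cj g (F k) = N := by
    intro g i M hM hg N hN hNM
    have h1 : Mem Om z (cj g⁻¹ N) := by
      have h2 := hN.cj h g⁻¹
      have h3 : g⁻¹ * z * g⁻¹⁻¹ = z := by rw [inv_inv, mul_assoc, ← hg, inv_mul_cancel_left]
      rwa [h3] at h2
    obtain ⟨k, hk⟩ := f.f.cov _ h1
    have h4 : cj g (F k) = N := by rw [hk, cj_cj_inv]
    refine ⟨k, ?_, h4⟩
    rintro rfl
    exact hNM (h4.symm.trans hM)
  have same_conj : ∀ {g : G} {M : Subgroup G}, Same (cj g M) (g * t * g⁻¹) (g * t' * g⁻¹) ↔ Same M t t' := by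
    intro g M
    constructor
    · intro h1
      have h2 := h1.conj g⁻¹
      have h5 : ∀ t, g⁻¹ * (g * t * g⁻¹) * g⁻¹⁻¹ = t := fun t => by group
      rwa [cj_inv_cj, h5, h5] at h2
    · intro h1; exact h1.conj g
  rcases f.odd_words h hne ha hb with ⟨j, h1, h2⟩ | ⟨j, h1, h2⟩
  · -- different on one member: move it to `L`
    obtain ⟨g, hg, hgz⟩ := move (i := j) hL
    obtain ⟨k, hk, hk'⟩ := back hg hgz hK hKL
    refine ⟨_, _, hcj hgz hti, hcj hgz hti', ?_, ?_⟩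
    · rw [← hk', same_conj, f.same_iff h ha hb]; exact h2 k hk
    · rw [← hg, same_conj, f.same_iff h ha hb]; exact h1
  · -- equal on one member: move it to `K`
    obtain ⟨g, hg, hgz⟩ := move (i := j) hK
    obtain ⟨k, hk, hk'⟩ := back hg hgz hL (Ne.symm hKL)
    refine ⟨_, _, hcj hgz hti, hcj hgz hti', ?_, ?_⟩
    · rw [← hg, same_conj, f.same_iff h ha hb]; exact h1
    · rw [← hk', same_conj, f.same_iff h ha hb]; exact h2 k hk

/-- **the words project onto all pairs of axes** -/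
theorem exists_ax (h : W4 Om) (htr : ∀ K L, Mem Om z K → Mem Om z L → ∃ g, cj g K = L) (hti : TI Om z t)
    (hti' : TI Om z t') (hne : t * t' ≠ t' * t) (hK : Mem Om z K) (hL : Mem Om z L) (hKL : K ≠ L)
    (hy : y ∈ K) (hyy : y * y = z) (hx : x ∈ L) (hxx : x * x = z) : ∃ v, TI Om z v ∧ As K v y ∧ As L v x := by
  obtain ⟨F, c, f⟩ := exists_fc hti.inZ h
  obtain ⟨i, rfl⟩ := f.f.cov K hK
  obtain ⟨j, rfl⟩ := f.f.cov L hL
  obtain ⟨s1, s2, h1, h2, h3, h4⟩ := exists_pair h htr hti hti' hne hK hL hKL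
  obtain ⟨s3, s4, h5, h6, h7, h8⟩ := exists_pair h htr hti hti' hne hL hK (Ne.symm hKL)
  obtain ⟨a1, ha1, e1⟩ := f.exists_of_ti h h1
  obtain ⟨a2, ha2, e2⟩ := f.exists_of_ti h h2
  obtain ⟨a3, ha3, e3⟩ := f.exists_of_ti h h5
  obtain ⟨a4, ha4, e4⟩ := f.exists_of_ti h h6
  rw [f.same_iff h e1 e2] at h3 h4
  rw [f.same_iff h e3 e4] at h8
  obtain ⟨p, hp⟩ := (f.q i).of_sq hy hyy
  obtain ⟨q, hq⟩ := (f.q j).of_sq hx hxx
  obtain ⟨d, hd, hdp, hdq⟩ := proj_all (C := fun a => InZ Om (PP c a)) (fun a b ha hb => f.m h ha hb)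
    ha1 ha2 h3 h4 ha3 ha4 h8 p q
  refine ⟨PP c d, (f.ti_P h).2 hd, ?_, ?_⟩
  · have h9 := f.as_P h d i
    rw [hdp] at h9
    exact h9.of_eq hK h hp
  · have h9 := f.as_P h d j
    rw [hdq] at h9
    exact h9.of_eq hL h hq

/-! ### Fixed words -/

theorem Third.symm' (h : W4 Om) (hK : Mem Om z K) (h1 : Third K p q v) : Third K q p v := by
  rcases h1 with ⟨y, h2, h3, h4⟩ | ⟨y, y', h2, h3, h4, h5⟩
  · exact Or.inl ⟨y, h3, h2, h4⟩
  · refine Or.inr ⟨y', y, h3, h2, fun h6 => h4 h6.symm, h5.of_eq hK h ?_⟩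
    rcases hK.comm_cases h h3.1 h2.1 with h6 | h6
    · exact absurd h6.symm h4
    · exact Or.inr h6

theorem Third.of_mul_z (h : W4 Om) (hK : Mem Om z K) {w : G} (h1 : Third K p q v) (hw : w = q ∨ w = z * q) :
    Third K p w v := by
  rcases hw with rfl | rfl
  · exact h1
  rcases h1 with ⟨y, h2, h3, h4⟩ | ⟨y, y', h2, h3, h4, h5⟩
  · refine Or.inl ⟨y, h2, ?_, h4⟩
    have := (hK.as_z h).mul h3
    rwa [one_mul] at this
  · refine Or.inr ⟨y, y', h2, ?_, h4, h5⟩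
    have := (hK.as_z h).mul h3
    rwa [one_mul] at this

/-- an element of `C(z)` with square in `⟨z⟩` fixes a type I neighbour of `z` up to `z` -/
theorem TI.exists_fix (hti : TI Om z t) (h : W4 Om) (hg : g * z = z * g) (hgg : g * g = 1 ∨ g * g = z) :
    ∃ v, TI Om z v ∧ (g * v * g⁻¹ = v ∨ g * v * g⁻¹ = z * v) := by
  obtain ⟨F, c, f⟩ := exists_fc hti.inZ h
  have hcj : ∀ {s}, TI Om z s → TI Om z (g * s * g⁻¹) := by
    intro s hs
    have h1 := hs.conj h g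
    rwa [hg, mul_inv_cancel_right] at h1
  obtain ⟨a, ha, ha'⟩ := f.exists_of_ti h hti
  obtain ⟨b, hb, hb'⟩ := f.exists_of_ti h (hcj hti)
  obtain ⟨e, he⟩ : ∃ e, e = fun i => -(a i + b i) := ⟨_, rfl⟩
  have hv : TI Om z (PP c e) := (f.ti_P h).2 (by rw [he]; exact f.m h ha hb)
  refine ⟨PP c e, hv, ?_⟩
  have h3 : ∀ i, Third (F i) (PP c a) (PP c b) (PP c e) := fun i => f.third h (Or.inl rfl) (fun i => by rw [he]) i
  have h4 : ∀ M, Mem Om z M → Third M t (g * t * g⁻¹) (PP c e) := by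
    intro M hM
    obtain ⟨i, rfl⟩ := f.f.cov M hM
    exact (((h3 i).of_mul_z h hM hb').symm' h hM |>.of_mul_z h hM ha').symm' h hM
  refine eq_or_of_as h hti.inZ (hv.mem_RZ h) ((hcj hv).mem_RZ h) fun M hM => ?_
  -- conjugate by `g`
  have hM' : Mem Om z (cj g⁻¹ M) := by
    have h2 := hM.cj h g⁻¹
    have h3 : g⁻¹ * z * g⁻¹⁻¹ = z := by rw [inv_inv, mul_assoc, ← hg, inv_mul_cancel_left]
    rwa [h3] at h2
  have h5 := (h4 _ hM').conj g
  rw [cj_cj_inv] at h5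
  have hggt : g * (g * t * g⁻¹) * g⁻¹ = t := by
    have h6 : g * (g * t * g⁻¹) * g⁻¹ = (g * g) * t * (g * g)⁻¹ := by group
    rw [h6]
    rcases hgg with h7 | h7
    · rw [h7, one_mul, inv_one, mul_one]
    · rw [h7, hti.comm, mul_inv_cancel_right]
  rw [hggt] at h5
  exact (h4 M hM).unique h hM (h5.symm' h hM)

end Cfsg.Agent.Cit.Nil.RFour
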